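import Cfsg.Agent.GlaubermanCorr.Step
import Cfsg.Agent.Char.Orthogonality
import Mathlib.GroupTheory.PGroup
import Mathlib.Algebra.Field.ZMod

/-!
# A group normalizing a subgroup acting on its irreducible characters; sums modulo `p`
-/

namespace CfsgLib.GlaubermanCorr

open Finset Cfsg MulAction

variable {G : Type*} [Group G]

/-- Conjugation by an element of a subgroup `P` normalizing `H`, as an automorphism of `H`. -/
def conjSub {P H : Subgroup G} (hPH : P ≤ Subgroup.normalizer (H : Set G)) (y : ↥P) : ↥H ≃* ↥H where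
  toFun h := ⟨(y : G) * h * (y : G)⁻¹, (Subgroup.mem_normalizer_iff.mp (hPH y.2) h).mp h.2⟩
  invFun h := ⟨(y : G)⁻¹ * h * (y : G), by
    have := (Subgroup.mem_normalizer_iff.mp (hPH (inv_mem y.2)) h).mp h.2
    simpa using this⟩
  left_inv h := Subtype.ext (by simp [mul_assoc])
  right_inv h := Subtype.ext (by simp [mul_assoc])
  map_mul' h h' := Subtype.ext (by simp [mul_assoc])

theorem conjSub_coe {P H : Subgroup G} (hPH : P ≤ Subgroup.normalizer (H : Set G)) (y : ↥P) (h : ↥H) :
    ((conjSub hPH y h : ↥H) : G) = (y : G) * h * (y : G)⁻¹ := rfl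

/-- The action of `P` on the irreducible characters of a subgroup it normalizes. -/
@[implicit_reducible]
noncomputable def charAction {P H : Subgroup G} (hPH : P ≤ Subgroup.normalizer (H : Set G)) :
    MulAction ↥P (IrrCharacter ↥H) where
  smul y χ := ⟨fun h => (χ : ↥H → ℂ) (conjSub hPH y⁻¹ h),
    CfsgLib.Char.IsIrrCharacter.comp_surjective χ.2 (conjSub hPH y⁻¹).toMonoidHom (conjSub hPH y⁻¹).surjective⟩
  one_smul χ := Subtype.ext (funext fun h =>
    congrArg (χ : ↥H → ℂ) (Subtype.ext (by rw [conjSub_coe]; simp)))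
  mul_smul y z χ := Subtype.ext (funext fun h =>
    congrArg (χ : ↥H → ℂ) (Subtype.ext (by simp only [conjSub_coe, Subgroup.coe_inv, Subgroup.coe_mul]; group)))

theorem charAction_fixed {P H : Subgroup G} (hPH : P ≤ Subgroup.normalizer (H : Set G)) (χ : IrrCharacter ↥H) :
    χ ∈ @fixedPoints ↥P (IrrCharacter ↥H) _ (charAction hPH) ↔ ∀ y ∈ P, InvBy H y (χ : ↥H → ℂ) := by
  letI := charAction hPH
  constructor
  · intro hfix y hy k k' hk
    have := congrArg (fun ψ : IrrCharacter ↥H => (ψ : ↥H → ℂ) k') (hfix (⟨y, hy⟩ : ↥P))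
    change (χ : ↥H → ℂ) (conjSub hPH _ k') = (χ : ↥H → ℂ) k' at this
    rw [show conjSub hPH _ k' = k from Subtype.ext (by rw [conjSub_coe, hk]; simp [mul_assoc])] at this
    exact this.symm
  · intro hinv y
    refine Subtype.ext (funext fun h => ?_)
    refine hinv ((y⁻¹ : ↥P) : G) (y⁻¹).2 h _ ?_
    rw [conjSub_coe]

theorem classInner_charAction [Fintype G] {P H C : Subgroup G} [Fintype ↥C] (hCH : C ≤ H)
    (hPH : P ≤ Subgroup.normalizer (H : Set G)) (hPC : P ≤ Subgroup.normalizer (C : Set G)) (y : ↥P)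
    (χ : IrrCharacter ↥H) (ψ : IrrCharacter ↥C) :
    classInner (fun c : ↥C => (((charAction hPH).smul y χ : IrrCharacter ↥H) : ↥H → ℂ) ⟨c, hCH c.2⟩)
      (((charAction hPC).smul y ψ : IrrCharacter ↥C) : ↥C → ℂ) =
    classInner (fun c : ↥C => (χ : ↥H → ℂ) ⟨c, hCH c.2⟩) (ψ : ↥C → ℂ) := by
  rw [← classInner_comp_equiv (conjSub hPC y⁻¹) (fun c : ↥C => (χ : ↥H → ℂ) ⟨c, hCH c.2⟩)]
  rfl

/-- A sum modulo `p` of an invariant function reduces to the fixed points of a `p`-group. -/
theorem sum_eq_sum_fixed {p : ℕ} [Fact p.Prime] {P α : Type*} [Group P] (hP : IsPGroup p P) [MulAction P α]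
    [Fintype α] [DecidablePred (· ∈ fixedPoints P α)] (F : α → ZMod p) (hF : ∀ (y : P) (a : α), F (y • a) = F a) :
    ∑ a, F a = ∑ a ∈ univ.filter (· ∈ fixedPoints P α), F a := by
  classical
  rw [← sum_fiberwise univ F F, ← sum_fiberwise (univ.filter (· ∈ fixedPoints P α)) F F]
  refine sum_congr rfl fun v _ => ?_
  rw [sum_congr rfl (g := fun _ => v) (fun a ha => (mem_filter.mp ha).2),
    sum_congr rfl (g := fun _ => v) (fun a ha => (mem_filter.mp ha).2), sum_const, sum_const,
    nsmul_eq_mul, nsmul_eq_mul]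
  congr 1
  let S : SubMulAction P α := ⟨{a | F a = v}, fun y a (ha : F a = v) => (hF y a).trans ha⟩
  have h1 := hP.card_modEq_card_fixedPoints ↥S
  rw [ZMod.natCast_eq_natCast_iff]
  convert h1 using 1
  · rw [← Fintype.card_subtype, ← Nat.card_eq_fintype_card]; rfl
  · rw [filter_filter, ← Fintype.card_subtype, ← Nat.card_eq_fintype_card]
    exact Nat.card_congr
      { toFun := fun a => ⟨⟨a.1, a.2.2⟩, fun y => Subtype.ext (a.2.1 y)⟩
        invFun := fun a => ⟨a.1.1, fun y => congrArg Subtype.val (a.2 y), a.1.2⟩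
        left_inv := fun _ => rfl
        right_inv := fun _ => rfl }

/-- If an element fixes exactly one point, a `p`-group containing it fixes that point. -/
theorem fixed_of_unique_fixed {p : ℕ} [Fact p.Prime] {P α : Type*} [Group P] (hP : IsPGroup p P) [MulAction P α]
    [Finite α] (y : P) (a₀ : α) (h : ∀ a : α, y • a = a ↔ a = a₀) : a₀ ∈ fixedPoints P α := by
  classical
  have _ : Fintype α := Fintype.ofFinite _
  have hy : IsPGroup p ↥(Subgroup.zpowers y) := hP.to_subgroup _
  have h1 : Nat.card ↥(fixedPoints ↥(Subgroup.zpowers y) α) = 1 := by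
    rw [Nat.card_eq_one_iff_unique]
    have hmem : ∀ a, a ∈ fixedPoints ↥(Subgroup.zpowers y) α ↔ a = a₀ := by
      intro a
      refine ⟨fun ha => (h a).mp (ha ⟨y, Subgroup.mem_zpowers y⟩), fun ha z => ?_⟩
      obtain ⟨z, hz⟩ := z
      have : y ∈ MulAction.stabilizer P a := (h a).mpr ha
      exact (Subgroup.zpowers_le.mpr this) hz
    exact ⟨⟨fun a b => Subtype.ext (((hmem _).mp a.2).trans ((hmem _).mp b.2).symm)⟩,
      ⟨⟨a₀, (hmem a₀).mpr rfl⟩⟩⟩
  have e1 := hy.card_modEq_card_fixedPoints α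
  have e2 := hP.card_modEq_card_fixedPoints α
  rw [h1] at e1
  have e3 : Nat.card ↥(fixedPoints P α) ≡ 1 [MOD p] := e2.symm.trans e1
  have hne : Nonempty ↥(fixedPoints P α) := by
    by_contra hc
    rw [not_nonempty_iff] at hc
    rw [Nat.card_of_isEmpty] at e3
    have := (Nat.modEq_zero_iff_dvd.mp e3.symm)
    exact (Fact.out : p.Prime).not_dvd_one this
  obtain ⟨⟨a, ha⟩⟩ := hne
  rwa [← (h a).mp (ha y)]

end CfsgLib.GlaubermanCorr
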