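import Cfsg.Agent.GlaubermanCorr.Main
import Cfsg.Agent.Solvable.Glauberman
import Mathlib.GroupTheory.Solvable

/-!
# The correspondence for a solvable group of operators of coprime order
-/

namespace CfsgLib.GlaubermanCorr

open Finset Cfsg MulAction

universe u

variable {G : Type u} [Group G]

/-- `χ'` is the image of `χ` under conjugation by `a`. -/
def Moves (H : Subgroup G) (a : G) (χ χ' : ↥H → ℂ) : Prop :=
  ∀ k k' : ↥H, (k' : G) = a * k * a⁻¹ → χ' k' = χ k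

theorem charAction_moves {P H : Subgroup G} (hPH : P ≤ Subgroup.normalizer (H : Set G)) (y : ↥P)
    (χ : IrrCharacter ↥H) :
    Moves H (y : G) (χ : ↥H → ℂ) (((charAction hPH).smul y χ : IrrCharacter ↥H) : ↥H → ℂ) := fun k k' e => by
  change (χ : ↥H → ℂ) (conjSub hPH y⁻¹ k') = (χ : ↥H → ℂ) k
  rw [show conjSub hPH y⁻¹ k' = k from Subtype.ext (by rw [conjSub_coe, e]; simp [mul_assoc])]

theorem moves_unique {P H : Subgroup G} (hPH : P ≤ Subgroup.normalizer (H : Set G)) (y : ↥P)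
    (χ χ' : IrrCharacter ↥H) (h : Moves H (y : G) (χ : ↥H → ℂ) (χ' : ↥H → ℂ)) :
    χ' = (charAction hPH).smul y χ := by
  refine Subtype.ext (funext fun k => ?_)
  change (χ' : ↥H → ℂ) k = (χ : ↥H → ℂ) (conjSub hPH y⁻¹ k)
  exact h _ k (by simp [conjSub_coe, mul_assoc])

/-- A proper subgroup of a solvable group with `p`-group quotient, fixed by all automorphisms. -/
theorem exists_below [Finite G] {S : Subgroup G} (hs : Group.IsSolvable ↥S) (hne : S ≠ ⊥) :
    ∃ (p : ℕ) (T : Subgroup G), p.Prime ∧ T < S ∧ p ∣ Nat.card ↥S ∧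
      (∀ a ∈ Subgroup.normalizer (S : Set G), ∀ b ∈ T, a * b * a⁻¹ ∈ T) ∧
      ∃ P ≤ S, IsPGroup p ↥P ∧ T ⊔ P = S := by
  have : Nontrivial ↥S := (Subgroup.nontrivial_iff_ne_bot S).mpr hne
  have hD : commutator ↥S ≠ ⊤ := (Group.IsSolvable.commutator_lt_top_of_nontrivial ↥S).ne
  set A := ↥S ⧸ commutator ↥S
  have hA : 1 < Nat.card A := by
    rw [← Subgroup.index_eq_card]
    exact Subgroup.one_lt_index_of_ne_top hD
  set p := (Nat.card A).minFac
  have hp : p.Prime := Nat.minFac_prime hA.ne'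
  have hpA : p ∣ Nat.card A := Nat.minFac_dvd _
  obtain ⟨k, m, hm, hcard⟩ := Nat.exists_eq_pow_mul_and_not_dvd (Nat.pos_of_ne_zero (by omega : Nat.card A ≠ 0)).ne' p hp.ne_one
  let f : ↥S →* A :=
    { toFun := fun g => (QuotientGroup.mk g : A) ^ m
      map_one' := by simp
      map_mul' := fun g h => by
        rw [QuotientGroup.mk_mul]
        exact Commute.mul_pow (Abelianization.commGroup (G := ↥S) |>.mul_comm _ _) m }
  refine ⟨p, f.ker.map S.subtype, hp, lt_of_le_of_ne (Subgroup.map_subtype_le _) ?_, ?_, ?_, ?_⟩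
  · intro heq
    have htop : f.ker = ⊤ := Subgroup.map_injective S.subtype_injective
      (heq.trans (S.range_subtype.symm.trans (MonoidHom.range_eq_map _)))
    have := Fact.mk hp
    obtain ⟨a, ha⟩ := exists_prime_orderOf_dvd_card' (G := A) p hpA
    obtain ⟨g, rfl⟩ := QuotientGroup.mk_surjective a
    have hg : f g = 1 := MonoidHom.mem_ker.mp (htop ▸ Subgroup.mem_top g)
    have := orderOf_dvd_of_pow_eq_one (show (QuotientGroup.mk g : A) ^ m = 1 from hg)
    rw [ha] at this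
    exact hm this
  · exact hpA.trans (Subgroup.card_quotient_dvd_card _)
  · intro a ha b hb
    obtain ⟨b, hb, rfl⟩ := hb
    let e : ↥S ≃* ↥S :=
      { toFun := fun s => ⟨a * s * a⁻¹, (Subgroup.mem_normalizer_iff.mp ha s).mp s.2⟩
        invFun := fun s => ⟨a⁻¹ * s * a, (Subgroup.mem_normalizer_iff''.mp ha s).mp s.2⟩
        left_inv := fun s => Subtype.ext (by simp [mul_assoc])
        right_inv := fun s => Subtype.ext (by simp [mul_assoc])
        map_mul' := fun s t => Subtype.ext (by simp [mul_assoc]) }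
    refine ⟨e b, ?_, rfl⟩
    have hb' : b ^ m ∈ commutator ↥S := by
      rw [← QuotientGroup.eq_one_iff, QuotientGroup.mk_pow]; exact hb
    have : e (b ^ m) ∈ commutator ↥S := by
      have hmap : (commutator ↥S).map e.toMonoidHom ≤ commutator ↥S := by
        rw [commutator_def, Subgroup.map_commutator]
        exact Subgroup.commutator_mono le_top le_top
      exact hmap ⟨_, hb', rfl⟩
    change f (e b) = 1
    change (QuotientGroup.mk (e b) : A) ^ m = 1
    rwa [← QuotientGroup.mk_pow, QuotientGroup.eq_one_iff, ← map_pow]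
  · have := Fact.mk hp
    obtain ⟨P⟩ : Nonempty (Sylow p ↥S) := inferInstance
    refine ⟨(P : Subgroup ↥S).map S.subtype, Subgroup.map_subtype_le _, P.isPGroup'.map _, ?_⟩
    rw [← Subgroup.map_sup]
    conv_rhs => rw [← S.range_subtype, MonoidHom.range_eq_map]
    congr 1
    rw [← Subgroup.index_eq_one]
    have h1 : (f.ker ⊔ (P : Subgroup ↥S)).index ∣ p ^ k := by
      refine (Subgroup.index_dvd_of_le le_sup_left).trans ?_
      rw [Subgroup.index_ker]
      have hpow : ∀ a : ↥f.range, a ^ p ^ k = 1 := by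
        rintro ⟨_, g, rfl⟩
        refine Subtype.ext ?_
        change ((QuotientGroup.mk g : A) ^ m) ^ p ^ k = 1
        rw [← pow_mul, mul_comm, ← hcard, pow_card_eq_one']
      have hP : IsPGroup p ↥f.range := fun a => ⟨k, hpow a⟩
      obtain ⟨j, hj⟩ := IsPGroup.iff_card.mp hP
      have hdvd : Nat.card ↥f.range ∣ Nat.card A := Subgroup.card_subgroup_dvd_card _
      rw [hj, hcard] at hdvd
      rw [hj]
      exact (Nat.Coprime.dvd_of_dvd_mul_right (Nat.Coprime.pow_left j (hp.coprime_iff_not_dvd.mpr hm)) hdvd)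
    have h2 : ¬ p ∣ (f.ker ⊔ (P : Subgroup ↥S)).index := fun h =>
      P.not_dvd_index (h.trans (Subgroup.index_dvd_of_le le_sup_right))
    obtain ⟨i, hi, hi'⟩ := (Nat.dvd_prime_pow hp).mp h1
    cases i with
    | zero => simpa using hi'
    | succ i => exact absurd (hi' ▸ dvd_pow_self p (Nat.succ_ne_zero i)) h2

/-- `G` seen as a set on which it acts by conjugation. -/
structure ConjPt (G : Type u) where
  /-- The underlying element. -/
  val : G

instance : MulAction G (ConjPt G) where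
  smul a s := ⟨a * s.val * a⁻¹⟩
  one_smul s := by
    obtain ⟨s⟩ := s
    exact congrArg ConjPt.mk (by simp)
  mul_smul a b s := by
    obtain ⟨s⟩ := s
    exact congrArg ConjPt.mk (show a * b * s * (a * b)⁻¹ = a * (b * s * b⁻¹) * a⁻¹ by group)

variable [Fintype G]

open scoped Classical in
/-- The correspondence for solvable `S`, commuting with conjugation by elements normalizing `K` and `S`. -/
theorem exists_equivariant_aux (n : ℕ) : ∀ (S : Subgroup G), Nat.card ↥S = n → Group.IsSolvable ↥S →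
    ∀ (K : Subgroup G), (∀ y ∈ S, ∀ k ∈ K, y * k * y⁻¹ ∈ K) → (Nat.card ↥K).Coprime (Nat.card ↥S) →
    ∀ C : Subgroup G, (∀ k, k ∈ C ↔ k ∈ K ∧ ∀ y ∈ S, y * k = k * y) →
    ∃ f : {χ : IrrCharacter ↥K // Inv K S (χ : ↥K → ℂ)} → IrrCharacter ↥C, Function.Bijective f ∧
      ∀ a ∈ Subgroup.normalizer (K : Set G), a ∈ Subgroup.normalizer (S : Set G) → ∀ χ χ',
        Moves K a (χ.1 : ↥K → ℂ) (χ'.1 : ↥K → ℂ) → Moves C a (f χ : ↥C → ℂ) (f χ' : ↥C → ℂ) := by
  induction n using Nat.strong_induction_on with | _ n ih =>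
  intro S hn hsol K hSK hcop C hC
  by_cases hbot : S = ⊥
  · subst hbot
    obtain rfl : C = K := by
      ext k; rw [hC]; simp
    refine ⟨fun χ => χ.1, ⟨fun a b h => Subtype.ext h, fun χ => ⟨⟨χ, fun y hy k k' e => ?_⟩, rfl⟩⟩,
      fun a _ _ χ χ' h => h⟩
    rw [Subgroup.mem_bot] at hy
    subst hy
    rw [show k' = k from Subtype.ext (by simpa using e)]
  obtain ⟨p, T, hp, hTS, hpS, hTn, P, hPS, hP, hTP⟩ := exists_below hsol hbot
  have := Fact.mk hp
  set CT : Subgroup G := K ⊓ Subgroup.centralizer (T : Set G)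
  have hCT : ∀ k, k ∈ CT ↔ k ∈ K ∧ ∀ y ∈ T, y * k = k * y := fun k => by
    simp [CT, Subgroup.mem_inf, Subgroup.mem_centralizer_iff]
  have hCCT : C ≤ CT := fun k hk => (hCT k).mpr ⟨((hC k).mp hk).1, fun y hy => ((hC k).mp hk).2 y (hTS.le hy)⟩
  obtain ⟨f, hf, hfeq⟩ := ih _ (hn ▸ Set.Finite.card_lt_card (Set.toFinite _) (SetLike.coe_ssubset_coe.mpr hTS)) T rfl
    (Group.isSolvable_of_isSolvable_injective (Subgroup.inclusion_injective hTS.le)) K
    (fun y hy => hSK y (hTS.le hy)) (hcop.coprime_dvd_right (Subgroup.card_dvd_of_le hTS.le)) CT hCT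
  have hSn : ∀ y ∈ S, y ∈ Subgroup.normalizer (T : Set G) := fun y hy =>
    Subgroup.mem_normalizer_fintype (hTn y (Subgroup.le_normalizer hy))
  have hSCT : ∀ y ∈ S, ∀ k ∈ CT, y * k * y⁻¹ ∈ CT := fun y hy k hk => (hCT _).mpr
    ⟨hSK y hy k ((hCT k).mp hk).1, fun z hz => by
      have := ((hCT k).mp hk).2 _ ((Subgroup.mem_normalizer_iff''.mp (hSn y hy) z).mp hz)
      calc z * (y * k * y⁻¹) = y * ((y⁻¹ * z * y) * k) * y⁻¹ := by group
        _ = y * (k * (y⁻¹ * z * y)) * y⁻¹ := by rw [this]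
        _ = y * k * y⁻¹ * z := by group⟩
  have hPCT : ∀ y ∈ P, ∀ k ∈ CT, y * k * y⁻¹ ∈ CT := fun y hy => hSCT y (hPS hy)
  have hCP : ∀ k, k ∈ C ↔ k ∈ CT ∧ ∀ y ∈ P, y * k * y⁻¹ * k⁻¹ ∈ (⊥ : Subgroup G) := by
    intro k
    simp only [Subgroup.mem_bot, mul_inv_eq_one, mul_inv_eq_iff_eq_mul, one_mul]
    refine ⟨fun hk => ⟨hCCT hk, fun y hy => ((hC k).mp hk).2 y (hPS hy)⟩, fun ⟨hk, hk'⟩ =>
      (hC k).mpr ⟨((hCT k).mp hk).1, ?_⟩⟩
    intro y hy
    have : T ⊔ P ≤ Subgroup.centralizer ({k} : Set G) := sup_le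
      (fun z hz => Subgroup.mem_centralizer_singleton_iff.mpr (((hCT k).mp hk).2 z hz))
      (fun z hz => Subgroup.mem_centralizer_singleton_iff.mpr (hk' z hz))
    exact Subgroup.mem_centralizer_singleton_iff.mp (this (hTP.symm ▸ hy))
  have hndvd : ¬ p ∣ (⊥ : Subgroup G).relIndex CT := by
    rw [Subgroup.relIndex_bot_left]
    intro hd
    have hdK : p ∣ Nat.card ↥K := hd.trans (Subgroup.card_dvd_of_le inf_le_left)
    exact hp.not_dvd_one (hcop.gcd_eq_one ▸ Nat.dvd_gcd hdK hpS)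
  obtain ⟨g, hg, hgm⟩ := exists_correspondence hP bot_le
    (fun k _ q hq => by rw [Subgroup.mem_bot] at hq ⊢; simp [hq]) IsPGroup.of_bot hndvd hPCT hCCT hCP
  have hNK := le_normalizer_of_conj hSK
  have hN1 := le_normalizer_of_conj hSCT
  have hCinv : ∀ ξ : IrrCharacter ↥C, Inv C P (ξ : ↥C → ℂ) := fun ξ y hy k k' e => by
    rw [show k' = k from Subtype.ext (by rw [e, ((hC k).mp k.2).2 y (hPS hy)]; simp)]
  -- `S`-invariance passes through `f`
  have hup : ∀ χ, Inv K S (χ.1 : ↥K → ℂ) → Inv CT S (f χ : ↥CT → ℂ) := fun χ hχ y hy =>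
    hfeq y (hNK hy) (hSn y hy) χ χ (hχ y hy)
  have hdown : ∀ χ, Inv CT S (f χ : ↥CT → ℂ) → Inv K S (χ.1 : ↥K → ℂ) := by
    intro χ hχ
    refine (charAction_fixed hNK _).mp fun y => ?_
    have hT' : Inv K T (((charAction hNK).smul y χ.1 : IrrCharacter ↥K) : ↥K → ℂ) :=
      charAction_inv hNK (fun a ha b hb => (Subgroup.mem_normalizer_iff.mp (hSn a ha) b).mp hb) y χ.2
    have hm := hfeq y (hNK y.2) (hSn y y.2) χ ⟨_, hT'⟩ (charAction_moves hNK y χ.1)
    have h1 := moves_unique hN1 y _ _ hm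
    rw [show (charAction hN1).smul y (f χ) = f χ from (charAction_fixed hN1 _).mpr hχ y] at h1
    exact congrArg Subtype.val (hf.1 h1)
  have hPS' : ∀ ψ : IrrCharacter ↥CT, Inv CT P (ψ : ↥CT → ℂ) → Inv CT S (ψ : ↥CT → ℂ) := by
    intro ψ hψ
    letI := charAction hN1
    have hT : T.subgroupOf S ≤ MulAction.stabilizer ↥S ψ := fun y hy => by
      refine (moves_unique hN1 y ψ ψ fun k k' e => ?_).symm
      rw [show k' = k from Subtype.ext (by rw [e, ((hCT k).mp k.2).2 y hy]; simp)]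
    have hP' : P.subgroupOf S ≤ MulAction.stabilizer ↥S ψ := fun y hy =>
      (moves_unique hN1 y ψ ψ (hψ y hy)).symm
    have htop : T.subgroupOf S ⊔ P.subgroupOf S = ⊤ := by
      rw [← (Subgroup.map_injective S.subtype_injective).eq_iff, Subgroup.map_sup,
        Subgroup.map_subgroupOf_eq_of_le hTS.le, Subgroup.map_subgroupOf_eq_of_le hPS, hTP,
        ← MonoidHom.range_eq_map, Subgroup.range_subtype]
    exact (charAction_fixed hN1 ψ).mp fun y => (sup_le hT hP') (htop ▸ Subgroup.mem_top y)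
  let F : {χ : IrrCharacter ↥K // Inv K S (χ : ↥K → ℂ)} → IrrCharacter ↥C := fun χ =>
    (g ⟨f ⟨χ.1, fun y hy => χ.2 y (hTS.le hy)⟩, fun y hy => hup ⟨χ.1, fun z hz => χ.2 z (hTS.le hz)⟩ χ.2 y (hPS hy)⟩).1
  refine ⟨F, ⟨fun a b h => ?_, fun ξ => ?_⟩, fun a haK haS χ χ' hmv => ?_⟩
  · have h1 := congrArg Subtype.val (hg.1 (Subtype.ext h))
    exact Subtype.ext (congrArg Subtype.val (hf.1 h1) :)
  · obtain ⟨ψ, hψ⟩ := hg.2 ⟨ξ, hCinv ξ⟩
    obtain ⟨χ, hχ⟩ := hf.2 ψ.1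
    have hχS : Inv K S (χ.1 : ↥K → ℂ) := hdown χ (by rw [hχ]; exact hPS' ψ.1 ψ.2)
    refine ⟨⟨χ.1, hχS⟩, ?_⟩
    simp only [F, hχ, Subtype.coe_eta, hψ]
  · have haT : a ∈ Subgroup.normalizer (T : Set G) := Subgroup.mem_normalizer_fintype (hTn a haS)
    set χT : {χ : IrrCharacter ↥K // Inv K T (χ : ↥K → ℂ)} := ⟨χ.1, fun y hy => χ.2 y (hTS.le hy)⟩
    set χT' : {χ : IrrCharacter ↥K // Inv K T (χ : ↥K → ℂ)} := ⟨χ'.1, fun y hy => χ'.2 y (hTS.le hy)⟩
    have h1 := hfeq a haK haT χT χT' hmv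
    have haCT : Subgroup.zpowers a ≤ Subgroup.normalizer (CT : Set G) := by
      rw [Subgroup.zpowers_le]
      refine Subgroup.mem_normalizer_fintype fun k hk => (hCT _).mpr
        ⟨(Subgroup.mem_normalizer_iff.mp haK k).mp ((hCT k).mp hk).1, fun z hz => ?_⟩
      have := ((hCT k).mp hk).2 _ ((Subgroup.mem_normalizer_iff''.mp haT z).mp hz)
      calc z * (a * k * a⁻¹) = a * ((a⁻¹ * z * a) * k) * a⁻¹ := by group
        _ = a * (k * (a⁻¹ * z * a)) * a⁻¹ := by rw [this]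
        _ = a * k * a⁻¹ * z := by group
    have haC : Subgroup.zpowers a ≤ Subgroup.normalizer (C : Set G) := by
      rw [Subgroup.zpowers_le]
      refine Subgroup.mem_normalizer_fintype fun k hk => (hC _).mpr
        ⟨(Subgroup.mem_normalizer_iff.mp haK k).mp ((hC k).mp hk).1, fun z hz => ?_⟩
      have := ((hC k).mp hk).2 _ ((Subgroup.mem_normalizer_iff''.mp haS z).mp hz)
      calc z * (a * k * a⁻¹) = a * ((a⁻¹ * z * a) * k) * a⁻¹ := by group
        _ = a * (k * (a⁻¹ * z * a)) * a⁻¹ := by rw [this]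
        _ = a * k * a⁻¹ * z := by group
    set ψ : {ψ : IrrCharacter ↥CT // Inv CT P (ψ : ↥CT → ℂ)} :=
      ⟨f χT, fun y hy => hup χT χ.2 y (hPS hy)⟩
    set ψ' : {ψ : IrrCharacter ↥CT // Inv CT P (ψ : ↥CT → ℂ)} :=
      ⟨f χT', fun y hy => hup χT' χ'.2 y (hPS hy)⟩
    set y : ↥(Subgroup.zpowers a) := ⟨a, Subgroup.mem_zpowers a⟩
    have hψ' : ψ'.1 = (charAction haCT).smul y ψ.1 := moves_unique haCT y _ _ h1
    set ξ := (charAction haC).smul y (g ψ).1
    have heq : (⟨ξ, hCinv ξ⟩ : {ξ : IrrCharacter ↥C // Inv C P (ξ : ↥C → ℂ)}) = g ψ' := by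
      obtain ⟨m, hm, -, hm0⟩ := hgm ψ' ⟨ξ, hCinv ξ⟩
      obtain ⟨m', hm', hm1, -⟩ := hgm ψ (g ψ)
      by_contra hne
      have h0 := hm0 hne
      have h2 := classInner_charAction hCCT haCT haC y ψ.1 (g ψ).1
      rw [← hψ', hm'] at h2
      have : (m : ℂ) = m' := hm.symm.trans h2
      have hmm : m = m' := by exact_mod_cast this
      have := hm1 rfl
      rw [← hmm, h0] at this
      simp at this
    have := charAction_moves haC y (g ψ).1
    rw [show F χ' = ξ from (congrArg Subtype.val heq).symm]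
    exact this

/-- The correspondence for solvable `S`. -/
theorem exists_equivariant {K S C : Subgroup G} (hsol : Group.IsSolvable ↥S)
    (hSK : ∀ y ∈ S, ∀ k ∈ K, y * k * y⁻¹ ∈ K) (hcop : (Nat.card ↥K).Coprime (Nat.card ↥S))
    (hC : ∀ k, k ∈ C ↔ k ∈ K ∧ ∀ y ∈ S, y * k = k * y) :
    ∃ f : {χ : IrrCharacter ↥K // Inv K S (χ : ↥K → ℂ)} → IrrCharacter ↥C, Function.Bijective f ∧
      ∀ a ∈ Subgroup.normalizer (K : Set G), a ∈ Subgroup.normalizer (S : Set G) → ∀ χ χ',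
        Moves K a (χ.1 : ↥K → ℂ) (χ'.1 : ↥K → ℂ) → Moves C a (f χ : ↥C → ℂ) (f χ' : ↥C → ℂ) :=
  exists_equivariant_aux _ S rfl hsol K hSK hcop C hC

/-- The classes of `K` fixed by `S` correspond to the classes of the fixed point subgroup. -/
theorem exists_class_equiv {K S C : Subgroup G} (hsol : Group.IsSolvable ↥S)
    (hSK : ∀ y ∈ S, ∀ k ∈ K, y * k * y⁻¹ ∈ K) (hcop : (Nat.card ↥K).Coprime (Nat.card ↥S))
    (hC : ∀ k, k ∈ C ↔ k ∈ K ∧ ∀ y ∈ S, y * k = k * y) :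
    ∃ e : ConjClasses ↥C → {c : ConjClasses ↥K //
        ∀ s ∈ S, ∀ g g' : ↥K, (g' : G) = s * g * s⁻¹ → ConjClasses.mk g = c → ConjClasses.mk g' = c},
      Function.Bijective e ∧
      ∀ c, (e (ConjClasses.mk c)).1 = ConjClasses.mk ⟨(c : G), ((hC c).mp c.2).1⟩ := by
  classical
  have hCK : C ≤ K := fun k hk => ((hC k).mp hk).1
  have hsmul : ∀ (a : G) (s : ConjPt G), a • s = ⟨a * s.val * a⁻¹⟩ := fun a s => rfl
  have hNK : S ≤ Subgroup.normalizer (K : Set G) := le_normalizer_of_conj hSK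
  have hfix : ∀ c : ↥C, ∀ y ∈ S, y • (⟨c⟩ : ConjPt G) = ⟨c⟩ := fun c y hy => by
    rw [hsmul]; exact congrArg ConjPt.mk (by rw [((hC c).mp c.2).2 y hy]; simp)
  have hinvar : ∀ c : ↥C, ∀ s ∈ S, ∀ g g' : ↥K, (g' : G) = s * g * s⁻¹ →
      ConjClasses.mk g = ConjClasses.mk (⟨(c : G), hCK c.2⟩ : ↥K) →
      ConjClasses.mk g' = ConjClasses.mk (⟨(c : G), hCK c.2⟩ : ↥K) := by
    intro c s hs g g' hg' hg
    rw [ConjClasses.mk_eq_mk_iff_isConj, isConj_iff] at hg ⊢
    obtain ⟨k, hk⟩ := hg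
    refine ⟨⟨s * k * s⁻¹, hSK s hs k k.2⟩, Subtype.ext ?_⟩
    have hk' : (k : G) * g * (k : G)⁻¹ = c := congrArg Subtype.val hk
    have hc := hfix c s hs
    rw [hsmul] at hc
    replace hc : s * (c : G) * s⁻¹ = c := congrArg ConjPt.val hc
    simp only [Subgroup.coe_mul, Subgroup.coe_inv, hg']
    rw [← hc, ← hk']
    group
  refine ⟨fun q => Quotient.liftOn q (fun c : ↥C => ⟨ConjClasses.mk (⟨(c : G), hCK c.2⟩ : ↥K), hinvar c⟩)
    (fun a b h => Subtype.ext (ConjClasses.mk_eq_mk_iff_isConj.mpr ?_)), ⟨?_, ?_⟩, fun c => rfl⟩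
  · exact (Subgroup.inclusion hCK).map_isConj h
  · intro q q' h
    induction q using Quotient.inductionOn with | _ c =>
    induction q' using Quotient.inductionOn with | _ c' =>
    have h' := congrArg Subtype.val h
    replace h' : ConjClasses.mk (⟨(c : G), hCK c.2⟩ : ↥K) = ConjClasses.mk ⟨(c' : G), hCK c'.2⟩ := h'
    rw [ConjClasses.mk_eq_mk_iff_isConj, isConj_iff] at h'
    obtain ⟨k, hk⟩ := h'
    obtain ⟨k', ⟨hk'K, hk'C⟩, he⟩ := CfsgLib.SZ.exists_smul_eq_of_fixed hNK hcop.symm (Or.inl hsol)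
      (s := (⟨c⟩ : ConjPt G)) (t := ⟨c'⟩) (hfix c) (hfix c') ⟨k, k.2, congrArg (ConjPt.mk ∘ Subtype.val) hk⟩
    have hk'mem : k' ∈ C := (hC k').mpr ⟨hk'K, fun y hy => Subgroup.mem_centralizer_iff.mp hk'C y hy⟩
    exact Quotient.sound (isConj_iff.mpr ⟨⟨k', hk'mem⟩, Subtype.ext (congrArg ConjPt.val he)⟩)
  · rintro ⟨c, hc⟩
    obtain ⟨g, rfl⟩ := ConjClasses.mk_surjective c
    obtain ⟨t, ⟨u, htu, htK⟩, htfix⟩ := CfsgLib.SZ.exists_fixed hNK hcop.symm (Or.inl hsol)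
      ({t | ∃ u : ↥K, (u : G) = t.val ∧ ConjClasses.mk u = ConjClasses.mk g} : Set (ConjPt G)) ⟨⟨g⟩, g, rfl, rfl⟩
      (fun a ha s hs => by
        obtain ⟨u, hus, hu⟩ := hs
        exact ⟨⟨a * u * a⁻¹, hSK a ha u u.2⟩, by rw [hsmul, ← hus], hc a ha u _ rfl hu⟩)
      (fun s hs t ht => by
        obtain ⟨s⟩ := s; obtain ⟨t⟩ := t
        obtain ⟨u, rfl, hu⟩ := hs
        obtain ⟨v, rfl, hv⟩ := ht
        obtain ⟨k, hk⟩ := isConj_iff.mp (ConjClasses.mk_eq_mk_iff_isConj.mp (hu.trans hv.symm))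
        exact ⟨k, k.2, congrArg (ConjPt.mk ∘ Subtype.val) hk⟩)
      (fun k hk s hs => by
        obtain ⟨s⟩ := s
        obtain ⟨u, rfl, hu⟩ := hs
        refine ⟨⟨k, hk⟩ * u * ⟨k, hk⟩⁻¹, rfl, ?_⟩
        rw [← hu, ConjClasses.mk_eq_mk_iff_isConj, isConj_comm]
        exact isConj_iff.mpr ⟨⟨k, hk⟩, rfl⟩)
    have htC : (u : G) ∈ C := (hC _).mpr ⟨u.2, fun y hy => by
      have := htfix y hy
      rw [hsmul] at this
      have := congrArg ConjPt.val this
      simp only [← htu] at this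
      exact mul_inv_eq_iff_eq_mul.mp this⟩
    refine ⟨Quotient.mk _ (⟨(u : G), htC⟩ : ↥C), Subtype.ext ?_⟩
    exact htK

end CfsgLib.GlaubermanCorr
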