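import Cfsg.Agent.GlaubermanCorr.Extend
import Cfsg.Agent.GlaubermanCorr.Solvable
import Cfsg.Agent.Char.GaloisTwist
import Cfsg.Agent.Char.Central
import Mathlib.GroupTheory.SpecificGroups.Cyclic

/-!
# A cyclic group acting coprimely: values of the canonical extension

`G = K⟨s⟩` with `K` normal of order prime to `q = orderOf s` and `C = C_K(s)`. The canonical extension
`η` of an `s`-invariant irreducible character of `K` is the one with determinant `1` at `s`. On a coset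
`C * s ^ k` with `C_K(s ^ k) = C` its restriction is `±` an irreducible character of `C`.
-/

namespace CfsgLib.GlaubermanCorr

open Finset Cfsg
open scoped ComplexConjugate

universe u

variable {G : Type u} [Group G]

/-- The hypotheses of this file. -/
structure CopSetup (K : Subgroup G) (s : G) (q : ℕ) (C : Subgroup G) : Prop where
  ord : orderOf s = q
  cop : (Nat.card ↥K).Coprime q
  top : ∀ g, ∃ k ∈ K, ∃ i : ℕ, g = k * s ^ i
  memC : ∀ k, k ∈ C ↔ k ∈ K ∧ s * k = k * s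

variable {K : Subgroup G} [K.Normal] {s : G} {q : ℕ} {C : Subgroup G}

theorem CopSetup.C_le (h : CopSetup K s q C) : C ≤ K := fun _ hk => ((h.memC _).mp hk).1

theorem CopSetup.commute (h : CopSetup K s q C) {c : G} (hc : c ∈ C) (i : ℕ) : Commute c (s ^ i) :=
  (Commute.symm ((h.memC c).mp hc).2).pow_right i

theorem CopSetup.pow_q (h : CopSetup K s q C) (i : ℕ) : (s ^ i) ^ q = 1 := by
  rw [← pow_mul, mul_comm, pow_mul, ← h.ord, pow_orderOf_eq_one, one_pow]

theorem CopSetup.eq_one (h : CopSetup K s q C) {z : G} (hzK : z ∈ K) (hz : z ^ q = 1) : z = 1 := by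
  have h1 : z ^ Nat.card ↥K = 1 := congrArg Subtype.val (pow_card_eq_one' (x := (⟨z, hzK⟩ : ↥K)))
  exact orderOf_eq_one_iff.mp (Nat.eq_one_of_dvd_coprimes h.cop (orderOf_dvd_of_pow_eq_one h1)
    (orderOf_dvd_of_pow_eq_one hz))

theorem CopSetup.pow_eq_of_mul_mem (h : CopSetup K s q C) {i j : ℕ} (hm : s ^ i * (s ^ j)⁻¹ ∈ K) :
    s ^ i = s ^ j := by
  refine mul_inv_eq_one.mp (h.eq_one hm ?_)
  rw [((Commute.refl s).pow_pow i j).inv_right.mul_pow, inv_pow, h.pow_q, h.pow_q, inv_one, mul_one]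

theorem CopSetup.exists_cycData [NeZero q] (h : CopSetup K s q C) :
    ∃ (lam : G →* ℂˣ) (ω : ℂ), CycData K s q lam ω := by
  set y : G ⧸ K := (s : G ⧸ K)
  have hgen : ∀ a : G ⧸ K, a ∈ Subgroup.zpowers y := by
    intro a
    induction a using QuotientGroup.induction_on with | _ g =>
    obtain ⟨k, hk, i, rfl⟩ := h.top g
    rw [QuotientGroup.mk_mul, (QuotientGroup.eq_one_iff k).mpr hk, one_mul, QuotientGroup.mk_pow]
    exact Subgroup.npow_mem_zpowers y i
  have hy : orderOf y = q := by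
    refine (orderOf_eq_iff (NeZero.pos q)).mpr ⟨?_, fun i hi hi0 he => ?_⟩
    · rw [← QuotientGroup.mk_pow, ← h.ord, pow_orderOf_eq_one, QuotientGroup.mk_one]
    · have hK : s ^ i ∈ K := (QuotientGroup.eq_one_iff _).mp (by rw [QuotientGroup.mk_pow]; exact he)
      have := orderOf_dvd_of_pow_eq_one (h.eq_one hK (h.pow_q i))
      rw [h.ord] at this
      exact absurd (Nat.le_of_dvd hi0 this) (not_le.mpr hi)
  have hω : IsPrimitiveRoot (Complex.exp (2 * Real.pi * Complex.I / q)) q :=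
    Complex.isPrimitiveRoot_exp q (NeZero.ne q)
  set ω : ℂ := Complex.exp (2 * Real.pi * Complex.I / q)
  let u : ℂˣ := Units.mk0 ω (hω.ne_zero (NeZero.ne q))
  have hu : IsPrimitiveRoot u q := IsPrimitiveRoot.coe_units_iff.mp hω
  let lam0 := monoidHomOfForallMemZpowers hgen (show orderOf u ∣ orderOf y by rw [hy, ← hu.eq_orderOf])
  have hlam0 : lam0 y = u := monoidHomOfForallMemZpowers_apply_gen hgen _
  refine ⟨lam0.comp (QuotientGroup.mk' K), ω, hω, ?_, fun g => ?_, h.top⟩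
  · simp [hlam0, y, u]
  · rw [← QuotientGroup.eq_one_iff]
    change lam0 (g : G ⧸ K) = 1 ↔ _
    obtain ⟨k, hk, i, rfl⟩ := h.top g
    rw [QuotientGroup.mk_mul, (QuotientGroup.eq_one_iff k).mpr hk, one_mul, QuotientGroup.mk_pow, map_pow,
      hlam0, ← orderOf_dvd_iff_pow_eq_one, ← orderOf_dvd_iff_pow_eq_one, hy, ← hu.eq_orderOf]

/-- Every element of `K * x` is conjugate into `C * x` when `x = s ^ i` has fixed points `C`. -/
theorem CopSetup.cover [Finite G] (h : CopSetup K s q C) {i : ℕ}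
    (hfix : ∀ a ∈ K, Commute a (s ^ i) → a ∈ C) {k : G} (hk : k ∈ K) :
    ∃ a ∈ K, ∃ c ∈ C, a * (k * s ^ i) * a⁻¹ = c * s ^ i := by
  set x := s ^ i
  set y := k * x
  obtain ⟨e, he1, he2⟩ := Nat.chineseRemainder h.cop 0 1
  set u := y ^ e
  have hmap : (y : G ⧸ K) = (x : G ⧸ K) := by
    rw [QuotientGroup.mk_mul, (QuotientGroup.eq_one_iff k).mpr hk, one_mul]
  have hxe : x ^ e = x := by
    conv_rhs => rw [← pow_one x]
    exact pow_eq_pow_of_modEq he2 (h.pow_q i)
  have hux : (u : G ⧸ K) = (x : G ⧸ K) := by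
    rw [QuotientGroup.mk_pow, hmap, ← QuotientGroup.mk_pow, hxe]
  have huq : u ^ q = 1 := by
    have h1 : y ^ q ∈ K := by
      rw [← QuotientGroup.eq_one_iff, QuotientGroup.mk_pow, hmap, ← QuotientGroup.mk_pow, h.pow_q, QuotientGroup.mk_one]
    obtain ⟨f, hf⟩ := Nat.modEq_zero_iff_dvd.mp he1
    rw [← pow_mul, mul_comm, pow_mul, hf, pow_mul,
      show (y ^ q) ^ Nat.card ↥K = 1 from congrArg Subtype.val (pow_card_eq_one' (x := (⟨_, h1⟩ : ↥K))), one_pow]
  set X := Subgroup.zpowers x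
  have hXn : X ≤ Subgroup.normalizer (K : Set G) := by rw [Subgroup.normalizer_eq_top]; exact le_top
  have hXcop : (Nat.card ↥X).Coprime (Nat.card ↥K) := by
    rw [Nat.card_zpowers]
    exact h.cop.symm.coprime_dvd_left (orderOf_dvd_of_pow_eq_one (h.pow_q i))
  have hUcop : (Nat.card ↥(Subgroup.zpowers u)).Coprime (Nat.card ↥K) := by
    rw [Nat.card_zpowers]
    exact h.cop.symm.coprime_dvd_left (orderOf_dvd_of_pow_eq_one huq)
  have hsol : Group.IsSolvable ↥X := by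
    let _ : CommGroup ↥X := IsCyclic.commGroup
    infer_instance
  have hUle : Subgroup.zpowers u ≤ X ⊔ K := by
    rw [Subgroup.zpowers_le, show u = u * x⁻¹ * x by group]
    exact mul_mem (Subgroup.mem_sup_right ((QuotientGroup.eq_one_iff _).mp (by
      rw [QuotientGroup.mk_mul, QuotientGroup.mk_inv, hux, mul_inv_cancel])))
      (Subgroup.mem_sup_left (Subgroup.mem_zpowers x))
  obtain ⟨a, ha, hle⟩ := CfsgLib.SZ.conj_le hXn hXcop (Or.inl hsol) hUle hUcop
  have hau : a * u * a⁻¹ = x := by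
    have hmem : a * u * a⁻¹ ∈ X := hle ⟨u, Subgroup.mem_zpowers u, rfl⟩
    have hK : a * u * a⁻¹ * x⁻¹ ∈ K := by
      rw [← QuotientGroup.eq_one_iff, QuotientGroup.mk_mul, QuotientGroup.mk_inv, QuotientGroup.mk_mul,
        QuotientGroup.mk_mul, QuotientGroup.mk_inv, (QuotientGroup.eq_one_iff a).mpr ha, hux]
      simp
    obtain ⟨j, hj⟩ := mem_powers_iff_mem_zpowers.mpr hmem
    simp only at hj
    rw [← hj] at hK ⊢
    rw [← pow_mul] at hK ⊢
    exact h.pow_eq_of_mul_mem hK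
  refine ⟨a, ha, a * y * a⁻¹ * x⁻¹, hfix _ ?_ ?_, by group⟩
  · rw [← QuotientGroup.eq_one_iff, QuotientGroup.mk_mul, QuotientGroup.mk_inv, QuotientGroup.mk_mul,
      QuotientGroup.mk_mul, QuotientGroup.mk_inv, (QuotientGroup.eq_one_iff a).mpr ha, hmap]
    simp
  · have h1 : Commute (a * y * a⁻¹) x := by
      rw [← hau]
      exact ((Commute.refl y).pow_right e).map (MulAut.conj a)
    exact h1.mul_left (Commute.inv_left (Commute.refl x))

/-- Conjugation between elements of `C * x` is realised only inside `C`. -/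
theorem CopSetup.disjoint (h : CopSetup K s q C) {i : ℕ} (hfix : ∀ a ∈ K, Commute a (s ^ i) → a ∈ C)
    {a c c' : G} (ha : a ∈ K) (hc : c ∈ C) (hc' : c' ∈ C) (e : a * (c * s ^ i) * a⁻¹ = c' * s ^ i) : a ∈ C := by
  obtain ⟨f, hf1, hf2⟩ := Nat.chineseRemainder h.cop 0 1
  have hpow : ∀ {c : G}, c ∈ C → (c * s ^ i) ^ f = s ^ i := fun {c} hc => by
    obtain ⟨g, rfl⟩ := Nat.modEq_zero_iff_dvd.mp hf1
    rw [(h.commute hc i).mul_pow, pow_mul c,
      show c ^ Nat.card ↥K = 1 from congrArg Subtype.val (pow_card_eq_one' (x := (⟨c, h.C_le hc⟩ : ↥K))),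
      one_pow, one_mul]
    conv_rhs => rw [← pow_one (s ^ i)]
    exact pow_eq_pow_of_modEq hf2 (h.pow_q i)
  have h1 := congrArg (fun z => z ^ f) e
  simp only [conj_pow, hpow hc, hpow hc'] at h1
  exact hfix a ha (mul_inv_eq_iff_eq_mul.mp h1)

variable [Fintype G] [Fintype ↥K] [Fintype ↥C]

/-- Summing a conjugation invariant function over `K * x` and over `C * x`. -/
theorem CopSetup.sum_coset (h : CopSetup K s q C) {i : ℕ} (hfix : ∀ a ∈ K, Commute a (s ^ i) → a ∈ C)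
    (F : G → ℂ) (hF : ∀ a ∈ K, ∀ g, F (a * g * a⁻¹) = F g) :
    (Fintype.card ↥K : ℂ)⁻¹ * ∑ k : ↥K, F ((k : G) * s ^ i) =
      (Fintype.card ↥C : ℂ)⁻¹ * ∑ c : ↥C, F ((c : G) * s ^ i) := by
  classical
  let Φ : ↥K × ↥C → ↥K := fun d => ⟨(d.1 : G) * ((d.2 : G) * (s ^ i)) * (d.1 : G)⁻¹ * (s ^ i)⁻¹, by
    have h1 : (s ^ i) * (d.1 : G)⁻¹ * (s ^ i)⁻¹ ∈ K := ‹K.Normal›.conj_mem _ (inv_mem d.1.2) (s ^ i)
    have := mul_mem (mul_mem d.1.2 (h.C_le d.2.2)) h1
    convert this using 1; group⟩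
  have hval : ∀ d, F ((Φ d : G) * (s ^ i)) = F ((d.2 : G) * (s ^ i)) := fun d => by
    simp only [Φ, inv_mul_cancel_right]
    exact hF _ d.1.2 _
  have hfib : ∀ k : ↥K, (univ.filter fun d => Φ d = k).card = Fintype.card ↥C := by
    intro k
    obtain ⟨a, ha, c, hc, he⟩ := h.cover hfix k.2
    have hmem : ∀ d : ↥C, (d : G) * c * (d : G)⁻¹ ∈ C := fun d => mul_mem (mul_mem d.2 hc) (inv_mem d.2)
    refine (card_bij (s := (univ : Finset ↥C)) (fun d _ => (⟨⟨a⁻¹ * (d : G)⁻¹, mul_mem (inv_mem ha) (inv_mem (h.C_le d.2))⟩,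
      ⟨(d : G) * c * (d : G)⁻¹, hmem d⟩⟩ : ↥K × ↥C)) (fun d _ => ?_) (fun d _ d' _ e => ?_)
      (fun z hz => ?_)).symm.trans card_univ
    · refine mem_filter.mpr ⟨mem_univ _, Subtype.ext ?_⟩
      simp only [Φ]
      have hk : (k : G) = a⁻¹ * (c * (s ^ i)) * a * (s ^ i)⁻¹ := by rw [← he]; group
      rw [hk, show (d : G) * c * (d : G)⁻¹ * (s ^ i) = (d : G) * (c * (s ^ i)) * (d : G)⁻¹ by
        rw [mul_assoc ((d : G) * c), (h.commute (inv_mem d.2) i).eq]; group]
      group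
    · have := congrArg (fun z => (z.1 : G)) e
      simp only [mul_right_inj, inv_inj] at this
      exact Subtype.ext this
    · obtain ⟨⟨b, hb⟩, ⟨c1, hc1⟩⟩ := z
      have hz' : b * (c1 * (s ^ i)) * b⁻¹ * (s ^ i)⁻¹ = (k : G) := congrArg Subtype.val (mem_filter.mp hz).2
      have he' : (a * b) * (c1 * (s ^ i)) * (a * b)⁻¹ = c * (s ^ i) := by rw [← he, ← hz']; group
      have hab := h.disjoint hfix (mul_mem ha hb) hc1 hc he'
      refine ⟨⟨(a * b)⁻¹, inv_mem hab⟩, mem_univ _, Prod.ext (Subtype.ext (by simp)) (Subtype.ext ?_)⟩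
      simp only [inv_inv]
      apply mul_right_cancel (b := (s ^ i))
      calc (a * b)⁻¹ * c * (a * b) * (s ^ i) = (a * b)⁻¹ * (c * (s ^ i)) * (a * b) := by
            rw [mul_assoc ((a * b)⁻¹ * c), (h.commute hab i).eq]; group
        _ = c1 * (s ^ i) := by rw [← he']; group
  have hsum : ∑ d : ↥K × ↥C, F ((Φ d : G) * (s ^ i)) = (Fintype.card ↥C : ℂ) * ∑ k : ↥K, F ((k : G) * (s ^ i)) := by
    rw [← sum_fiberwise univ Φ, mul_sum]
    refine sum_congr rfl fun k _ => ?_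
    rw [sum_congr rfl (g := fun _ => F ((k : G) * (s ^ i))) (fun d hd => by rw [(mem_filter.mp hd).2]), sum_const,
      hfib, nsmul_eq_mul]
  simp only [hval, Fintype.sum_prod_type, sum_const, card_univ, nsmul_eq_mul] at hsum
  have hKne : (Fintype.card ↥K : ℂ) ≠ 0 := Nat.cast_ne_zero.mpr Fintype.card_ne_zero
  have hCne : (Fintype.card ↥C : ℂ) ≠ 0 := Nat.cast_ne_zero.mpr Fintype.card_ne_zero
  field_simp
  linear_combination -hsum

/-- The canonical extensions: irreducible, irreducible on `K`, with determinant `1` at `s`. -/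
structure IsCan (K : Subgroup G) (s : G) (η : G → ℂ) : Prop where
  irr : IsIrrCharacter G η
  res : IsIrrCharacter ↥K (fun k : ↥K => η k)
  det : detChar η s = 1

omit [K.Normal] [Fintype G] [Fintype ↥K] [Fintype ↥C] in
theorem twistLin_aux {n : ℕ} (μ : G →* ℂˣ) (ρ : Representation ℂ G (Fin n → ℂ)) :
    ∃ ρ' : Representation ℂ G (Fin n → ℂ), ρ'.character = (fun g => (μ g : ℂ)) * ρ.character ∧
      ∀ g, LinearMap.det (ρ' g) = (μ g : ℂ) ^ n * LinearMap.det (ρ g) :=
  ⟨{ toFun := fun g => (μ g : ℂ) • ρ g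
     map_one' := by simp
     map_mul' := fun a b => by rw [map_mul, map_mul, Units.val_mul, smul_mul_smul_comm] },
    funext fun g => by simp [Representation.character],
    fun g => by
      change LinearMap.det ((μ g : ℂ) • ρ g) = _
      rw [LinearMap.det_smul, Module.finrank_fin_fun]⟩

theorem CycData.detChar_twist {lam : G →* ℂˣ} {ω : ℂ} [NeZero q] (hd : CycData K s q lam ω) {n : ℕ}
    {η : G → ℂ} (hη : IsCharacter G η) (hn : η 1 = n) (a : ZMod q) :
    detChar (lamPow lam a * η) s = ω ^ (a * (n : ZMod q)).val * detChar η s := by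
  obtain ⟨m, ρ, rfl⟩ := hη
  obtain rfl : m = n := by
    rw [ρ.char_one, Module.finrank_fin_fun] at hn; exact_mod_cast hn
  obtain ⟨ρ', hc, hdet⟩ := twistLin_aux (lam ^ a.val) ρ
  have : lamPow lam a * ρ.character = ρ'.character := by
    rw [hc]; ext g; simp [lamPow]
  rw [this, CfsgLib.Char.detChar_eq, CfsgLib.Char.detChar_eq, hdet]
  congr 1
  simp only [MonoidHom.pow_apply, Units.val_pow_eq_pow_val, hd.apply_x, ← pow_mul]
  rw [ZMod.val_mul, ← pow_eq_pow_mod _ hd.prim.pow_eq_one, ZMod.val_natCast]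
  rw [pow_mul, pow_eq_pow_mod m (by rw [← pow_mul, mul_comm, pow_mul, hd.prim.pow_eq_one, one_pow]), ← pow_mul]

omit [Fintype ↥K] [Fintype ↥C] in
theorem CopSetup.degree_unit (h : CopSetup K s q C) {χ : ↥K → ℂ} (hχ : IsIrrCharacter ↥K χ) {n : ℕ}
    (hn : χ 1 = n) : IsUnit (n : ZMod q) :=
  (ZMod.isUnit_iff_coprime n q).mpr
    (h.cop.coprime_dvd_left (CfsgLib.Char.IsIrrCharacter.degree_dvd_card hχ hn))

theorem CopSetup.exists_can [NeZero q] (h : CopSetup K s q C) (χ : IrrCharacter ↥K)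
    (hinv : InvBy K s (χ : ↥K → ℂ)) : ∃ η, IsCan K s η ∧ ∀ k : ↥K, η k = (χ : ↥K → ℂ) k := by
  obtain ⟨lam, ω, hd⟩ := h.exists_cycData
  obtain ⟨η0, hη0, hres⟩ := hd.exists_extension χ hinv
  obtain ⟨n, -, hn⟩ := CfsgLib.Char.IsIrrCharacter.exists_degree χ.2
  have hn0 : η0 1 = n := (hres 1).trans hn
  obtain ⟨m, ρ, rfl⟩ := CfsgLib.Char.IsIrrCharacter.isCharacter hη0
  have hd0 : detChar ρ.character s ^ q = 1 := by
    rw [CfsgLib.Char.detChar_eq, ← map_pow, ← map_pow, ← h.ord, pow_orderOf_eq_one, map_one, map_one]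
  obtain ⟨b, -, hb⟩ := hd.prim.eq_pow_of_pow_eq_one hd0
  obtain ⟨u, hu⟩ := h.degree_unit χ.2 hn
  set a : ZMod q := -(b : ZMod q) * ((u⁻¹ : (ZMod q)ˣ) : ZMod q)
  have hres' : ∀ k : ↥K, (lamPow lam a * ρ.character) k = (χ : ↥K → ℂ) k := fun k => by
    rw [Pi.mul_apply, hd.lamPow_of_mem a k.2, one_mul, hres]
  refine ⟨lamPow lam a * ρ.character, ⟨hd.isIrr_twist a hη0, ?_, ?_⟩, hres'⟩
  · simp only [hres']; exact χ.2
  · rw [hd.detChar_twist ⟨m, ρ, rfl⟩ hn0, ← hb, show a * (n : ZMod q) = -(b : ZMod q) by rw [← hu]; simp [a],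
      pow_eq_pow_mod b hd.prim.pow_eq_one, ← ZMod.val_natCast, ← pow_val_add hd.prim.pow_eq_one,
      neg_add_cancel, ZMod.val_zero, pow_zero]

theorem CopSetup.can_unique [NeZero q] (h : CopSetup K s q C) {η η' : G → ℂ} (hη : IsCan K s η)
    (hη' : IsCan K s η') (he : ∀ k : ↥K, η k = η' k) : η = η' := by
  obtain ⟨lam, ω, hd⟩ := h.exists_cycData
  obtain ⟨j, hj⟩ := hd.exists_twist hη.irr hη'.irr hη.res he
  obtain ⟨n, -, hn⟩ := CfsgLib.Char.IsIrrCharacter.exists_degree hη'.irr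
  have hd1 := hη.det
  rw [hj, hd.detChar_twist (CfsgLib.Char.IsIrrCharacter.isCharacter hη'.irr) hn, hη'.det, mul_one] at hd1
  have h0 : j * (n : ZMod q) = 0 :=
    (ZMod.val_eq_zero _).mp (hd.prim.pow_inj (ZMod.val_lt _) (NeZero.pos q) (by rw [hd1, pow_zero]))
  have hu : IsUnit (n : ZMod q) := h.degree_unit hη'.res hn
  rw [hj, hu.mul_left_eq_zero.mp h0]
  ext g; simp [lamPow_zero]

/-- An automorphism of `ℂ` fixing the values on `K` fixes a canonical extension. -/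
theorem CopSetup.can_galois [NeZero q] (h : CopSetup K s q C) {η : G → ℂ} (hη : IsCan K s η) (σ : ℂ ≃+* ℂ)
    (hσ : ∀ z : ℂ, z ^ Nat.card ↥K = 1 → σ z = z) (g : G) : σ (η g) = η g := by
  have hK : ∀ k : ↥K, σ (η k) = η k := fun k => by
    have hc := CfsgLib.Char.IsIrrCharacter.isCharacter hη.res
    have := CfsgLib.Char.IsCharacter.map_ringEquiv_eq_pow hc σ (t := 1) (g := k) (fun z hz => by
      rw [pow_one]
      refine hσ z ?_
      obtain ⟨d, hd⟩ := (orderOf_dvd_natCard k : orderOf k ∣ Nat.card ↥K)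
      rw [hd, pow_mul, hz, one_pow])
    rwa [pow_one] at this
  have hcan : IsCan K s (fun g => σ (η g)) := by
    refine ⟨CfsgLib.Char.IsIrrCharacter.map_ringEquiv hη.irr σ, ?_, ?_⟩
    · simp only [hK]; exact hη.res
    · rw [CfsgLib.Char.detChar_map_ringEquiv (CfsgLib.Char.IsIrrCharacter.isCharacter hη.irr)]
      change σ (detChar η s) = 1
      rw [hη.det, map_one]
  exact congrFun (h.can_unique hcan hη hK) g

/-- The restriction of `η` to `C * s ^ k`, as a function on `C`. -/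
def atCoset (C : Subgroup G) (s : G) (η : G → ℂ) (k : ℕ) : ↥C → ℂ := fun c => η ((c : G) * s ^ k)

theorem CopSetup.atCoset_classFun (h : CopSetup K s q C) {η : G → ℂ} (hη : IsClassFunction G η) (k : ℕ) :
    IsClassFunction ↥C (atCoset C s η k) := fun c d => by
  simp only [atCoset, Subgroup.coe_mul, Subgroup.coe_inv]
  rw [← hη ((c : G) * s ^ k) d]
  congr 1
  rw [mul_assoc ((d : G) * c), (h.commute (inv_mem d.2) k).eq]
  group

open scoped Classical in
theorem CopSetup.orth [NeZero q] (h : CopSetup K s q C) {η η' : G → ℂ} (hη : IsCan K s η) (hη' : IsCan K s η')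
    (i : ZMod q) (hfix : ∀ a ∈ K, Commute a (s ^ i.val) → a ∈ C) :
    classInner (atCoset C s η i.val) (atCoset C s η' i.val) = if η = η' then 1 else 0 := by
  obtain ⟨lam, ω, hd⟩ := h.exists_cycData
  have h1 := h.sum_coset hfix (fun g => η g * conj (η' g)) (fun a _ g => by
    rw [CfsgLib.Char.IsIrrCharacter.isClassFunction hη.irr g a,
      CfsgLib.Char.IsIrrCharacter.isClassFunction hη'.irr g a])
  rw [classInner, Nat.card_eq_fintype_card]
  rw [show (Fintype.card ↥K : ℂ)⁻¹ * ∑ k : ↥K, η ((k : G) * s ^ i.val) * conj (η' ((k : G) * s ^ i.val)) =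
    cosetInner K s η η' i from rfl, hd.cosetInner_irr hη.irr hη'.irr] at h1
  refine h1.symm.trans ?_
  split_ifs with he
  · subst he
    rw [sum_eq_single (0 : ZMod q)]
    · rw [if_pos (funext fun g => by simp [lamPow_zero]), mul_zero, ZMod.val_zero, pow_zero]
    · intro j _ hj
      rw [if_neg fun e => hj ((hd.restrict_irr_iff hη.irr).mp hη.res j e)]
    · simp
  · refine sum_eq_zero fun j _ => if_neg fun e => he (h.can_unique hη hη' fun k => ?_)
    conv_lhs => rw [e, Pi.mul_apply, hd.lamPow_of_mem _ k.2, one_mul]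

/-- The coefficients on the cosets `C * s ^ i` are given by natural multiplicities. -/
theorem CopSetup.exists_coeff_poly [NeZero q] (h : CopSetup K s q C) {ω : ℂ} (hω : IsPrimitiveRoot ω q)
    {η : G → ℂ} (hη : IsCharacter G η) (β : IrrCharacter ↥C) :
    ∃ n : ZMod q → ℕ, ∀ i : ZMod q,
      classInner (atCoset C s η i.val) (β : ↥C → ℂ) = ∑ j : ZMod q, (n j : ℂ) * ω ^ (i * j).val := by
  classical
  let X := Subgroup.zpowers s
  have hgenX : ∀ a : ↥X, a ∈ Subgroup.zpowers (⟨s, Subgroup.mem_zpowers s⟩ : ↥X) := by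
    rintro ⟨a, ha⟩
    obtain ⟨k, rfl⟩ := Subgroup.mem_zpowers_iff.mp ha
    exact Subgroup.mem_zpowers_iff.mpr ⟨k, Subtype.ext (by simp)⟩
  let u : ℂˣ := Units.mk0 ω (hω.ne_zero (NeZero.ne q))
  have hu : IsPrimitiveRoot u q := IsPrimitiveRoot.coe_units_iff.mp hω
  let l0 := monoidHomOfForallMemZpowers hgenX (show orderOf u ∣ orderOf (⟨s, Subgroup.mem_zpowers s⟩ : ↥X) by
    rw [Subgroup.orderOf_mk, h.ord, ← hu.eq_orderOf])
  let s' : ↥C × ↥X := (1, ⟨s, Subgroup.mem_zpowers s⟩)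
  let K0 : Subgroup (↥C × ↥X) := (⊤ : Subgroup ↥C).prod ⊥
  have hd : CycData K0 s' q (l0.comp (MonoidHom.snd ↥C ↥X)) ω := by
    have hl : l0 ⟨s, Subgroup.mem_zpowers s⟩ = u := monoidHomOfForallMemZpowers_apply_gen hgenX _
    refine ⟨hω, by simp [s', hl, u], fun z => ?_, fun z => ?_⟩
    · obtain ⟨c, a⟩ := z
      obtain ⟨i, rfl⟩ := mem_powers_iff_mem_zpowers.mpr (hgenX a)
      simp only [MonoidHom.coe_comp, MonoidHom.coe_snd, Function.comp_apply, map_pow, hl, K0,
        Subgroup.mem_prod, Subgroup.mem_top, true_and, Subgroup.mem_bot]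
      rw [← orderOf_dvd_iff_pow_eq_one, ← orderOf_dvd_iff_pow_eq_one, Subgroup.orderOf_mk, h.ord, ← hu.eq_orderOf]
    · obtain ⟨c, a⟩ := z
      obtain ⟨i, rfl⟩ := mem_powers_iff_mem_zpowers.mpr (hgenX a)
      exact ⟨(c, 1), by simp [K0, Subgroup.mem_prod], i, by simp [s']⟩
  let Θ : ↥C × ↥X →* G :=
    { toFun := fun z => (z.1 : G) * (z.2 : G)
      map_one' := by simp
      map_mul' := fun a b => by
        obtain ⟨j, hj⟩ := mem_powers_iff_mem_zpowers.mpr a.2.2
        simp only at hj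
        have hc : Commute (b.1 : G) (a.2 : G) := hj ▸ h.commute b.1.2 j
        simp only [Prod.fst_mul, Prod.snd_mul, Subgroup.coe_mul]
        rw [mul_assoc, ← mul_assoc (b.1 : G), hc.eq]
        group }
  set Φ : ↥C × ↥X → ℂ := fun z => η (Θ z)
  set Ψ : ↥C × ↥X → ℂ := fun z => (β : ↥C → ℂ) z.1
  have hΨ : IsIrrCharacter (↥C × ↥X) Ψ :=
    CfsgLib.Char.IsIrrCharacter.comp_surjective β.2 (MonoidHom.fst ↥C ↥X) fun c => ⟨(c, 1), rfl⟩
  choose n hn using fun j => CfsgLib.Char.IsCharacter.exists_classInner_eq_natCast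
    (CfsgLib.Char.IsCharacter.comp hη Θ) (hd.isIrr_twist j hΨ)
  refine ⟨n, fun i => ?_⟩
  have h1 := hd.cosetInner_eq Φ Ψ i
  simp only [Φ, hn] at h1
  rw [← h1, cosetInner, classInner, Nat.card_eq_fintype_card]
  have e : ↥K0 ≃ ↥C :=
    { toFun := fun z => z.1.1
      invFun := fun c => ⟨(c, 1), by simp [K0, Subgroup.mem_prod]⟩
      left_inv := fun z => Subtype.ext (Prod.ext rfl (Subgroup.mem_bot.mp (Subgroup.mem_prod.mp z.2).2).symm)
      right_inv := fun c => rfl }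
  rw [Fintype.card_congr e]
  congr 1
  symm
  refine Fintype.sum_bijective (fun z : ↥K0 => z.1.1) ?_ _ _ fun z => ?_
  · exact ⟨fun a b hab => Subtype.ext (Prod.ext hab ((Subgroup.mem_bot.mp (Subgroup.mem_prod.mp a.2).2).trans
      (Subgroup.mem_bot.mp (Subgroup.mem_prod.mp b.2).2).symm)),
      fun c => ⟨⟨(c, 1), by simp [K0, Subgroup.mem_prod]⟩, rfl⟩⟩
  · simp [atCoset, Θ, Ψ, s', Subgroup.mem_bot.mp (Subgroup.mem_prod.mp z.2).2]

/-- The coefficients are rational integers, and do not change when `i` is multiplied by a unit. -/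
theorem CopSetup.exists_coeff_int [NeZero q] (h : CopSetup K s q C) {η : G → ℂ} (hη : IsCan K s η)
    (β : IrrCharacter ↥C) : ∃ v : ZMod q → ℤ,
      (∀ i, classInner (atCoset C s η i.val) (β : ↥C → ℂ) = v i) ∧ ∀ i u, IsUnit u → v (u * i) = v i := by
  have hω := Complex.isPrimitiveRoot_exp q (NeZero.ne q)
  set ω := Complex.exp (2 * Real.pi * Complex.I / q)
  obtain ⟨n, hn⟩ := h.exists_coeff_poly hω (CfsgLib.Char.IsIrrCharacter.isCharacter hη.irr) β
  set w : ZMod q → ℂ := fun i => classInner (atCoset C s η i.val) (β : ↥C → ℂ)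
  have hK : 0 < Nat.card ↥K := Nat.card_pos
  have hmov : ∀ (t : ℕ), t.Coprime q → ∀ σ : ℂ ≃+* ℂ, σ ω = ω ^ t → ∀ i, σ (w i) = w (t * i) := by
    intro t _ σ hσ i
    simp only [w, hn, map_sum, map_mul, map_natCast, map_pow, hσ]
    refine sum_congr rfl fun j _ => ?_
    rw [← pow_mul]
    congr 1
    refine pow_eq_pow_of_modEq ((ZMod.natCast_eq_natCast_iff _ _ q).mp ?_) hω.pow_eq_one
    push_cast [ZMod.natCast_zmod_val]
    ring
  have hfix : ∀ t : ℕ, t.Coprime q → ∀ σ : ℂ ≃+* ℂ, σ ω = ω ^ t → ∀ i, σ (w i) = w i := by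
    intro t ht σ hσ i
    obtain ⟨t', ht1, ht2⟩ := Nat.chineseRemainder h.cop 1 t
    have hcop : t'.Coprime (Nat.card ↥K * q) := by
      refine Nat.Coprime.mul_right ?_ ?_
      · rw [Nat.Coprime, ht1.gcd_eq]; exact Nat.gcd_one_left _
      · rw [Nat.Coprime, ht2.gcd_eq]; exact ht
    obtain ⟨σ', hσ'⟩ := CfsgLib.Char.exists_ringEquiv_pow (Nat.mul_pos hK (NeZero.pos q)) hcop
    have hσK : ∀ z : ℂ, z ^ Nat.card ↥K = 1 → σ' z = z := fun z hz => by
      rw [hσ' z (by rw [pow_mul, hz, one_pow]), pow_eq_pow_of_modEq ht1 hz, pow_one]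
    have hσω : σ' ω = ω ^ t := by
      rw [hσ' ω (by rw [mul_comm, pow_mul, hω.pow_eq_one, one_pow]), pow_eq_pow_of_modEq ht2 hω.pow_eq_one]
    rw [hmov t ht σ hσ i, ← hmov t ht σ' hσω i]
    simp only [w, classInner, map_mul, map_inv₀, map_natCast, map_sum, atCoset, h.can_galois hη σ' hσK,
      ← CfsgLib.Char.IsIrrCharacter.apply_inv β.2]
    congr 1
    refine sum_congr rfl fun c _ => ?_
    congr 1
    have := CfsgLib.Char.IsCharacter.map_ringEquiv_eq_pow (CfsgLib.Char.IsIrrCharacter.isCharacter β.2) σ'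
      (t := 1) (g := c⁻¹) (fun z hz => by
        rw [pow_one]
        refine hσK z ?_
        obtain ⟨d, hd⟩ := (orderOf_dvd_natCard c⁻¹).trans (Subgroup.card_dvd_of_le h.C_le)
        rw [hd, pow_mul, hz, one_pow])
    rwa [pow_one] at this
  have hint : ∀ i, ∃ m : ℤ, w i = m := fun i => by
    refine CfsgLib.Char.exists_int_of_fixed ?_ fun σ => ?_
    · simp only [w, hn]
      refine IsIntegral.sum _ fun j _ => IsIntegral.mul (isIntegral_natCast (n j)) ?_
      exact IsIntegral.of_pow (NeZero.pos q) (by rw [← pow_mul, mul_comm, pow_mul, hω.pow_eq_one, one_pow]; exact isIntegral_one)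
    · have hσω : IsPrimitiveRoot (σ ω) q := hω.map_of_injective σ.injective
      obtain ⟨t, -, ht⟩ := hω.eq_pow_of_pow_eq_one hσω.pow_eq_one
      have htc : t.Coprime q := (hω.pow_iff_coprime (NeZero.pos q) t).mp (ht ▸ hσω)
      exact hfix t htc σ ht.symm i
  choose v hv using hint
  refine ⟨v, hv, fun i u hu => ?_⟩
  have htc : u.val.Coprime q := (ZMod.isUnit_iff_coprime u.val q).mp (by rwa [ZMod.natCast_zmod_val])
  obtain ⟨σ, hσ⟩ := CfsgLib.Char.exists_ringEquiv_pow (NeZero.pos q) htc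
  have h1 := hfix u.val htc σ (hσ ω hω.pow_eq_one) i
  rw [hmov u.val htc σ (hσ ω hω.pow_eq_one) i, ZMod.natCast_zmod_val, hv, hv] at h1
  exact_mod_cast h1

/-- On a coset `C * s ^ i` with fixed points `C`, a canonical extension is `±` an irreducible character. -/
theorem CopSetup.coset_value [NeZero q] (h : CopSetup K s q C) {η : G → ℂ} (hη : IsCan K s η) (i : ZMod q)
    (hfix : ∀ a ∈ K, Commute a (s ^ i.val) → a ∈ C) :
    ∃ (β : IrrCharacter ↥C) (ε : ℤ), (ε = 1 ∨ ε = -1) ∧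
      atCoset C s η i.val = (ε : ℂ) • (β : ↥C → ℂ) := by
  classical
  have hcf := h.atCoset_classFun (CfsgLib.Char.IsIrrCharacter.isClassFunction hη.irr) i.val
  choose v hv using fun β : IrrCharacter ↥C => h.exists_coeff_int hη β
  have h1 := h.orth hη hη i hfix
  rw [if_pos rfl, CfsgLib.Char.classInner_eq_sum_irr hcf] at h1
  let hFI := Fintype.ofFinite (IrrCharacter ↥C)
  rw [Finset.sum_subtype (F := hFI) (CfsgLib.Char.irrFinset ↥C) (fun _ => CfsgLib.Char.mem_irrFinset)] at h1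
  have hsum : ∑ β : IrrCharacter ↥C, v β i ^ 2 = 1 := by
    have : ∀ β : IrrCharacter ↥C, classInner (atCoset C s η i.val) (β : ↥C → ℂ) *
        conj (classInner (atCoset C s η i.val) (β : ↥C → ℂ)) = ((v β i ^ 2 : ℤ) : ℂ) := fun β => by
      rw [(hv β).1 i, map_intCast]; push_cast; ring
    simp only [this] at h1
    exact_mod_cast h1
  obtain ⟨β, -, hβ⟩ : ∃ β ∈ univ, v β i ^ 2 ≠ 0 := exists_ne_zero_of_sum_ne_zero (by rw [hsum]; decide)
  have hle : v β i ^ 2 ≤ 1 := hsum ▸ single_le_sum (fun b _ => sq_nonneg (v b i)) (mem_univ β)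
  have hone : v β i ^ 2 = 1 := le_antisymm hle (by have := sq_nonneg (v β i); omega)
  refine ⟨β, v β i, sq_eq_one_iff.mp hone, ?_⟩
  have hothers : ∀ b, b ≠ β → v b i = 0 := fun b hb => by
    have := sum_erase_add univ (fun b => v b i ^ 2) (mem_univ β)
    rw [hsum, hone, add_eq_right] at this
    exact pow_eq_zero_iff two_ne_zero |>.mp
      ((sum_eq_zero_iff_of_nonneg fun b _ => sq_nonneg (v b i)).mp this b (by simp [hb]))
  rw [CfsgLib.Char.eq_sum_irr hcf, Finset.sum_subtype (F := hFI) (CfsgLib.Char.irrFinset ↥C) (fun _ => CfsgLib.Char.mem_irrFinset),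
    sum_eq_single β]
  · rw [(hv β).1 i]
  · intro b _ hb
    rw [(hv b).1 i, hothers b hb, Int.cast_zero, zero_smul]
  · simp

end CfsgLib.GlaubermanCorr
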