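import Cfsg.Agent.GlaubermanCorr.Action
import Cfsg.Prelude.Def_Blocks
import Mathlib.RingTheory.RootsOfUnity.Complex
import Mathlib.GroupTheory.Nilpotent

/-!
# The correspondence for a `p`-group normalizing `K`, `K` having a normal Sylow `p`-subgroup `Q`
-/

namespace CfsgLib.GlaubermanCorr

open Finset Cfsg MulAction

universe u

variable {G : Type u} [Group G]

/-- `χ` is fixed under conjugation by every element of `P`. -/
def Inv (H P : Subgroup G) (χ : ↥H → ℂ) : Prop := ∀ y ∈ P, InvBy H y χ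

theorem inv_of_isClassFunction_mem {H : Subgroup G} {x : G} (hx : x ∈ H) {χ : ↥H → ℂ}
    (hχ : IsClassFunction ↥H χ) : InvBy H x χ := fun k k' e => by
  have h : k' = ⟨x, hx⟩ * k * ⟨x, hx⟩⁻¹ := Subtype.ext (by simpa using e)
  rw [h]
  exact hχ _ _

/-- A `p`-element of `K` lies in the normal Sylow `p`-subgroup `Q` of `K`. -/
theorem mem_of_pow_eq_one [Finite G] {p : ℕ} [Fact p.Prime] {K Q : Subgroup G}
    (hQn : ∀ k ∈ K, ∀ q ∈ Q, k * q * k⁻¹ ∈ Q) (hsyl : ¬ p ∣ Q.relIndex K) {k : G} (hk : k ∈ K) {e : ℕ}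
    (he : k ^ p ^ e = 1) : k ∈ Q := by
  have : (Q.subgroupOf K).Normal := ⟨fun q hq a => hQn a a.2 q hq⟩
  have h1 : ((⟨k, hk⟩ : ↥K) : ↥K ⧸ Q.subgroupOf K) ^ p ^ e = 1 := by
    rw [← QuotientGroup.mk_pow]
    have : (⟨k, hk⟩ : ↥K) ^ p ^ e = 1 := Subtype.ext (by simpa using he)
    rw [this, QuotientGroup.mk_one]
  have h2 : orderOf ((⟨k, hk⟩ : ↥K) : ↥K ⧸ Q.subgroupOf K) ∣ Q.relIndex K := orderOf_dvd_natCard _
  have := orderOf_eq_one_iff.mp (Nat.eq_one_of_dvd_coprimes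
    (Nat.Coprime.pow_left e ((Fact.out : p.Prime).coprime_iff_not_dvd.mpr hsyl)) (orderOf_dvd_of_pow_eq_one h1) h2)
  exact Subgroup.mem_subgroupOf.mp ((QuotientGroup.eq_one_iff (⟨k, hk⟩ : ↥K)).mp this)

theorem classInner_congr_sum {A : Type*} [Group A] {iA iA' : Fintype A} (φ ψ : A → ℂ) :
    @classInner A _ iA φ ψ = @classInner A _ iA' φ ψ := by
  rw [Subsingleton.elim iA iA']

variable [Fintype G] {p : ℕ} [Fact p.Prime]

open scoped Classical in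
/-- The correspondence for one element `x`, inside an ambient group. -/
theorem exists_step {K Q C : Subgroup G} [Fintype ↥K] [Fintype ↥C] {x : G} (hQK : Q ≤ K)
    (hQn : ∀ k ∈ K, ∀ q ∈ Q, k * q * k⁻¹ ∈ Q) (hsyl : ¬ p ∣ Q.relIndex K)
    (hxK : ∀ k ∈ K, x * k * x⁻¹ ∈ K) (hxQ : ∀ q ∈ Q, x * q * x⁻¹ ∈ Q) (hxp : ∃ e : ℕ, x ^ p ^ e = 1)
    (hCK : C ≤ K) (hC : ∀ k, k ∈ C ↔ k ∈ K ∧ x * k * x⁻¹ * k⁻¹ ∈ Q) :
    ∃ f : {χ : IrrCharacter ↥K // InvBy K x (χ : ↥K → ℂ)} → {ψ : IrrCharacter ↥C // InvBy C x (ψ : ↥C → ℂ)},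
      Function.Bijective f ∧ ∀ χ ψ, ∃ m : ℕ,
        classInner (fun c : ↥C => (χ.1 : ↥K → ℂ) ⟨c, hCK c.2⟩) (ψ.1 : ↥C → ℂ) = (m : ℂ) ∧
        (ψ = f χ → (m : ZMod p) ^ 2 = 1) ∧ (ψ ≠ f χ → (m : ZMod p) = 0) := by
  by_cases hx : x ∈ K
  · obtain ⟨e, he⟩ := hxp
    have hxQ' : x ∈ Q := mem_of_pow_eq_one hQn hsyl hx he
    have hCeq : C = K := by
      refine le_antisymm hCK fun k hk => (hC k).mpr ⟨hk, ?_⟩
      rw [mul_assoc, mul_assoc, ← mul_assoc k]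
      exact mul_mem hxQ' (hQn k hk _ (inv_mem hxQ'))
    subst hCeq
    refine ⟨id, Function.bijective_id, fun χ ψ => ⟨if ψ = χ then 1 else 0, ?_, fun h => ?_, fun h => ?_⟩⟩
    · rw [classInner_congr_sum]
      change classInner (χ.1 : ↥C → ℂ) (ψ.1 : ↥C → ℂ) = _
      split_ifs with h
      · subst h; rw [CfsgLib.Char.IsIrrCharacter.classInner_self ψ.1.2, Nat.cast_one]
      · rw [CfsgLib.Char.IsIrrCharacter.classInner_of_ne χ.1.2 ψ.1.2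
          (fun e => h (Subtype.ext (Subtype.ext e.symm))), Nat.cast_zero]
    · simp [show ψ = χ from h]
    · simp [show ψ ≠ χ from h]
  set Γ := K ⊔ Subgroup.zpowers x with hΓ
  have hxΓ : x ∈ Γ := Subgroup.mem_sup_right (Subgroup.mem_zpowers x)
  have hKΓ : K ≤ Γ := le_sup_left
  have hQΓ : Q ≤ Γ := hQK.trans hKΓ
  have hCΓ : C ≤ Γ := hCK.trans hKΓ
  have hnorm : ∀ H : Subgroup G, (∀ h ∈ H, x * h * x⁻¹ ∈ H) → x ∈ Subgroup.normalizer (H : Set G) :=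
    fun H hH => Subgroup.mem_normalizer_fintype hH
  have : (K.subgroupOf Γ).Normal := by
    rw [Subgroup.normal_subgroupOf_iff_le_normalizer hKΓ]
    exact sup_le Subgroup.le_normalizer (Subgroup.zpowers_le.mpr (hnorm K hxK))
  have : (Q.subgroupOf Γ).Normal := by
    rw [Subgroup.normal_subgroupOf_iff_le_normalizer hQΓ]
    refine sup_le (fun k hk => Subgroup.mem_normalizer_fintype (hQn k hk)) (Subgroup.zpowers_le.mpr (hnorm Q hxQ))
  set x' : ↥Γ := ⟨x, hxΓ⟩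
  have hS : Setup p (K.subgroupOf Γ) (Q.subgroupOf Γ) x' (C.subgroupOf Γ) := by
    refine ⟨fun a ha => hQK ha, ?_, ?_, ?_, fun k => ?_⟩
    · rwa [Subgroup.relIndex_subgroupOf hKΓ]
    · obtain ⟨e, he⟩ := hxp; exact ⟨e, Subtype.ext (by simpa using he)⟩
    · rw [← (Subgroup.map_injective Γ.subtype_injective).eq_iff, Subgroup.map_sup, Subgroup.map_subgroupOf_eq_of_le hKΓ,
        MonoidHom.map_zpowers, ← MonoidHom.range_eq_map, Subgroup.range_subtype]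
      rfl
    · simp only [Subgroup.mem_subgroupOf, hC, Subgroup.coe_mul, Subgroup.coe_inv, x']
  -- the cyclic quotient
  set M := K.subgroupOf Γ
  set y : ↥Γ ⧸ M := (x' : ↥Γ ⧸ M)
  have hgen' : ∀ g : ↥Γ, ∃ k ∈ M, ∃ i : ℕ, g = k * x' ^ i := by
    intro g
    obtain ⟨a, ha, b, hb, rfl⟩ := Subgroup.mem_sup_of_normal_left.mp (hS.top ▸ Subgroup.mem_top g)
    obtain ⟨i, rfl⟩ := mem_powers_iff_mem_zpowers.mpr hb
    exact ⟨a, ha, i, rfl⟩
  have hgen : ∀ a : ↥Γ ⧸ M, a ∈ Subgroup.zpowers y := by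
    intro a
    induction a using QuotientGroup.induction_on with | _ g =>
    obtain ⟨k, hk, i, rfl⟩ := hgen' g
    rw [QuotientGroup.mk_mul, (QuotientGroup.eq_one_iff k).mpr hk, one_mul, QuotientGroup.mk_pow]
    exact Subgroup.npow_mem_zpowers y i
  obtain ⟨j, hj⟩ : ∃ k, orderOf y = p ^ (k + 1) := by
    obtain ⟨e, he⟩ := hS.pelem
    obtain ⟨j, -, hj⟩ := (Nat.dvd_prime_pow (Fact.out : p.Prime)).mp
      (orderOf_dvd_of_pow_eq_one (show y ^ p ^ e = 1 by rw [← QuotientGroup.mk_pow, he, QuotientGroup.mk_one]))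
    cases j with
    | zero =>
      rw [pow_zero, orderOf_eq_one_iff] at hj
      exact absurd ((QuotientGroup.eq_one_iff x').mp hj) hx
    | succ k => exact ⟨k, hj⟩
  set q := p ^ (j + 1)
  have : NeZero q := ⟨pow_ne_zero _ (Fact.out : p.Prime).ne_zero⟩
  have hω : IsPrimitiveRoot (Complex.exp (2 * Real.pi * Complex.I / q)) q :=
    Complex.isPrimitiveRoot_exp q (NeZero.ne q)
  set ω : ℂ := Complex.exp (2 * Real.pi * Complex.I / q)
  let u : ℂˣ := Units.mk0 ω (hω.ne_zero (NeZero.ne q))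
  have hu : IsPrimitiveRoot u q := IsPrimitiveRoot.coe_units_iff.mp hω
  let lam0 := monoidHomOfForallMemZpowers hgen (show orderOf u ∣ orderOf y by rw [hj, ← hu.eq_orderOf])
  have hlam0 : lam0 y = u := monoidHomOfForallMemZpowers_apply_gen hgen _
  let lam : ↥Γ →* ℂˣ := lam0.comp (QuotientGroup.mk' M)
  have hcyc : CycData M x' q lam ω := by
    refine ⟨hω, ?_, fun g => ?_, hgen'⟩
    · simp [lam, hlam0, y, u]
    · rw [← QuotientGroup.eq_one_iff]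
      change lam0 (g : ↥Γ ⧸ M) = 1 ↔ _
      obtain ⟨i, hi⟩ := mem_powers_iff_mem_zpowers.mpr (hgen (g : ↥Γ ⧸ M))
      simp only at hi
      rw [← hi, map_pow, hlam0, ← orderOf_dvd_iff_pow_eq_one, ← orderOf_dvd_iff_pow_eq_one, hj, ← hu.eq_orderOf]
  obtain ⟨f, hf, hfm⟩ := hS.exists_bijection hcyc
  let eK : ↥M ≃* ↥K := Subgroup.subgroupOfEquivOfLe hKΓ
  let eC : ↥(C.subgroupOf Γ) ≃* ↥C := Subgroup.subgroupOfEquivOfLe hCΓ
  let tr : ∀ {H : Subgroup G} (hH : H ≤ Γ), {χ : IrrCharacter ↥H // InvBy H x (χ : ↥H → ℂ)} ≃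
      {χ : IrrCharacter ↥(H.subgroupOf Γ) // InvBy (H.subgroupOf Γ) x' (χ : ↥(H.subgroupOf Γ) → ℂ)} := fun {H} hH =>
    { toFun := fun χ => ⟨⟨fun a => (χ.1 : ↥H → ℂ) (Subgroup.subgroupOfEquivOfLe hH a),
        CfsgLib.Char.IsIrrCharacter.comp_surjective χ.1.2 (Subgroup.subgroupOfEquivOfLe hH).toMonoidHom
          (Subgroup.subgroupOfEquivOfLe hH).surjective⟩, fun a b e => χ.2 _ _ (congrArg Subtype.val e)⟩
      invFun := fun χ => ⟨⟨fun a => (χ.1 : ↥(H.subgroupOf Γ) → ℂ) ((Subgroup.subgroupOfEquivOfLe hH).symm a),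
        CfsgLib.Char.IsIrrCharacter.comp_surjective χ.1.2 (Subgroup.subgroupOfEquivOfLe hH).symm.toMonoidHom
          (Subgroup.subgroupOfEquivOfLe hH).symm.surjective⟩, fun a b e => χ.2 _ _ (Subtype.ext e)⟩
      left_inv := fun χ => Subtype.ext (Subtype.ext (funext fun a => by simp))
      right_inv := fun χ => Subtype.ext (Subtype.ext (funext fun a => by simp)) }
  refine ⟨fun χ => (tr hCΓ).symm (f (tr hKΓ χ)), (tr hCΓ).symm.bijective.comp (hf.comp (tr hKΓ).bijective),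
    fun χ ψ => ?_⟩
  obtain ⟨m, hm, hm1, hm2⟩ := hfm (tr hKΓ χ) (tr hCΓ ψ)
  refine ⟨m, ?_, fun h => hm1 (((tr hCΓ).eq_symm_apply).mp h), fun h => hm2 fun h' => h (((tr hCΓ).eq_symm_apply).mpr h')⟩
  rw [← hm, ← classInner_comp_equiv eC]
  rfl

theorem classInner_trans {K D C : Subgroup G} [Fintype ↥D] [Fintype ↥C] [Fintype (IrrCharacter ↥D)] (hDK : D ≤ K) (hCD : C ≤ D)
    {χ : ↥K → ℂ} (hχ : IsCharacter ↥K χ) (ξ : ↥C → ℂ) :
    classInner (fun c : ↥C => χ ⟨c, hDK (hCD c.2)⟩) ξ = ∑ ψ : IrrCharacter ↥D,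
      classInner (fun d : ↥D => χ ⟨d, hDK d.2⟩) (ψ : ↥D → ℂ) *
        classInner (fun c : ↥C => (ψ : ↥D → ℂ) ⟨c, hCD c.2⟩) ξ := by
  classical
  have hcf : IsClassFunction ↥D (fun d : ↥D => χ ⟨d, hDK d.2⟩) := fun g h => by
    exact CfsgLib.Char.IsCharacter.isClassFunction hχ (Subgroup.inclusion hDK g) (Subgroup.inclusion hDK h)
  have he := CfsgLib.Char.eq_sum_irr hcf
  rw [Finset.sum_subtype (CfsgLib.Char.irrFinset ↥D) (fun _ => CfsgLib.Char.mem_irrFinset)] at he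
  have : (fun c : ↥C => χ ⟨c, hDK (hCD c.2)⟩) = ∑ ψ : IrrCharacter ↥D,
      classInner (fun d : ↥D => χ ⟨d, hDK d.2⟩) (ψ : ↥D → ℂ) • (fun c : ↥C => (ψ : ↥D → ℂ) ⟨c, hCD c.2⟩) := by
    funext c
    have := congrFun he ⟨c, hCD c.2⟩
    simp only [Finset.sum_apply, Pi.smul_apply] at this ⊢
    exact this
  rw [this, CfsgLib.Char.classInner_sum_left]
  exact sum_congr rfl fun ψ _ => CfsgLib.Char.classInner_smul_left _ _ _

theorem charAction_inv {P P0 H : Subgroup G} (hPH : P ≤ Subgroup.normalizer (H : Set G))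
    (hn : ∀ a ∈ P, ∀ b ∈ P0, a * b * a⁻¹ ∈ P0) (y : ↥P) {χ : IrrCharacter ↥H} (hχ : Inv H P0 (χ : ↥H → ℂ)) :
    Inv H P0 (((charAction hPH).smul y χ : IrrCharacter ↥H) : ↥H → ℂ) := by
  intro b hb k k' hk
  change (χ : ↥H → ℂ) (conjSub hPH y⁻¹ k') = (χ : ↥H → ℂ) (conjSub hPH y⁻¹ k)
  refine hχ _ (hn (y⁻¹ : ↥P) (y⁻¹ : ↥P).2 b hb) _ _ ?_
  simp only [conjSub_coe, hk, Subgroup.coe_inv]
  group

omit [Fintype G] in
/-- `H` is mapped to itself by every element of `P`. -/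
theorem le_normalizer_of_conj {P H : Subgroup G} [Finite G] (h : ∀ y ∈ P, ∀ k ∈ H, y * k * y⁻¹ ∈ H) :
    P ≤ Subgroup.normalizer (H : Set G) := fun y hy => Subgroup.mem_normalizer_fintype (h y hy)

omit [Fintype G] [Fact p.Prime] in
theorem exists_index_p {P : Subgroup G} [Finite G] [Fact p.Prime] (hP : IsPGroup p ↥P) (hne : P ≠ ⊥) :
    ∃ P0 < P, (∀ a ∈ P, ∀ b ∈ P0, a * b * a⁻¹ ∈ P0) ∧ ∃ x ∈ P, P0 ⊔ Subgroup.zpowers x = P := by
  have : Nontrivial ↥P := (Subgroup.nontrivial_iff_ne_bot P).mpr hne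
  obtain ⟨M, hM⟩ := IsCoatomic.exists_coatom (α := Subgroup ↥P)
  have : Group.IsNilpotent ↥P := hP.isNilpotent
  have hMn : M.Normal := Subgroup.NormalizerCondition.normal_of_coatom M Group.normalizerCondition_of_isNilpotent hM
  obtain ⟨x, -, hx⟩ := SetLike.exists_of_lt hM.1.lt_top
  have hle : M.map P.subtype ≤ P := Subgroup.map_subtype_le M
  refine ⟨M.map P.subtype, lt_of_le_of_ne hle fun h => hM.1 ?_, fun a ha b hb => ?_, x, x.2, ?_⟩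
  · exact Subgroup.map_injective P.subtype_injective (h.trans P.range_subtype.symm |>.trans (MonoidHom.range_eq_map _))
  · obtain ⟨b, hb, rfl⟩ := hb
    exact ⟨⟨a, ha⟩ * b * ⟨a, ha⟩⁻¹, hMn.conj_mem b hb _, rfl⟩
  · have : M ⊔ Subgroup.zpowers x = ⊤ := by
      refine hM.2 _ (lt_of_le_of_ne le_sup_left fun h => hx ?_)
      rw [h]; exact Subgroup.mem_sup_right (Subgroup.mem_zpowers x)
    conv_rhs => rw [← P.range_subtype, MonoidHom.range_eq_map, ← this, Subgroup.map_sup, MonoidHom.map_zpowers]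
    rfl

open scoped Classical in
theorem exists_correspondence_aux (n : ℕ) : ∀ (P : Subgroup G), Nat.card ↥P = n → IsPGroup p ↥P →
    ∀ (K Q C : Subgroup G), Q ≤ K → (∀ k ∈ K, ∀ q ∈ Q, k * q * k⁻¹ ∈ Q) → (∀ y ∈ P, ∀ q ∈ Q, y * q * y⁻¹ ∈ Q) → ¬ p ∣ Q.relIndex K →
    (∀ y ∈ P, ∀ k ∈ K, y * k * y⁻¹ ∈ K) → ∀ (hCK : C ≤ K),
    (∀ k, k ∈ C ↔ k ∈ K ∧ ∀ y ∈ P, y * k * y⁻¹ * k⁻¹ ∈ Q) →
    ∃ f : {χ : IrrCharacter ↥K // Inv K P (χ : ↥K → ℂ)} → {ξ : IrrCharacter ↥C // Inv C P (ξ : ↥C → ℂ)},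
      Function.Bijective f ∧ ∀ χ ξ, ∃ m : ℕ,
        classInner (fun c : ↥C => (χ.1 : ↥K → ℂ) ⟨c, hCK c.2⟩) (ξ.1 : ↥C → ℂ) = (m : ℂ) ∧
        (ξ = f χ → (m : ZMod p) ^ 2 = 1) ∧ (ξ ≠ f χ → (m : ZMod p) = 0) := by
  induction n using Nat.strong_induction_on with | _ n ih =>
  intro P hn hP K Q C hQK hQn hPQ hsyl hPK hCK hC
  by_cases hbot : P = ⊥
  · subst hbot
    have hCeq : C = K := le_antisymm hCK fun k hk => (hC k).mpr ⟨hk, fun y hy => by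
      rw [Subgroup.mem_bot] at hy; subst hy; simp⟩
    subst hCeq
    refine ⟨id, Function.bijective_id, fun χ ψ => ⟨if ψ = χ then 1 else 0, ?_, fun h => ?_, fun h => ?_⟩⟩
    · change classInner (χ.1 : ↥C → ℂ) (ψ.1 : ↥C → ℂ) = _
      split_ifs with h
      · subst h; rw [CfsgLib.Char.IsIrrCharacter.classInner_self ψ.1.2, Nat.cast_one]
      · rw [CfsgLib.Char.IsIrrCharacter.classInner_of_ne χ.1.2 ψ.1.2
          (fun e => h (Subtype.ext (Subtype.ext e.symm))), Nat.cast_zero]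
    · simp [show ψ = χ from h]
    · simp [show ψ ≠ χ from h]
  obtain ⟨P0, hlt, hP0n, x, hx, hsup⟩ := exists_index_p hP hbot
  have hxp : ∃ e : ℕ, x ^ p ^ e = 1 := by
    obtain ⟨e, he⟩ := hP ⟨x, hx⟩; exact ⟨e, congrArg Subtype.val he⟩
  -- the fixed points of `P0`
  let C0 : Subgroup G :=
    { carrier := {k | k ∈ K ∧ ∀ y ∈ P0, y * k * y⁻¹ * k⁻¹ ∈ Q}
      mul_mem' := by
        rintro a b ⟨ha, ha'⟩ ⟨hb, hb'⟩
        refine ⟨mul_mem ha hb, fun y hy => ?_⟩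
        have := mul_mem (ha' y hy) (hQn a ha _ (hb' y hy))
        convert this using 1; group
      one_mem' := ⟨one_mem K, fun y _ => by simp⟩
      inv_mem' := by
        rintro a ⟨ha, ha'⟩
        refine ⟨inv_mem ha, fun y hy => ?_⟩
        have := hQn a⁻¹ (inv_mem ha) _ (inv_mem (ha' y hy))
        convert this using 1; group }
  have hC0 : ∀ k, k ∈ C0 ↔ k ∈ K ∧ ∀ y ∈ P0, y * k * y⁻¹ * k⁻¹ ∈ Q := fun _ => Iff.rfl
  have hC0K : C0 ≤ K := fun k hk => hk.1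
  have hQC0 : Q ≤ C0 := fun q hq => ⟨hQK hq, fun y hy => mul_mem (hPQ y (hlt.le hy) q hq) (inv_mem hq)⟩
  have hCC0 : C ≤ C0 := fun k hk => ⟨hCK hk, fun y hy => ((hC k).mp hk).2 y (hlt.le hy)⟩
  have hPC0 : ∀ a ∈ P, ∀ k ∈ C0, a * k * a⁻¹ ∈ C0 := fun a ha k hk => ⟨hPK a ha k hk.1, fun y hy => by
    have h1 := hPQ a ha _ (hk.2 _ (hP0n a⁻¹ (inv_mem ha) y hy))
    convert h1 using 1; group⟩
  have hPC : ∀ a ∈ P, ∀ k ∈ C, a * k * a⁻¹ ∈ C := fun a ha k hk => (hC _).mpr ⟨hPK a ha k (hCK hk), fun y hy => by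
    have h1 := hPQ a ha _ (((hC k).mp hk).2 (a⁻¹ * y * a) (mul_mem (mul_mem (inv_mem ha) hy) ha))
    convert h1 using 1; group⟩
  have hsyl0 : ¬ p ∣ Q.relIndex C0 := fun h => hsyl
    (h.trans ⟨_, (Subgroup.relIndex_mul_relIndex Q C0 K hQC0 hC0K).symm⟩)
  have hCx : ∀ k, k ∈ C ↔ k ∈ C0 ∧ x * k * x⁻¹ * k⁻¹ ∈ Q := by
    refine fun k => ⟨fun hk => ⟨hCC0 hk, ((hC k).mp hk).2 x hx⟩, fun ⟨hk, hkx⟩ => (hC k).mpr ⟨hk.1, ?_⟩⟩
    let S : Subgroup G :=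
      { carrier := {y | y ∈ P ∧ y * k * y⁻¹ * k⁻¹ ∈ Q}
        mul_mem' := by
          rintro a b ⟨ha, ha'⟩ ⟨hb, hb'⟩
          refine ⟨mul_mem ha hb, ?_⟩
          have := mul_mem (hPQ a ha _ hb') ha'
          convert this using 1; group
        one_mem' := ⟨one_mem P, by simp⟩
        inv_mem' := by
          rintro a ⟨ha, ha'⟩
          refine ⟨inv_mem ha, ?_⟩
          have := hPQ a⁻¹ (inv_mem ha) _ (inv_mem ha')
          convert this using 1; group }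
    have : P0 ⊔ Subgroup.zpowers x ≤ S :=
      sup_le (fun y hy => ⟨hlt.le hy, hk.2 y hy⟩) (Subgroup.zpowers_le.mpr ⟨hx, hkx⟩)
    exact fun y hy => (this (hsup.symm ▸ hy)).2
  obtain ⟨f0, hf0, hf0m⟩ := ih _ (hn ▸ Set.Finite.card_lt_card (Set.toFinite _) (SetLike.coe_ssubset_coe.mpr hlt)) P0 rfl (hP.to_le hlt.le) K Q C0 hQK hQn (fun y hy => hPQ y (hlt.le hy)) hsyl
    (fun y hy => hPK y (hlt.le hy)) hC0K hC0
  obtain ⟨g, hg, hgm⟩ := exists_step hQC0 (fun k hk => hQn k hk.1) hsyl0 (hPC0 x hx) (hPQ x hx) hxp hCC0 hCx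
  have hNK := le_normalizer_of_conj hPK
  have hN0 := le_normalizer_of_conj hPC0
  have hNC := le_normalizer_of_conj hPC
  have hinv : ∀ {H : Subgroup G} {χ : ↥H → ℂ}, Inv H P χ → Inv H P0 χ ∧ InvBy H x χ := fun h =>
    ⟨fun y hy => h y (hlt.le hy), h x hx⟩
  have hfix : ∀ {H : Subgroup G} (hPH : P ≤ Subgroup.normalizer (H : Set G)) (χ : IrrCharacter ↥H),
      Inv H P (χ : ↥H → ℂ) → ∀ y : ↥P, (charAction hPH).smul y χ = χ := fun hPH χ h =>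
    (charAction_fixed hPH χ).mpr h
  -- multiplicities
  choose mu hmu hmu1 hmu2 using hf0m
  choose nu hnu hnu1 hnu2 using hgm
  have hf0iff : ∀ χ ψ, (mu χ ψ : ZMod p) ≠ 0 ↔ ψ = f0 χ := fun χ ψ =>
    ⟨fun h => by_contra fun h' => h (hmu2 χ ψ h'), fun h h0 => by
      have := hmu1 χ ψ h; rw [h0] at this; simp at this⟩
  have hgiff : ∀ χ ψ, (nu χ ψ : ZMod p) ≠ 0 ↔ ψ = g χ := fun χ ψ =>
    ⟨fun h => by_contra fun h' => h (hnu2 χ ψ h'), fun h h0 => by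
      have := hnu1 χ ψ h; rw [h0] at this; simp at this⟩
  -- `f0` respects `P`-invariance
  have hup0 : ∀ χ, Inv K P (χ.1 : ↥K → ℂ) → Inv C0 P ((f0 χ).1 : ↥C0 → ℂ) := by
    intro χ hχ
    refine (charAction_fixed hN0 _).mp fun y => ?_
    have he : (⟨_, charAction_inv hN0 hP0n y (f0 χ).2⟩ : {ψ : IrrCharacter ↥C0 // Inv C0 P0 (ψ : ↥C0 → ℂ)}) = f0 χ := by
      rw [← hf0iff]
      intro h0
      apply (hf0iff χ (f0 χ)).mpr rfl
      have h1 := classInner_charAction hC0K hNK hN0 y χ.1 (f0 χ).1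
      rw [hfix hNK _ hχ, hmu χ ⟨_, charAction_inv hN0 hP0n y (f0 χ).2⟩, hmu χ (f0 χ), Nat.cast_inj] at h1
      rwa [← h1]
    exact congrArg Subtype.val he
  have hdown0 : ∀ χ, Inv C0 P ((f0 χ).1 : ↥C0 → ℂ) → Inv K P (χ.1 : ↥K → ℂ) := by
    intro χ hψ
    refine (charAction_fixed hNK _).mp fun y => ?_
    let χ' : {χ : IrrCharacter ↥K // Inv K P0 (χ : ↥K → ℂ)} := ⟨_, charAction_inv hNK hP0n y χ.2⟩
    have he : f0 χ = f0 χ' := by
      rw [← hf0iff]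
      intro h0
      apply (hf0iff χ (f0 χ)).mpr rfl
      have h1 := classInner_charAction hC0K hNK hN0 y χ.1 (f0 χ).1
      rw [hfix hN0 _ hψ, hmu χ (f0 χ), show classInner _ _ = _ from hmu χ' (f0 χ), Nat.cast_inj] at h1
      rwa [← h1]
    exact congrArg Subtype.val (hf0.1 he).symm
  -- `g` respects `P`-invariance
  have hex : ∀ (ψ : IrrCharacter ↥C0) (ξ : IrrCharacter ↥C), ∃ m : ℕ,
      classInner (fun c : ↥C => (ψ : ↥C0 → ℂ) ⟨c, hCC0 c.2⟩) (ξ : ↥C → ℂ) = (m : ℂ) := fun ψ ξ =>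
    CfsgLib.Char.IsCharacter.exists_classInner_eq_natCast
      (CfsgLib.Char.IsCharacter.comp (CfsgLib.Char.IsIrrCharacter.isCharacter ψ.2) (Subgroup.inclusion hCC0)) ξ.2
  choose b hb using hex
  have hbnu : ∀ ψ ξ, b ψ.1 ξ.1 = nu ψ ξ := fun ψ ξ => by
    have := (hb ψ.1 ξ.1).symm.trans (hnu ψ ξ); exact_mod_cast this
  have hbconj : ∀ (y : ↥P) ψ ξ, b ((charAction hN0).smul y ψ) ((charAction hNC).smul y ξ) = b ψ ξ := fun y ψ ξ => by
    have := classInner_charAction hCC0 hN0 hNC y ψ ξ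
    rw [hb, hb] at this; exact_mod_cast this
  have hxfix : ∀ {H : Subgroup G} (hPH : P ≤ Subgroup.normalizer (H : Set G)) (χ : IrrCharacter ↥H),
      (charAction hPH).smul ⟨x, hx⟩ χ = χ ↔ InvBy H x (χ : ↥H → ℂ) := by
    intro H hPH χ
    refine ⟨fun h k k' e => ?_, fun h => Subtype.ext (funext fun k => ?_)⟩
    · have := congrArg (fun ψ : IrrCharacter ↥H => (ψ : ↥H → ℂ) k') h
      change (χ : ↥H → ℂ) (conjSub hPH _ k') = (χ : ↥H → ℂ) k' at this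
      rw [show conjSub hPH _ k' = k from Subtype.ext (by rw [conjSub_coe, e]; simp [mul_assoc])] at this
      exact this.symm
    · change (χ : ↥H → ℂ) (conjSub hPH _ k) = (χ : ↥H → ℂ) k
      exact (h _ k (by simp [conjSub_coe, mul_assoc])).symm
  have hupg : ∀ ψ, Inv C0 P (ψ.1 : ↥C0 → ℂ) → Inv C P ((g ψ).1 : ↥C → ℂ) := by
    intro ψ hψ
    letI := charAction hNC
    let S : SubMulAction ↥P (IrrCharacter ↥C) := ⟨{ξ | (b ψ.1 ξ : ZMod p) ≠ 0}, fun y ξ (h : _ ≠ 0) => by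
      change (b ψ.1 ((charAction hNC).smul y ξ) : ZMod p) ≠ 0
      rwa [← hfix hN0 _ hψ y, hbconj]⟩
    have hmem : (g ψ).1 ∈ S := by
      change (b ψ.1 (g ψ).1 : ZMod p) ≠ 0
      rw [hbnu]; exact (hgiff _ _).mpr rfl
    have := fixed_of_unique_fixed hP (α := ↥S) ⟨x, hx⟩ ⟨_, hmem⟩ fun a => by
      constructor
      · intro h
        have hax : InvBy C x (a.1 : ↥C → ℂ) := (hxfix hNC a.1).mp (congrArg Subtype.val h)
        have : (⟨a.1, hax⟩ : {ξ : IrrCharacter ↥C // InvBy C x (ξ : ↥C → ℂ)}) = g ψ := by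
          rw [← hgiff, ← hbnu]; exact a.2
        exact Subtype.ext (congrArg Subtype.val this :)
      · rintro rfl; exact Subtype.ext ((hxfix hNC _).mpr (g ψ).2)
    exact (charAction_fixed hNC _).mp fun y => congrArg Subtype.val (this y)
  have hdowng : ∀ ψ, Inv C P ((g ψ).1 : ↥C → ℂ) → Inv C0 P (ψ.1 : ↥C0 → ℂ) := by
    intro ψ hξ
    letI := charAction hN0
    let S : SubMulAction ↥P (IrrCharacter ↥C0) := ⟨{a | (b a (g ψ).1 : ZMod p) ≠ 0}, fun y a (h : _ ≠ 0) => by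
      change (b ((charAction hN0).smul y a) (g ψ).1 : ZMod p) ≠ 0
      rwa [← hfix hNC _ hξ y, hbconj]⟩
    have hmem : ψ.1 ∈ S := by
      change (b ψ.1 (g ψ).1 : ZMod p) ≠ 0
      rw [hbnu]; exact (hgiff _ _).mpr rfl
    have := fixed_of_unique_fixed hP (α := ↥S) ⟨x, hx⟩ ⟨_, hmem⟩ fun a => by
      constructor
      · intro h
        have hax : InvBy C0 x (a.1 : ↥C0 → ℂ) := (hxfix hN0 a.1).mp (congrArg Subtype.val h)
        have : g ψ = g ⟨a.1, hax⟩ := by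
          rw [← hgiff, ← hbnu]; exact a.2
        exact Subtype.ext (congrArg Subtype.val (hg.1 this).symm :)
      · rintro rfl; exact Subtype.ext ((hxfix hN0 _).mpr ψ.2)
    exact (charAction_fixed hN0 _).mp fun y => congrArg Subtype.val (this y)
  -- the composite
  let F0 : {χ : IrrCharacter ↥K // Inv K P (χ : ↥K → ℂ)} → {ψ : IrrCharacter ↥C0 // Inv C0 P (ψ : ↥C0 → ℂ)} :=
    fun χ => ⟨_, hup0 ⟨χ.1, (hinv χ.2).1⟩ χ.2⟩
  let F1 : {ψ : IrrCharacter ↥C0 // Inv C0 P (ψ : ↥C0 → ℂ)} → {ξ : IrrCharacter ↥C // Inv C P (ξ : ↥C → ℂ)} :=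
    fun ψ => ⟨_, hupg ⟨ψ.1, (hinv ψ.2).2⟩ ψ.2⟩
  have hF0 : Function.Bijective F0 := by
    refine ⟨fun a c h => ?_, fun ψ => ?_⟩
    · exact Subtype.ext (congrArg Subtype.val (hf0.1 (Subtype.ext (congrArg Subtype.val h :))) :)
    · obtain ⟨χ, hχ⟩ := hf0.2 ⟨ψ.1, (hinv ψ.2).1⟩
      have h2 : Inv K P (χ.1 : ↥K → ℂ) := hdown0 χ (by rw [hχ]; exact ψ.2)
      exact ⟨⟨χ.1, h2⟩, Subtype.ext (congrArg Subtype.val hχ :)⟩
  have hF1 : Function.Bijective F1 := by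
    refine ⟨fun a c h => ?_, fun ξ => ?_⟩
    · exact Subtype.ext (congrArg Subtype.val (hg.1 (Subtype.ext (congrArg Subtype.val h :))) :)
    · obtain ⟨ψ, hψ⟩ := hg.2 ⟨ξ.1, (hinv ξ.2).2⟩
      have h2 : Inv C0 P (ψ.1 : ↥C0 → ℂ) := hdowng ψ (by rw [hψ]; exact ξ.2)
      exact ⟨⟨ψ.1, h2⟩, Subtype.ext (congrArg Subtype.val hψ :)⟩
  refine ⟨F1 ∘ F0, hF1.comp hF0, fun χ ξ => ?_⟩
  have := Fintype.ofFinite (IrrCharacter ↥C0)
  have hex0 : ∀ ψ : IrrCharacter ↥C0, ∃ m : ℕ,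
      classInner (fun d : ↥C0 => (χ.1 : ↥K → ℂ) ⟨d, hC0K d.2⟩) (ψ : ↥C0 → ℂ) = (m : ℂ) := fun ψ =>
    CfsgLib.Char.IsCharacter.exists_classInner_eq_natCast
      (CfsgLib.Char.IsCharacter.comp (CfsgLib.Char.IsIrrCharacter.isCharacter χ.1.2) (Subgroup.inclusion hC0K)) ψ.2
  choose a ha using hex0
  refine ⟨∑ ψ, a ψ * b ψ ξ.1, ?_, ?_⟩
  · rw [classInner_trans hC0K hCC0 (CfsgLib.Char.IsIrrCharacter.isCharacter χ.1.2) (ξ.1 : ↥C → ℂ)]
    push_cast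
    exact sum_congr rfl fun ψ _ => by rw [ha, hb]
  letI := charAction hN0
  have haconj : ∀ (y : ↥P) ψ, a (y • ψ) = a ψ := fun y ψ => by
    have := classInner_charAction hC0K hNK hN0 y χ.1 ψ
    rw [hfix hNK _ χ.2, ha, ha] at this
    exact_mod_cast this
  have hsum : ((∑ ψ, a ψ * b ψ ξ.1 : ℕ) : ZMod p) = (a (F0 χ).1 : ZMod p) * (b (F0 χ).1 ξ.1 : ZMod p) := by
    push_cast
    rw [sum_eq_sum_fixed hP (fun ψ => (a ψ : ZMod p) * (b ψ ξ.1 : ZMod p)) (fun y ψ => by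
      rw [haconj]
      congr 2
      have := hbconj y ψ ξ.1
      rwa [hfix hNC _ ξ.2] at this), sum_eq_single (F0 χ).1]
    · intro ψ hψ hne
      have hψinv : Inv C0 P (ψ : ↥C0 → ℂ) := (charAction_fixed hN0 ψ).mp (mem_filter.mp hψ).2
      have hm : a ψ = mu ⟨χ.1, (hinv χ.2).1⟩ ⟨ψ, (hinv hψinv).1⟩ := by
        have := (ha ψ).symm.trans (hmu ⟨χ.1, (hinv χ.2).1⟩ ⟨ψ, (hinv hψinv).1⟩); exact_mod_cast this
      rw [hm, hmu2 _ _ (fun h => hne (congrArg Subtype.val h)), zero_mul]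
    · intro h
      exact absurd (mem_filter.mpr ⟨mem_univ _, (charAction_fixed hN0 _).mpr (F0 χ).2⟩) h
  have hA : (a (F0 χ).1 : ZMod p) ^ 2 = 1 := by
    have hm : a (F0 χ).1 = mu ⟨χ.1, (hinv χ.2).1⟩ (f0 ⟨χ.1, (hinv χ.2).1⟩) := by
      have := (ha (F0 χ).1).symm.trans (hmu ⟨χ.1, (hinv χ.2).1⟩ (f0 ⟨χ.1, (hinv χ.2).1⟩)); exact_mod_cast this
    rw [hm]; exact hmu1 _ _ rfl
  have hB : b (F0 χ).1 ξ.1 = nu ⟨(F0 χ).1, (hinv (F0 χ).2).2⟩ ⟨ξ.1, (hinv ξ.2).2⟩ := hbnu ⟨_, _⟩ ⟨_, _⟩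
  rw [hsum]
  refine ⟨fun h => ?_, fun h => ?_⟩
  · rw [mul_pow, hA, one_mul, hB]
    exact hnu1 _ _ (Subtype.ext (congrArg Subtype.val h :))
  · rw [hB, hnu2 _ _ (fun e => h (Subtype.ext (congrArg Subtype.val e :))), mul_zero]

/-- The correspondence between the `P`-invariant irreducible characters of `K` and of `C`, relative to
a subgroup `Q` of index prime to `p` in `K`, normal in `K` and normalized by `P`. -/
theorem exists_correspondence_rel {P K Q C : Subgroup G} [Fintype ↥K] [Fintype ↥C] (hP : IsPGroup p ↥P) (hQK : Q ≤ K)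
    (hQn : ∀ k ∈ K, ∀ q ∈ Q, k * q * k⁻¹ ∈ Q) (hPQ : ∀ y ∈ P, ∀ q ∈ Q, y * q * y⁻¹ ∈ Q) (hsyl : ¬ p ∣ Q.relIndex K)
    (hPK : ∀ y ∈ P, ∀ k ∈ K, y * k * y⁻¹ ∈ K) (hCK : C ≤ K)
    (hC : ∀ k, k ∈ C ↔ k ∈ K ∧ ∀ y ∈ P, y * k * y⁻¹ * k⁻¹ ∈ Q) :
    ∃ f : {χ : IrrCharacter ↥K // Inv K P (χ : ↥K → ℂ)} → {ξ : IrrCharacter ↥C // Inv C P (ξ : ↥C → ℂ)},
      Function.Bijective f ∧ ∀ χ ξ, ∃ m : ℕ,
        classInner (fun c : ↥C => (χ.1 : ↥K → ℂ) ⟨c, hCK c.2⟩) (ξ.1 : ↥C → ℂ) = (m : ℂ) ∧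
        (ξ = f χ → (m : ZMod p) ^ 2 = 1) ∧ (ξ ≠ f χ → (m : ZMod p) = 0) := by
  obtain ⟨f, hf, hm⟩ := exists_correspondence_aux (p := p) _ P rfl hP K Q C hQK hQn hPQ hsyl hPK hCK hC
  exact ⟨f, hf, fun χ ξ => (hm χ ξ).imp fun m h => ⟨by convert h.1, h.2⟩⟩

/-- The correspondence between the `P`-invariant irreducible characters of `K` and of `C`. -/
theorem exists_correspondence {P K Q C : Subgroup G} [Fintype ↥K] [Fintype ↥C] (hP : IsPGroup p ↥P) (hQK : Q ≤ K)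
    (hQn : ∀ k ∈ K, ∀ q ∈ Q, k * q * k⁻¹ ∈ Q) (hQp : IsPGroup p ↥Q) (hsyl : ¬ p ∣ Q.relIndex K)
    (hPK : ∀ y ∈ P, ∀ k ∈ K, y * k * y⁻¹ ∈ K) (hCK : C ≤ K)
    (hC : ∀ k, k ∈ C ↔ k ∈ K ∧ ∀ y ∈ P, y * k * y⁻¹ * k⁻¹ ∈ Q) :
    ∃ f : {χ : IrrCharacter ↥K // Inv K P (χ : ↥K → ℂ)} → {ξ : IrrCharacter ↥C // Inv C P (ξ : ↥C → ℂ)},
      Function.Bijective f ∧ ∀ χ ξ, ∃ m : ℕ,
        classInner (fun c : ↥C => (χ.1 : ↥K → ℂ) ⟨c, hCK c.2⟩) (ξ.1 : ↥C → ℂ) = (m : ℂ) ∧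
        (ξ = f χ → (m : ZMod p) ^ 2 = 1) ∧ (ξ ≠ f χ → (m : ZMod p) = 0) := by
  refine exists_correspondence_rel hP hQK hQn (fun y hy q hq => ?_) hsyl hPK hCK hC
  obtain ⟨e, he⟩ := hQp ⟨q, hq⟩
  refine mem_of_pow_eq_one hQn hsyl (hPK y hy q (hQK hq)) (e := e) ?_
  rw [conj_pow, show q ^ p ^ e = 1 from congrArg Subtype.val he, mul_one, mul_inv_cancel]

theorem cast_charDegree {H : Type*} [Group H] {χ : H → ℂ} (hχ : IsCharacter H χ) :
    χ 1 = (charDegree χ : ℂ) := by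
  obtain ⟨n, hn⟩ := CfsgLib.Char.IsCharacter.exists_degree hχ
  rw [charDegree, hn, Complex.natCast_re, Nat.floor_natCast]

open scoped Classical in
/-- The degree of an invariant character is congruent modulo `p` to the degree of the only invariant
constituent of multiplicity prime to `p`, times this multiplicity. -/
theorem degree_congr {P K C : Subgroup G} [Fintype ↥C] (hP : IsPGroup p ↥P) (hPK : ∀ y ∈ P, ∀ k ∈ K, y * k * y⁻¹ ∈ K)
    (hPC : ∀ y ∈ P, ∀ k ∈ C, y * k * y⁻¹ ∈ C) (hCK : C ≤ K) (χ : IrrCharacter ↥K) (hχ : Inv K P (χ : ↥K → ℂ))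
    (ξ0 : IrrCharacter ↥C) (hξ0 : Inv C P (ξ0 : ↥C → ℂ))
    (h : ∀ ξ : IrrCharacter ↥C, Inv C P (ξ : ↥C → ℂ) → ξ ≠ ξ0 → ∃ m : ℕ,
      classInner (fun c : ↥C => (χ : ↥K → ℂ) ⟨c, hCK c.2⟩) (ξ : ↥C → ℂ) = m ∧ (m : ZMod p) = 0) :
    ∀ m : ℕ, classInner (fun c : ↥C => (χ : ↥K → ℂ) ⟨c, hCK c.2⟩) (ξ0 : ↥C → ℂ) = m →
      (charDegree (χ : ↥K → ℂ) : ZMod p) = m * (charDegree (ξ0 : ↥C → ℂ) : ZMod p) := by
  intro m hm
  have hres : IsCharacter ↥C (fun c : ↥C => (χ : ↥K → ℂ) ⟨c, hCK c.2⟩) :=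
    CfsgLib.Char.IsCharacter.comp (CfsgLib.Char.IsIrrCharacter.isCharacter χ.2) (Subgroup.inclusion hCK)
  choose a ha using fun ξ : IrrCharacter ↥C => CfsgLib.Char.IsCharacter.exists_classInner_eq_natCast hres ξ.2
  have := Fintype.ofFinite (IrrCharacter ↥C)
  have hsum : charDegree (χ : ↥K → ℂ) = ∑ ξ : IrrCharacter ↥C, a ξ * charDegree (ξ : ↥C → ℂ) := by
    have h1 := congrFun (CfsgLib.Char.eq_sum_irr (CfsgLib.Char.IsCharacter.isClassFunction hres)) 1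
    rw [Finset.sum_subtype (CfsgLib.Char.irrFinset ↥C) (fun _ => CfsgLib.Char.mem_irrFinset)] at h1
    simp only [Finset.sum_apply, Pi.smul_apply, smul_eq_mul] at h1
    rw [show (⟨((1 : ↥C) : G), hCK (1 : ↥C).2⟩ : ↥K) = 1 from rfl,
      cast_charDegree (CfsgLib.Char.IsIrrCharacter.isCharacter χ.2)] at h1
    apply Nat.cast_injective (R := ℂ)
    rw [h1, Nat.cast_sum]
    exact sum_congr rfl fun ξ _ => by
      rw [Nat.cast_mul, ← ha, ← cast_charDegree (CfsgLib.Char.IsIrrCharacter.isCharacter ξ.2)]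
  letI := charAction (le_normalizer_of_conj hPC)
  rw [hsum, Nat.cast_sum, sum_eq_sum_fixed hP (fun ξ => ((a ξ * charDegree (ξ : ↥C → ℂ) : ℕ) : ZMod p))
    (fun y ξ => ?_), sum_eq_single ξ0]
  · have : a ξ0 = m := by have := (ha ξ0).symm.trans hm; exact_mod_cast this
    rw [this, Nat.cast_mul]
  · intro ξ hξ hne
    obtain ⟨n, hn, hn0⟩ := h ξ ((charAction_fixed _ ξ).mp (mem_filter.mp hξ).2) hne
    have : a ξ = n := by have := (ha ξ).symm.trans hn; exact_mod_cast this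
    rw [Nat.cast_mul, this, hn0, zero_mul]
  · intro h0
    exact absurd (mem_filter.mpr ⟨mem_univ _, (charAction_fixed _ _).mpr hξ0⟩) h0
  · have h1 := classInner_charAction hCK (le_normalizer_of_conj hPK) (le_normalizer_of_conj hPC) y χ ξ
    rw [show (charAction (le_normalizer_of_conj hPK)).smul y χ = χ from
      (charAction_fixed (le_normalizer_of_conj hPK) χ).mpr hχ y, ha, ha] at h1
    have h2 : a (y • ξ) = a ξ := by exact_mod_cast h1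
    have h3 : charDegree ((y • ξ : IrrCharacter ↥C) : ↥C → ℂ) = charDegree (ξ : ↥C → ℂ) := by
      change charDegree (fun c => (ξ : ↥C → ℂ) (conjSub (le_normalizer_of_conj hPC) y⁻¹ c)) = _
      rw [charDegree, charDegree, map_one]
    rw [h2, h3]

end CfsgLib.GlaubermanCorr
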