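import Cfsg.Agent.GlaubermanCorr.Solvable
import Cfsg.Agent.Char.DegreeRatio

/-!
# Invariant characters over invariant characters, coprime solvable operators
-/

set_option autoImplicit false
set_option linter.style.haveILetI false

namespace CfsgLib.GlaubermanCorr

open Finset Cfsg MulAction

universe u

variable {G : Type u} [Group G] [Fintype G]

/-- A multiplicity in the restriction to a normal subgroup divides the index. -/
theorem exists_mult_dvd {K N : Subgroup G} [Fintype ↥K] [Fintype ↥N] (hNK : N ≤ K)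
    (hn : ∀ k ∈ K, ∀ n ∈ N, k * n * k⁻¹ ∈ N) (ξ : IrrCharacter ↥K) (θ : IrrCharacter ↥N)
    (h : classInner (fun n : ↥N => (ξ : ↥K → ℂ) ⟨n, hNK n.2⟩) (θ : ↥N → ℂ) ≠ 0) :
    ∃ e : ℕ, classInner (fun n : ↥N => (ξ : ↥K → ℂ) ⟨n, hNK n.2⟩) (θ : ↥N → ℂ) = (e : ℂ) ∧
      e ∣ N.relIndex K := by
  classical
  haveI : (N.subgroupOf K).Normal :=
    ⟨fun n hn' k => Subgroup.mem_subgroupOf.mpr (hn k k.2 n (Subgroup.mem_subgroupOf.mp hn'))⟩
  haveI := Fintype.ofFinite ↥(N.subgroupOf K)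
  have heq : classInner (fun x : ↥(N.subgroupOf K) => (ξ : ↥K → ℂ) (x : ↥K))
      (CfsgLib.Char.pullBack (T := K) (θ : ↥N → ℂ)) =
      classInner (fun n : ↥N => (ξ : ↥K → ℂ) ⟨n, hNK n.2⟩) (θ : ↥N → ℂ) := by
    rw [← CfsgLib.Char.classInner_pullBack hNK]
    rfl
  have hθ' := CfsgLib.Char.isIrrCharacter_pullBack hNK θ.2
  obtain ⟨e, he⟩ := CfsgLib.Char.IsCharacter.exists_classInner_eq_natCast
    (CfsgLib.Char.IsCharacter.restrict (CfsgLib.Char.IsIrrCharacter.isCharacter ξ.2) (N.subgroupOf K))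
    hθ'
  rw [← heq] at h
  obtain ⟨d, hd, hd1⟩ := CfsgLib.Char.exists_degree_ratio ξ.2 hθ' h
  have h1 := CfsgLib.Char.degree_eq_mul ξ.2 hθ' h
  rw [hd1, he] at h1
  have h2 := mul_right_cancel₀ (CfsgLib.Char.IsIrrCharacter.apply_one_ne_zero hθ') h1
  have h3 : d = e * (CfsgLib.Char.inertia (CfsgLib.Char.pullBack (T := K) (θ : ↥N → ℂ))).index := by
    exact_mod_cast h2
  exact ⟨e, heq ▸ he, (Dvd.intro _ h3.symm).trans hd⟩

theorem exists_constituent_over {K N : Subgroup G} [Fintype ↥K] [Fintype ↥N] (hNK : N ≤ K)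
    (θ : IrrCharacter ↥N) : ∃ χ : IrrCharacter ↥K,
      classInner (fun n : ↥N => (χ : ↥K → ℂ) ⟨n, hNK n.2⟩) (θ : ↥N → ℂ) ≠ 0 := by
  classical
  haveI := Fintype.ofFinite ↥(N.subgroupOf K)
  have hθ' := CfsgLib.Char.isIrrCharacter_pullBack hNK θ.2
  obtain ⟨χ, hχ, hne⟩ := CfsgLib.Char.IsCharacter.exists_constituent
    (CfsgLib.Char.IsCharacter.indFun (G := ↥K) (H := N.subgroupOf K)
      (CfsgLib.Char.IsIrrCharacter.isCharacter hθ')) (fun h0 => by
        have := congrFun h0 1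
        rw [CfsgLib.Char.indFun_one, Pi.zero_apply, mul_eq_zero] at this
        exact this.elim (Nat.cast_ne_zero.mpr Subgroup.index_ne_zero_of_finite)
          (CfsgLib.Char.IsIrrCharacter.apply_one_ne_zero hθ'))
  refine ⟨⟨χ, hχ⟩, fun h0 => hne ?_⟩
  rw [CfsgLib.Char.classInner_indFun _ (CfsgLib.Char.IsIrrCharacter.isClassFunction hχ),
    ← CfsgLib.Char.classInner_conj, ← map_zero (starRingEnd ℂ), ← h0,
    ← CfsgLib.Char.classInner_pullBack hNK]
  rfl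

open scoped Classical in
theorem exists_invariant_over_aux (n : ℕ) : ∀ (S K N : Subgroup G) (hNK : N ≤ K),
    Nat.card ↥K = n → Group.IsSolvable ↥S → (∀ s ∈ S, ∀ g ∈ K, s * g * s⁻¹ ∈ K) →
    (∀ g ∈ K, ∀ n ∈ N, g * n * g⁻¹ ∈ N) → (∀ s ∈ S, ∀ n ∈ N, s * n * s⁻¹ ∈ N) →
    (Nat.card ↥K).Coprime (Nat.card ↥S) → ∀ θ : IrrCharacter ↥N, Inv N S (θ : ↥N → ℂ) →
    ∃ χ : IrrCharacter ↥K,
      classInner (fun n : ↥N => (χ : ↥K → ℂ) ⟨n, hNK n.2⟩) (θ : ↥N → ℂ) ≠ 0 ∧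
        Inv K S (χ : ↥K → ℂ) := by
  induction n using Nat.strong_induction_on with
  | _ n ih =>
  intro S K N hNK hcard hsol hSK hKN hSN hcop θ hθ
  by_cases htriv : S ≤ Subgroup.centralizer (K : Set G)
  · obtain ⟨χ, hχ⟩ := exists_constituent_over hNK θ
    refine ⟨χ, hχ, fun s hs k k' hk => congrArg (χ : ↥K → ℂ) (Subtype.ext ?_)⟩
    rw [hk, ← Subgroup.mem_centralizer_iff.mp (htriv hs) k k.2, mul_inv_cancel_right]
  obtain ⟨Z, hZdef⟩ : ∃ Z, S ⊓ Subgroup.centralizer (K : Set G) = Z := ⟨_, rfl⟩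
  obtain ⟨A, hA⟩ := exists_minimal_of_wellFoundedLT
    (fun A : Subgroup G => A ≤ S ∧ (∀ s ∈ S, ∀ a ∈ A, s * a * s⁻¹ ∈ A) ∧ ¬ A ≤ Z)
    ⟨S, le_rfl, fun s hs a ha => S.mul_mem (S.mul_mem hs ha) (S.inv_mem hs),
      fun h => htriv (h.trans (hZdef ▸ inf_le_right))⟩
  obtain ⟨hAS, hAn, hAZ⟩ := hA.1
  have hcommA : ⁅A, A⁆ ≤ Z := by
    by_contra hne
    have hle : ⁅A, A⁆ ≤ A := Subgroup.commutator_le.mpr fun a ha b hb =>
      A.mul_mem (A.mul_mem (A.mul_mem ha hb) (A.inv_mem ha)) (A.inv_mem hb)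
    have heq : A ≤ ⁅A, A⁆ := hA.2 ⟨hle.trans hAS, fun s hs a ha => ?_, hne⟩ hle
    · have : Nontrivial ↥A := (Subgroup.nontrivial_iff_ne_bot A).mpr fun h => hAZ (h ▸ bot_le)
      have : Group.IsSolvable ↥A :=
        Group.isSolvable_of_isSolvable_injective (Subgroup.inclusion_injective hAS)
      refine (Group.IsSolvable.commutator_lt_top_of_nontrivial ↥A).ne
        (Subgroup.map_injective A.subtype_injective ?_)
      rw [Subgroup.map_subtype_commutator, ← MonoidHom.range_eq_map, A.range_subtype]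
      exact le_antisymm hle heq
    · have h1 : (⁅A, A⁆ : Subgroup G).map (MulAut.conj s).toMonoidHom ≤ ⁅A, A⁆ := by
        rw [Subgroup.map_commutator]
        refine Subgroup.commutator_mono ?_ ?_ <;>
          exact Subgroup.map_le_iff_le_comap.mpr fun x hx => hAn s hs x hx
      exact h1 ⟨a, ha, rfl⟩
  obtain ⟨p, hp, hpd⟩ := Nat.exists_prime_and_dvd
    (fun h : (Z.subgroupOf A).index = 1 => hAZ (Subgroup.subgroupOf_eq_top.mp
      (Subgroup.index_eq_one.mp h)))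
  haveI := Fact.mk hp
  obtain ⟨P₀⟩ : Nonempty (Sylow p ↥A) := inferInstance
  obtain ⟨P, hPdef⟩ : ∃ P, (P₀ : Subgroup ↥A).map A.subtype = P := ⟨_, rfl⟩
  have hPA : P ≤ A := hPdef ▸ Subgroup.map_subtype_le _
  have hPp : IsPGroup p ↥P := hPdef ▸ P₀.isPGroup'.map _
  have hPZ : ¬ P ≤ Z := fun h => P₀.not_dvd_index (hpd.trans (Subgroup.index_dvd_of_le
    fun x hx => Subgroup.mem_subgroupOf.mpr (h (hPdef ▸ ⟨x, hx, rfl⟩))))
  have hZK : ∀ z ∈ Z, ∀ k ∈ K, k * z = z * k := fun z hz k hk =>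
    Subgroup.mem_centralizer_iff.mp (hZdef ▸ hz : z ∈ S ⊓ Subgroup.centralizer (K : Set G)).2 k hk
  have hpK : ¬ p ∣ Nat.card ↥K := fun h => by
    have h1 : p ∣ Nat.card ↥S := (hpd.trans (Subgroup.index_dvd_card _)).trans
      (Subgroup.card_dvd_of_le hAS)
    exact hp.not_dvd_one (hcop ▸ Nat.dvd_gcd h h1)
  have hpN : ¬ p ∣ Nat.card ↥N := fun h => hpK (h.trans (Subgroup.card_dvd_of_le hNK))
  have hPS : ∀ s ∈ S, ∀ y ∈ P, ∃ y' ∈ P, ∃ z ∈ Z, s * y * s⁻¹ = y' * z := by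
    intro s hs y hy
    let e : ↥A ≃* ↥A :=
      { toFun := fun a => ⟨s * a * s⁻¹, hAn s hs a a.2⟩
        invFun := fun a => ⟨s⁻¹ * a * s, by simpa using hAn s⁻¹ (inv_mem hs) a a.2⟩
        left_inv := fun a => Subtype.ext (by simp [mul_assoc])
        right_inv := fun a => Subtype.ext (by simp [mul_assoc])
        map_mul' := fun a b => Subtype.ext (by simp [mul_assoc]) }
    obtain ⟨a, ha⟩ := MulAction.exists_smul_eq ↥A P₀
      (P₀.mapSurjective (f := e.toMonoidHom) e.surjective)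
    rw [← hPdef] at hy
    obtain ⟨y₀, hy₀, rfl⟩ := hy
    have hmem : e y₀ ∈ ((a • P₀ : Sylow p ↥A) : Subgroup ↥A) := by
      rw [ha]; exact ⟨y₀, hy₀, rfl⟩
    rw [Sylow.coe_subgroup_smul, Subgroup.mem_pointwise_smul_iff_inv_smul_mem] at hmem
    obtain ⟨y', hy'def⟩ : ∃ y', (MulAut.conj a)⁻¹ • e y₀ = y' := ⟨_, rfl⟩
    have he : e y₀ = a * y' * a⁻¹ := by
      rw [← hy'def]
      simp [MulAut.smul_def, mul_assoc]
    refine ⟨y', hPdef ▸ ⟨y', hy'def ▸ hmem, rfl⟩, (y' : G)⁻¹ * a * y' * (a : G)⁻¹,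
      hcommA ?_, ?_⟩
    · simpa [commutatorElement_def] using
        Subgroup.commutator_mem_commutator (A.inv_mem y'.2) a.2
    have he' : s * (y₀ : G) * s⁻¹ = (a : G) * y' * (a : G)⁻¹ := congrArg Subtype.val he
    · rw [Subgroup.subtype_apply, he']
      group
  obtain ⟨C, hCdef⟩ : ∃ C, K ⊓ Subgroup.centralizer (P : Set G) = C := ⟨_, rfl⟩
  obtain ⟨D, hDdef⟩ : ∃ D, N ⊓ Subgroup.centralizer (P : Set G) = D := ⟨_, rfl⟩
  have hCK : C ≤ K := hCdef ▸ inf_le_left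
  have hDN : D ≤ N := hDdef ▸ inf_le_left
  have hDC : D ≤ C := hDdef ▸ hCdef ▸ inf_le_inf_right _ hNK
  have hPK : ∀ y ∈ P, ∀ k ∈ K, y * k * y⁻¹ ∈ K := fun y hy => hSK y (hAS (hPA hy))
  have hPN : ∀ y ∈ P, ∀ k ∈ N, y * k * y⁻¹ ∈ N := fun y hy => hSN y (hAS (hPA hy))
  have hfixC : ∀ (H : Subgroup G) (k : G), k ∈ H ⊓ Subgroup.centralizer (P : Set G) ↔
      k ∈ H ∧ ∀ y ∈ P, y * k * y⁻¹ * k⁻¹ ∈ (⊥ : Subgroup G) := by
    intro H k
    rw [Subgroup.mem_inf, Subgroup.mem_centralizer_iff]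
    refine and_congr_right fun _ => forall₂_congr fun y _ => ?_
    rw [Subgroup.mem_bot, mul_inv_eq_one, mul_inv_eq_iff_eq_mul]
  have hinvT : ∀ (H : Subgroup G), H ≤ Subgroup.centralizer (P : Set G) → ∀ φ : ↥H → ℂ, Inv H P φ :=
    fun H hH φ y hy k k' hk => congrArg φ (Subtype.ext (by
      rw [hk, Subgroup.mem_centralizer_iff.mp (hH k.2) y hy, mul_inv_cancel_right]))
  have hSC : ∀ (H : Subgroup G), H ≤ K → (∀ s ∈ S, ∀ k ∈ H, s * k * s⁻¹ ∈ H) →
      ∀ s ∈ S, ∀ k ∈ H ⊓ Subgroup.centralizer (P : Set G),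
        s * k * s⁻¹ ∈ H ⊓ Subgroup.centralizer (P : Set G) := by
    intro H hH hinv s hs k hk
    refine ⟨hinv s hs k hk.1, Subgroup.mem_centralizer_iff.mpr fun y hy => ?_⟩
    obtain ⟨y', hy', z, hz, he⟩ := hPS s⁻¹ (inv_mem hs) y hy
    rw [inv_inv] at he
    have h1 : s⁻¹ * y * s * k = k * (s⁻¹ * y * s) := by
      rw [he, mul_assoc, ← hZK z hz k (hH hk.1), ← mul_assoc,
        Subgroup.mem_centralizer_iff.mp hk.2 y' hy', mul_assoc]
    calc y * (s * k * s⁻¹) = s * (s⁻¹ * y * s * k) * s⁻¹ := by group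
      _ = s * (k * (s⁻¹ * y * s)) * s⁻¹ := by rw [h1]
      _ = s * k * s⁻¹ * y := by group
  have hSC' : ∀ s ∈ S, ∀ k ∈ C, s * k * s⁻¹ ∈ C := hCdef ▸ hSC K le_rfl hSK
  have hSD : ∀ s ∈ S, ∀ k ∈ D, s * k * s⁻¹ ∈ D := hDdef ▸ hSC N hNK hSN
  have hCD : ∀ k ∈ C, ∀ d ∈ D, k * d * k⁻¹ ∈ D := by
    intro k hk d hd
    rw [← hCdef] at hk
    rw [← hDdef] at hd ⊢
    exact ⟨hKN k hk.1 d hd.1, (Subgroup.centralizer (P : Set G)).mul_mem
      ((Subgroup.centralizer (P : Set G)).mul_mem hk.2 hd.2)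
      ((Subgroup.centralizer (P : Set G)).inv_mem hk.2)⟩
  have hlt : Nat.card ↥C < Nat.card ↥K := by
    refine lt_of_le_of_ne (Subgroup.card_le_of_le hCK) fun h => hPZ fun y hy => ?_
    have hCeq : C = K := Subgroup.eq_of_le_of_card_ge hCK h.ge
    rw [← hZdef]
    refine ⟨hAS (hPA hy), Subgroup.mem_centralizer_iff.mpr fun k hk => ?_⟩
    exact (Subgroup.mem_centralizer_iff.mp (hCdef ▸ hCeq.symm ▸ hk :
      k ∈ K ⊓ Subgroup.centralizer (P : Set G)).2 y hy).symm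
  -- the correspondences for `P`
  obtain ⟨f, hf, hfm⟩ := exists_correspondence (p := p) (Q := ⊥) (C := C) hPp bot_le
    (fun k _ q hq => by rw [Subgroup.mem_bot.mp hq]; simp) IsPGroup.of_bot
    (by rwa [Subgroup.relIndex_bot_left]) hPK hCK (fun k => hCdef ▸ hfixC K k)
  obtain ⟨g, hg, hgm⟩ := exists_correspondence (p := p) (Q := ⊥) (C := D) hPp bot_le
    (fun k _ q hq => by rw [Subgroup.mem_bot.mp hq]; simp) IsPGroup.of_bot
    (by rwa [Subgroup.relIndex_bot_left]) hPN hDN (fun k => hDdef ▸ hfixC N k)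
  have hθP : Inv N P (θ : ↥N → ℂ) := fun y hy => hθ y (hAS (hPA hy))
  have hone : ∀ {m : ℕ}, (m : ZMod p) ^ 2 = 1 → (m : ZMod p) ≠ 0 := fun h h0 => by
    rw [h0, zero_pow two_ne_zero] at h; exact zero_ne_one h
  obtain ⟨θs, hθs⟩ : ∃ θs, g ⟨θ, hθP⟩ = θs := ⟨_, rfl⟩
  have hSKn := le_normalizer_of_conj hSK
  have hSNn := le_normalizer_of_conj hSN
  have hSCn := le_normalizer_of_conj hSC'
  have hSDn := le_normalizer_of_conj hSD
  have hθsS : Inv D S (θs.1 : ↥D → ℂ) := by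
    refine (charAction_fixed hSDn θs.1).mp fun s => ?_
    obtain ⟨m, hm, hm1, -⟩ := hgm ⟨θ, hθP⟩ θs
    have hD' : D ≤ Subgroup.centralizer (P : Set G) := hDdef ▸ inf_le_right
    obtain ⟨m', hm', -, hm2'⟩ := hgm ⟨θ, hθP⟩
      ⟨(charAction hSDn).smul s θs.1, hinvT D hD' _⟩
    have h1 := classInner_charAction hDN hSNn hSDn s θ θs.1
    rw [show (charAction hSNn).smul s θ = θ from (charAction_fixed hSNn θ).mpr hθ s] at h1
    have hmm : m' = m := by exact_mod_cast hm'.symm.trans (h1.trans hm)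
    by_contra hne
    refine hone (hm1 hθs.symm) (hmm ▸ hm2' fun h => hne ?_)
    rw [hθs] at h
    exact congrArg Subtype.val h
  obtain ⟨ξ, hξ, hξS⟩ := ih (Nat.card ↥C) (hcard ▸ hlt) S C D hDC rfl hsol hSC' hCD hSD
    (Nat.Coprime.coprime_dvd_left (Subgroup.card_dvd_of_le hCK) hcop) θs.1 hθsS
  have hC' : C ≤ Subgroup.centralizer (P : Set G) := hCdef ▸ inf_le_right
  obtain ⟨⟨χ, hχP⟩, hχ⟩ := hf.2 ⟨ξ, hinvT C hC' _⟩
  refine ⟨χ, ?_, ?_⟩
  · -- `χ` lies over `θ`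
    intro h0
    obtain ⟨e, he, hed⟩ := exists_mult_dvd hDC hCD ξ θs.1 hξ
    have hep : ¬ p ∣ e := fun h => hpK ((h.trans hed).trans
      ((Subgroup.index_dvd_card _).trans (Subgroup.card_dvd_of_le hCK)))
    haveI := Fintype.ofFinite (IrrCharacter ↥C)
    haveI := Fintype.ofFinite (IrrCharacter ↥N)
    have hcχ := CfsgLib.Char.IsIrrCharacter.isCharacter χ.2
    choose a ha using fun η : IrrCharacter ↥C =>
      CfsgLib.Char.IsCharacter.exists_classInner_eq_natCast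
        (CfsgLib.Char.IsCharacter.comp hcχ (Subgroup.inclusion hCK)) η.2
    choose b hb using fun η : IrrCharacter ↥C =>
      CfsgLib.Char.IsCharacter.exists_classInner_eq_natCast
        (CfsgLib.Char.IsCharacter.comp (CfsgLib.Char.IsIrrCharacter.isCharacter η.2)
          (Subgroup.inclusion hDC)) θs.1.2
    choose c hc using fun φ : IrrCharacter ↥N =>
      CfsgLib.Char.IsCharacter.exists_classInner_eq_natCast
        (CfsgLib.Char.IsCharacter.comp hcχ (Subgroup.inclusion hNK)) φ.2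
    choose d hd using fun φ : IrrCharacter ↥N =>
      CfsgLib.Char.IsCharacter.exists_classInner_eq_natCast
        (CfsgLib.Char.IsCharacter.comp (CfsgLib.Char.IsIrrCharacter.isCharacter φ.2)
          (Subgroup.inclusion hDN)) θs.1.2
    have hsum : (∑ η : IrrCharacter ↥C, a η * b η) = ∑ φ : IrrCharacter ↥N, c φ * d φ := by
      apply Nat.cast_injective (R := ℂ)
      push_cast
      simp only [← ha, ← hb, ← hc, ← hd]
      exact (classInner_trans hCK hDC hcχ _).symm.trans (classInner_trans hNK hDN hcχ _)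
    have hleft : ((∑ η : IrrCharacter ↥C, a η * b η : ℕ) : ZMod p) ≠ 0 := by
      rw [Nat.cast_sum, sum_eq_single ξ]
      · obtain ⟨m, hm, hm1, -⟩ := hfm ⟨χ, hχP⟩ ⟨ξ, hinvT C hC' _⟩
        have h1 : a ξ = m := by exact_mod_cast (ha ξ).symm.trans hm
        have h2 : b ξ = e := by exact_mod_cast (hb ξ).symm.trans he
        rw [Nat.cast_mul, h1, h2]
        exact mul_ne_zero (hone (hm1 hχ.symm)) fun h => hep ((ZMod.natCast_eq_zero_iff _ _).mp h)
      · intro η _ hne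
        obtain ⟨m, hm, -, hm2⟩ := hfm ⟨χ, hχP⟩ ⟨η, hinvT C hC' _⟩
        have h1 : a η = m := by exact_mod_cast (ha η).symm.trans hm
        rw [Nat.cast_mul, h1, hm2 fun h => hne (congrArg Subtype.val (h.trans hχ)), zero_mul]
      · exact fun h => absurd (mem_univ _) h
    refine hleft ?_
    rw [hsum, Nat.cast_sum]
    have hPNn := le_normalizer_of_conj hPN
    have hPKn := le_normalizer_of_conj hPK
    have hPDn : P ≤ Subgroup.normalizer (D : Set G) :=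
      le_normalizer_of_conj fun y hy => hSD y (hAS (hPA hy))
    letI := charAction hPNn
    rw [sum_eq_sum_fixed hPp (fun φ => ((c φ * d φ : ℕ) : ZMod p)) (fun y φ => ?_)]
    · refine sum_eq_zero fun φ hφ => ?_
      by_cases hφθ : φ = θ
      · subst hφθ
        have : c φ = 0 := by exact_mod_cast (hc φ).symm.trans h0
        rw [this]; simp
      · obtain ⟨m, hm, -, hm2⟩ := hgm ⟨φ, (charAction_fixed hPNn φ).mp (mem_filter.mp hφ).2⟩ θs
        have h1 : d φ = m := by exact_mod_cast (hd φ).symm.trans hm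
        rw [Nat.cast_mul, h1, hm2 fun h => hφθ ?_, mul_zero]
        have := hg.1 (h.symm.trans hθs.symm)
        exact congrArg Subtype.val this
    · have h1 := classInner_charAction hNK hPKn hPNn y χ φ
      rw [show (charAction hPKn).smul y χ = χ from (charAction_fixed hPKn χ).mpr hχP y] at h1
      have h2 := classInner_charAction hDN hPNn hPDn y φ θs.1
      rw [show (charAction hPDn).smul y θs.1 = θs.1 from
        (charAction_fixed hPDn θs.1).mpr θs.2 y] at h2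
      have e1 : c (y • φ) = c φ := by exact_mod_cast (hc _).symm.trans (h1.trans (hc φ))
      have e2 : d (y • φ) = d φ := by exact_mod_cast (hd _).symm.trans (h2.trans (hd φ))
      rw [e1, e2]
  · -- `χ` is invariant
    refine (charAction_fixed hSKn χ).mp fun s => ?_
    have hPinv : Inv K P (((charAction hSKn).smul s χ : IrrCharacter ↥K) : ↥K → ℂ) := by
      intro y hy k k' hk
      change (χ : ↥K → ℂ) (conjSub hSKn s⁻¹ k') = (χ : ↥K → ℂ) (conjSub hSKn s⁻¹ k)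
      obtain ⟨y', hy', z, hz, he⟩ := hPS (s⁻¹ : ↥S) (s⁻¹).2 y hy
      refine hχP y' hy' _ _ ?_
      have hk1 := (conjSub hSKn s⁻¹ k).2
      have he1 : ((conjSub hSKn s⁻¹ k' : ↥K) : G) = y' * z * (conjSub hSKn s⁻¹ k : G) * (y' * z)⁻¹ := by
        rw [← he, conjSub_coe, conjSub_coe, hk]
        group
      rw [he1, mul_assoc y' z, ← hZK z hz _ hk1]
      group
    obtain ⟨m, hm, hm1, -⟩ := hfm ⟨χ, hχP⟩ ⟨ξ, hinvT C hC' _⟩
    obtain ⟨m', hm', -, hm2'⟩ := hfm ⟨(charAction hSKn).smul s χ, hPinv⟩ ⟨ξ, hinvT C hC' _⟩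
    have h1 := classInner_charAction hCK hSKn hSCn s χ ξ
    rw [show (charAction hSCn).smul s ξ = ξ from (charAction_fixed hSCn ξ).mpr hξS s] at h1
    have hmm : m' = m := by exact_mod_cast hm'.symm.trans (h1.trans hm)
    by_contra hne
    refine hone (hm1 hχ.symm) (hmm ▸ hm2' fun h => hne ?_)
    exact congrArg Subtype.val (hf.1 (h.symm.trans hχ.symm))

/-- An invariant character of an invariant normal subgroup has an invariant constituent above it. -/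
theorem exists_invariant_over {S K N : Subgroup G} [Fintype ↥K] [Fintype ↥N] (hNK : N ≤ K)
    (hsol : Group.IsSolvable ↥S) (hSK : ∀ s ∈ S, ∀ g ∈ K, s * g * s⁻¹ ∈ K)
    (hKN : ∀ g ∈ K, ∀ n ∈ N, g * n * g⁻¹ ∈ N) (hSN : ∀ s ∈ S, ∀ n ∈ N, s * n * s⁻¹ ∈ N)
    (hcop : (Nat.card ↥K).Coprime (Nat.card ↥S)) (θ : IrrCharacter ↥N)
    (hθ : Inv N S (θ : ↥N → ℂ)) : ∃ χ : IrrCharacter ↥K,
      classInner (fun n : ↥N => (χ : ↥K → ℂ) ⟨n, hNK n.2⟩) (θ : ↥N → ℂ) ≠ 0 ∧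
        Inv K S (χ : ↥K → ℂ) := by
  obtain ⟨χ, h1, h2⟩ := exists_invariant_over_aux _ S K N hNK rfl hsol hSK hKN hSN hcop θ hθ
  exact ⟨χ, fun h0 => h1 (by convert h0), h2⟩

end CfsgLib.GlaubermanCorr
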