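import Cfsg.Agent.Char.Orthogonality
import Cfsg.Agent.Char.Values

/-!
# Brauer's permutation lemma
-/

namespace CfsgLib.GlaubermanCorr

open Finset Cfsg
open scoped ComplexConjugate

universe u

variable {G : Type u} [Group G] [Finite G]

/-- If a map `f` of irreducible characters satisfies `(f χ) g = χ (s g)` for a map `s` of `G`
respecting conjugacy, then `f` fixes as many characters as `s` fixes classes. -/
theorem card_fixed_irr (f : IrrCharacter G → IrrCharacter G) (s : G → G)
    (hs : ∀ g h, IsConj g h → IsConj (s g) (s h))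
    (hfs : ∀ χ g, ((f χ : IrrCharacter G) : G → ℂ) g = (χ : G → ℂ) (s g)) :
    Nat.card {χ : IrrCharacter G // f χ = χ} =
      Nat.card {c : ConjClasses G // ∀ g, ConjClasses.mk g = c → IsConj (s g) g} := by
  classical
  have := Fintype.ofFinite G
  have := Fintype.ofFinite (IrrCharacter G)
  have := Fintype.ofFinite (ConjClasses G)
  set cent : G → ℕ := fun g => Nat.card (Subgroup.centralizer ({g} : Set G))
  have h1 : (Nat.card {χ : IrrCharacter G // f χ = χ} : ℂ) =
      ∑ χ : IrrCharacter G, classInner ((f χ : IrrCharacter G) : G → ℂ) (χ : G → ℂ) := by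
    rw [Nat.card_eq_fintype_card, Fintype.card_subtype, ← sum_boole]
    refine sum_congr rfl fun χ _ => ?_
    by_cases h : f χ = χ
    · rw [if_pos h, h, CfsgLib.Char.IsIrrCharacter.classInner_self χ.2]
    · rw [if_neg h, CfsgLib.Char.IsIrrCharacter.classInner_of_ne (f χ).2 χ.2 fun e => h (Subtype.ext e)]
  have h2 : ∑ χ : IrrCharacter G, classInner ((f χ : IrrCharacter G) : G → ℂ) (χ : G → ℂ) =
      (Nat.card G : ℂ)⁻¹ * ∑ g : G, if IsConj (s g) g then (cent g : ℂ) else 0 := by
    simp only [classInner, ← mul_sum, hfs]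
    rw [sum_comm]
    congr 1
    refine sum_congr rfl fun g _ => ?_
    rw [← Finset.sum_subtype (CfsgLib.Char.irrFinset G) (fun _ => CfsgLib.Char.mem_irrFinset)
      (fun χ => χ (s g) * conj (χ g)), CfsgLib.Char.sum_irr_mul_conj]
    split_ifs with h
    · have : (Nat.card (Subgroup.centralizer ({s g} : Set G)) : ℕ) = cent g := by
        have e1 := CfsgLib.Char.card_conj_class_mul_card_centralizer (s g)
        have e2 := CfsgLib.Char.card_conj_class_mul_card_centralizer g
        rw [Nat.card_congr (Equiv.subtypeEquivRight fun x => ⟨fun a => h.symm.trans a, fun a => h.trans a⟩),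
          ← e2] at e1
        have : Nonempty {x : G // IsConj g x} := ⟨⟨g, IsConj.refl g⟩⟩
        exact Nat.eq_of_mul_eq_mul_left Nat.card_pos e1
      rw [this]
    · rfl
  apply Nat.cast_injective (R := ℂ)
  rw [h1, h2, inv_mul_eq_iff_eq_mul₀ (Nat.cast_ne_zero.mpr Nat.card_pos.ne'), Nat.card_eq_fintype_card (α := {c : ConjClasses G // _}),
    Fintype.card_subtype, ← sum_boole, mul_sum, ← sum_fiberwise univ (fun g : G => ConjClasses.mk g)]
  refine sum_congr rfl fun c _ => ?_
  obtain ⟨g₀, rfl⟩ := ConjClasses.mk_surjective c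
  have key : ∀ g, ConjClasses.mk g = ConjClasses.mk g₀ → (IsConj (s g) g ↔ IsConj (s g₀) g₀) := fun g hg =>
    have hc := ConjClasses.mk_eq_mk_iff_isConj.mp hg
    ⟨fun a => ((hs g g₀ hc).symm.trans a).trans hc, fun a => ((hs g g₀ hc).trans a).trans hc.symm⟩
  by_cases h : IsConj (s g₀) g₀
  · rw [if_pos fun g hg => (key g hg).mpr h, mul_one]
    have hcent : ∀ g ∈ univ.filter (fun g => ConjClasses.mk g = ConjClasses.mk g₀),
        (if IsConj (s g) g then (cent g : ℂ) else 0) = (cent g₀ : ℂ) := by
      intro g hg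
      have hg' := (mem_filter.mp hg).2
      rw [if_pos ((key g hg').mpr h)]
      have e1 := CfsgLib.Char.card_conj_class_mul_card_centralizer g
      have hc := ConjClasses.mk_eq_mk_iff_isConj.mp hg'
      rw [Nat.card_congr (Equiv.subtypeEquivRight fun x => ⟨fun a => hc.symm.trans a, fun a => hc.trans a⟩),
        ← CfsgLib.Char.card_conj_class_mul_card_centralizer g₀] at e1
      have : Nonempty {x : G // IsConj g₀ x} := ⟨⟨g₀, IsConj.refl g₀⟩⟩
      exact_mod_cast Nat.eq_of_mul_eq_mul_left Nat.card_pos e1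
    rw [sum_congr rfl hcent, sum_const, nsmul_eq_mul, ← CfsgLib.Char.card_conj_class_mul_card_centralizer g₀,
      Nat.cast_mul, Nat.card_eq_fintype_card (α := {x : G // IsConj g₀ x}), Fintype.card_subtype]
    congr 3
    ext x
    simp only [mem_filter, mem_univ, true_and, ConjClasses.mk_eq_mk_iff_isConj]
    exact isConj_comm
  · rw [if_neg fun hall => h (hall g₀ rfl), mul_zero]
    exact sum_eq_zero fun g hg => if_neg fun hg' => h ((key g (mem_filter.mp hg).2).mp hg')

/-- As many real irreducible characters as real classes. -/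
theorem card_real_irr :
    Nat.card {χ : IrrCharacter G // ∀ g, ((χ : G → ℂ) g).im = 0} =
      Nat.card {c : ConjClasses G // ∀ g, ConjClasses.mk g = c → IsConj g g⁻¹} := by
  classical
  have := Fintype.ofFinite G
  let f : IrrCharacter G → IrrCharacter G := fun χ => ⟨_, CfsgLib.Char.IsIrrCharacter.conj χ.2⟩
  have h := card_fixed_irr f (fun g => g⁻¹)
    (fun g h hgh => by
      obtain ⟨c, rfl⟩ := isConj_iff.mp hgh
      exact isConj_iff.mpr ⟨c, by group⟩)
    (fun χ g => (CfsgLib.Char.IsCharacter.apply_inv (CfsgLib.Char.IsIrrCharacter.isCharacter χ.2) g).symm)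
  rw [Nat.card_congr (Equiv.subtypeEquivRight fun (χ : IrrCharacter G) => ?_),
    h, Nat.card_congr (Equiv.subtypeEquivRight fun (c : ConjClasses G) => ?_)]
  · exact forall₂_congr fun g _ => isConj_comm
  · constructor
    · exact fun hr => Subtype.ext (funext fun g => Complex.conj_eq_iff_im.mpr (hr g))
    · exact fun hr g => Complex.conj_eq_iff_im.mp (congrArg (fun ψ : IrrCharacter G => (ψ : G → ℂ) g) hr)

end CfsgLib.GlaubermanCorr
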