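import Cfsg.Agent.GlaubermanCorr.Cyclic

/-!
# The correspondence defined by the canonical extension
-/

namespace CfsgLib.GlaubermanCorr

open Finset Cfsg
open scoped ComplexConjugate

universe u

variable {G : Type u} [Group G] {K : Subgroup G} [K.Normal] {s : G} {q : ℕ} {C : Subgroup G}

theorem CopSetup.hfix_unit (h : CopSetup K s q C) {j : ℕ} (hj : j.Coprime q) :
    ∀ a ∈ K, Commute a (s ^ j) → a ∈ C := fun a ha hc => by
  refine (h.memC a).mpr ⟨ha, ?_⟩
  obtain ⟨m, hm⟩ : ∃ m : ℕ, (s ^ j) ^ m = s := by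
    obtain ⟨m, hm⟩ := exists_pow_eq_self_of_coprime (x := s) (by rw [h.ord]; exact hj)
    exact ⟨m, hm⟩
  have := hc.pow_right m
  rw [hm] at this
  exact this.symm

variable [Fintype G] [Fintype ↥K] [Fintype ↥C]

omit [Fintype ↥C] in
theorem CopSetup.det_of_coprime (h : CopSetup K s q C) {η : G → ℂ} (hη : IsCharacter G η)
    (hd : (detOrder η).Coprime q) : detChar η s = 1 := by
  obtain ⟨n, ρ, rfl⟩ := hη
  have h1 : detChar ρ.character s ^ detOrder ρ.character = 1 := congrFun (pow_orderOf_eq_one (detChar ρ.character)) s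
  have h2 : detChar ρ.character s ^ q = 1 := by
    rw [CfsgLib.Char.detChar_eq, ← map_pow, ← map_pow, ← h.ord, pow_orderOf_eq_one, map_one, map_one]
  exact orderOf_eq_one_iff.mp (Nat.eq_one_of_dvd_coprimes hd (orderOf_dvd_of_pow_eq_one h1) (orderOf_dvd_of_pow_eq_one h2))

omit [Fintype ↥C] in
theorem CopSetup.coprime_of_det (h : CopSetup K s q C) {η : G → ℂ} (hη : IsCharacter G η)
    (hd : detChar η s = 1) : (detOrder η).Coprime q := by
  obtain ⟨n, ρ, rfl⟩ := hη
  refine h.cop.coprime_dvd_left (orderOf_dvd_of_pow_eq_one ?_)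
  funext g
  obtain ⟨k, hk, i, rfl⟩ := h.top g
  rw [CfsgLib.Char.detChar_eq] at hd
  rw [Pi.pow_apply, Pi.one_apply, CfsgLib.Char.detChar_eq, map_mul, map_mul, map_pow, map_pow, hd, one_pow, mul_one,
    ← map_pow, ← map_pow]
  have : k ^ Nat.card ↥K = 1 := congrArg Subtype.val (pow_card_eq_one' (x := (⟨k, hk⟩ : ↥K)))
  rw [this, map_one, map_one]

/-- On all cosets of generators a canonical extension is the same signed irreducible character of `C`,
which is a constituent of its restriction. -/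
theorem CopSetup.exists_value [NeZero q] (h : CopSetup K s q C) {η : G → ℂ} (hη : IsCan K s η) :
    ∃ (β : IrrCharacter ↥C) (ε : ℤ), (ε = 1 ∨ ε = -1) ∧
      (∀ (c : ↥C) (j : ℕ), j.Coprime q → η ((c : G) * s ^ j) = (ε : ℂ) * (β : ↥C → ℂ) c) ∧
      classInner (fun c : ↥C => η c) (β : ↥C → ℂ) ≠ 0 := by
  classical
  have hu : ∀ i : ZMod q, IsUnit i → ∀ a ∈ K, Commute a (s ^ i.val) → a ∈ C := fun i hi =>
    h.hfix_unit ((ZMod.isUnit_iff_coprime i.val q).mp (by rwa [ZMod.natCast_zmod_val]))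
  obtain ⟨β, ε, hε, hval⟩ := h.coset_value hη (1 : ZMod q) (hu 1 isUnit_one)
  have hcf := fun i : ℕ => h.atCoset_classFun (CfsgLib.Char.IsIrrCharacter.isClassFunction hη.irr) i
  have hsame : ∀ i : ZMod q, IsUnit i → atCoset C s η i.val = (ε : ℂ) • (β : ↥C → ℂ) := by
    intro i hi
    rw [← hval]
    refine CfsgLib.Char.eq_of_classInner_eq (hcf _) (hcf _) fun χ hχ => ?_
    obtain ⟨v, hv, hv'⟩ := h.exists_coeff_int hη ⟨χ, hχ⟩
    rw [hv i, hv 1, ← hv' 1 i hi, mul_one]
  refine ⟨β, ε, hε, fun c j hj => ?_, ?_⟩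
  · have hi : IsUnit (j : ZMod q) := (ZMod.isUnit_iff_coprime j q).mpr hj
    have h1 := congrFun (hsame _ hi) c
    simp only [atCoset, ZMod.val_natCast, Pi.smul_apply, smul_eq_mul] at h1
    rwa [← h.ord, pow_mod_orderOf] at h1
  · have hω := Complex.isPrimitiveRoot_exp q (NeZero.ne q)
    obtain ⟨n, hn⟩ := h.exists_coeff_poly hω (CfsgLib.Char.IsIrrCharacter.isCharacter hη.irr) β
    intro h0
    have h1 := hn 0
    simp only [zero_mul, ZMod.val_zero, pow_zero, mul_one] at h1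
    rw [show atCoset C s η 0 = fun c : ↥C => η c from funext fun c => by simp [atCoset]] at h1
    rw [h0] at h1
    have hz : ∀ j, n j = 0 := by
      have : ∑ j, n j = 0 := by exact_mod_cast h1.symm
      exact fun j => (sum_eq_zero_iff.mp this) j (mem_univ j)
    have h2 := hn 1
    rw [hval, CfsgLib.Char.classInner_smul_left, CfsgLib.Char.IsIrrCharacter.classInner_self β.2] at h2
    simp only [hz, Nat.cast_zero, zero_mul, sum_const_zero, mul_one, Int.cast_eq_zero] at h2
    omega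

/-- Two canonical extensions with proportional values on `C * s` agree. -/
theorem CopSetup.eq_of_value [NeZero q] (h : CopSetup K s q C) {η η' : G → ℂ} (hη : IsCan K s η)
    (hη' : IsCan K s η') {β : IrrCharacter ↥C} {ε ε' : ℤ} (hε : ε = 1 ∨ ε = -1) (hε' : ε' = 1 ∨ ε' = -1)
    (h1 : ∀ c : ↥C, η ((c : G) * s) = (ε : ℂ) * (β : ↥C → ℂ) c)
    (h2 : ∀ c : ↥C, η' ((c : G) * s) = (ε' : ℂ) * (β : ↥C → ℂ) c) : η = η' := by
  classical
  have hs : s ^ ((1 : ZMod q)).val = s := by
    rw [show (1 : ZMod q) = ((1 : ℕ) : ZMod q) by simp, ZMod.val_natCast, ← h.ord, pow_mod_orderOf, pow_one]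
  have hfix : ∀ a ∈ K, Commute a (s ^ ((1 : ZMod q)).val) → a ∈ C := by
    rw [hs]; have := h.hfix_unit (Nat.coprime_one_left q); rwa [pow_one] at this
  have ho := h.orth hη hη' 1 hfix
  have e1 : atCoset C s η ((1 : ZMod q)).val = (ε : ℂ) • (β : ↥C → ℂ) := funext fun c => by
    simp only [atCoset, hs, h1]; rfl
  have e2 : atCoset C s η' ((1 : ZMod q)).val = (ε' : ℂ) • (β : ↥C → ℂ) := funext fun c => by
    simp only [atCoset, hs, h2]; rfl
  rw [e1, e2, CfsgLib.Char.classInner_smul_left, ← CfsgLib.Char.classInner_conj ((ε' : ℂ) • (β : ↥C → ℂ)),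
    CfsgLib.Char.classInner_smul_left, CfsgLib.Char.IsIrrCharacter.classInner_self β.2] at ho
  by_contra hne
  rw [if_neg hne] at ho
  rcases hε with rfl | rfl <;> rcases hε' with rfl | rfl <;> simp at ho

/-- Every irreducible character of `C` occurs. -/
theorem CopSetup.exists_of_char [NeZero q] (h : CopSetup K s q C) (β : IrrCharacter ↥C) :
    ∃ (η : G → ℂ) (ε : ℤ), IsCan K s η ∧ InvBy K s (fun k : ↥K => η k) ∧ (ε = 1 ∨ ε = -1) ∧
      ∀ (c : ↥C) (j : ℕ), j.Coprime q → η ((c : G) * s ^ j) = (ε : ℂ) * (β : ↥C → ℂ) c := by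
  classical
  set S := Subgroup.zpowers s
  have hsol : Group.IsSolvable ↥S := by
    let _ : CommGroup ↥S := IsCyclic.commGroup
    infer_instance
  have hC : ∀ k, k ∈ C ↔ k ∈ K ∧ ∀ y ∈ S, y * k = k * y := fun k => by
    rw [h.memC]
    refine and_congr_right fun _ => ⟨fun hc y hy => ?_, fun hy => hy s (Subgroup.mem_zpowers s)⟩
    obtain ⟨j, rfl⟩ := Subgroup.mem_zpowers_iff.mp hy
    exact (Commute.zpow_left hc j).eq
  obtain ⟨f, hf, -⟩ := exists_equivariant hsol (fun y _ k hk => ‹K.Normal›.conj_mem k hk y)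
    (by rw [Nat.card_zpowers, h.ord]; exact h.cop) hC
  have hcan : ∀ χ : {χ : IrrCharacter ↥K // Inv K S (χ : ↥K → ℂ)},
      ∃ η, IsCan K s η ∧ ∀ k : ↥K, η k = (χ.1 : ↥K → ℂ) k := fun χ =>
    h.exists_can χ.1 (χ.2 s (Subgroup.mem_zpowers s))
  choose η hη hres using hcan
  choose b e he hb hne using fun χ => h.exists_value (hη χ)
  have hinj : Function.Injective b := fun χ χ' hbb => by
    have h1 := hb χ
    rw [hbb] at h1
    have hee := h.eq_of_value (hη χ) (hη χ') (he χ) (he χ')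
      (fun c => by simpa using h1 c 1 (Nat.coprime_one_left q))
      (fun c => by simpa using hb χ' c 1 (Nat.coprime_one_left q))
    refine Subtype.ext (Subtype.ext (funext fun k => ?_))
    rw [← hres, ← hres, hee]
  have hbij : Function.Bijective b := (Nat.bijective_iff_injective_and_card b).mpr ⟨hinj, Nat.card_eq_of_bijective f hf⟩
  obtain ⟨χ, rfl⟩ := hbij.2 β
  exact ⟨η χ, e χ, hη χ, invBy_of_isClassFunction (CfsgLib.Char.IsIrrCharacter.isClassFunction (hη χ).irr), he χ, hb χ⟩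

omit [Fintype G] [Fintype ↥K] [Fintype ↥C] [K.Normal] in
/-- Integer families of minimal positive spread have exactly one exceptional value. -/
theorem exists_exception {ι : Type*} [Fintype ι] [DecidableEq ι] (a : ι → ℤ) (h2 : 2 ≤ Fintype.card ι)
    (hsp : spread a = (Fintype.card ι : ℤ) - 1) :
    ∃ (j₀ : ι) (c e : ℤ), (e = 1 ∨ e = -1) ∧ (∀ j, a j = c + if j = j₀ then e else 0) ∧ ∀ j, j ≠ j₀ → a j = c := by
  classical
  have hnc : ¬ ∀ i j, a i = a j := by
    intro hc
    obtain ⟨i⟩ : Nonempty ι := Fintype.card_pos_iff.mp (by omega)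
    have := two_mul_spread a
    rw [hsp, sum_eq_zero (fun i _ => sum_eq_zero fun j _ => by rw [hc i j, sub_self, zero_pow two_ne_zero])] at this
    omega
  push Not at hnc
  obtain ⟨i₀, i₁, hne⟩ := hnc
  set T := univ.filter (fun j => a j = a i₀)
  set U := univ.filter (fun j => ¬ a j = a i₀)
  have hsplit := fun f : ι → ℤ => (sum_filter_add_sum_filter_not univ (fun j => a j = a i₀) f).symm
  have hTT : ∑ i ∈ T, ∑ j ∈ T, (a i - a j) ^ 2 = 0 := sum_eq_zero fun i hi => sum_eq_zero fun j hj => by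
    rw [(mem_filter.mp hi).2, (mem_filter.mp hj).2, sub_self, zero_pow two_ne_zero]
  set A := ∑ i ∈ T, ∑ j ∈ U, (a i - a j) ^ 2 with hA
  set B := ∑ i ∈ U, ∑ j ∈ U, (a i - a j) ^ 2 with hB
  have hUT : ∑ i ∈ U, ∑ j ∈ T, (a i - a j) ^ 2 = A := by
    rw [hA, sum_comm]
    exact sum_congr rfl fun j _ => sum_congr rfl fun i _ => by ring
  have htot : 2 * A + B = 2 * ((Fintype.card ι : ℤ) - 1) := by
    rw [← hsp, two_mul_spread, hsplit, sum_congr rfl (fun i _ => hsplit _), sum_congr (s₁ := U) rfl (fun i _ => hsplit _),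
      sum_add_distrib, sum_add_distrib, hTT, hUT]
    ring
  have hge : ∀ i ∈ T, ∀ j ∈ U, 1 ≤ (a i - a j) ^ 2 := fun i hi j hj => by
    have : a i - a j ≠ 0 := sub_ne_zero.mpr (by rw [(mem_filter.mp hi).2]; exact fun e => (mem_filter.mp hj).2 e.symm)
    have := (sq_pos_iff (a := a i - a j)).mpr this
    omega
  have hAge : (T.card : ℤ) * U.card ≤ A := by
    calc (T.card : ℤ) * U.card = ∑ _i ∈ T, ∑ _j ∈ U, (1 : ℤ) := by simp
      _ ≤ A := sum_le_sum fun i hi => sum_le_sum fun j hj => hge i hi j hj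
  have hBge : 0 ≤ B := sum_nonneg fun i _ => sum_nonneg fun j _ => sq_nonneg _
  have hTU : (T.card : ℤ) + U.card = Fintype.card ι := by
    exact_mod_cast card_filter_add_card_filter_not (s := univ) (fun j => a j = a i₀)
  have hT1 : 1 ≤ T.card := card_pos.mpr ⟨i₀, by simp [T]⟩
  have hU1 : 1 ≤ U.card := card_pos.mpr ⟨i₁, by simp [U, Ne.symm hne]⟩
  have hT1' : (1 : ℤ) ≤ T.card := by exact_mod_cast hT1
  have hU1' : (1 : ℤ) ≤ U.card := by exact_mod_cast hU1
  have hAeq : A = (T.card : ℤ) * U.card := by nlinarith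
  have hB0 : B = 0 := by nlinarith
  have hprod : ((T.card : ℤ) - 1) * ((U.card : ℤ) - 1) = 0 := by nlinarith
  have hUconst : ∀ i ∈ U, a i = a i₁ := fun i hi => by
    have h3 := (sum_eq_zero_iff_of_nonneg fun i _ => sum_nonneg fun j _ => sq_nonneg _).mp hB0 i hi
    have h4 := (sum_eq_zero_iff_of_nonneg fun j _ => sq_nonneg _).mp h3 i₁ (by simp [U, Ne.symm hne])
    exact sub_eq_zero.mp (pow_eq_zero_iff two_ne_zero |>.mp h4)
  have hd : (a i₀ - a i₁) ^ 2 = 1 := by
    have : A = (T.card : ℤ) * U.card * (a i₀ - a i₁) ^ 2 := by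
      have hterm : ∀ i ∈ T, ∑ j ∈ U, (a i - a j) ^ 2 = (U.card : ℤ) * (a i₀ - a i₁) ^ 2 := fun i hi => by
        rw [sum_congr rfl (g := fun _ => (a i₀ - a i₁) ^ 2) fun j hj => by rw [(mem_filter.mp hi).2, hUconst j hj],
          sum_const, nsmul_eq_mul]
      rw [hA, sum_congr rfl hterm, sum_const, nsmul_eq_mul]; ring
    rw [hAeq] at this
    have hpos : (T.card : ℤ) * U.card ≠ 0 := (mul_pos (show (0 : ℤ) < T.card by omega) (show (0 : ℤ) < U.card by omega)).ne'
    exact (mul_eq_left₀ hpos).mp this.symm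
  rcases mul_eq_zero.mp hprod with h3 | h3
  · refine ⟨i₀, a i₁, a i₀ - a i₁, sq_eq_one_iff.mp hd, fun j => ?_, fun j hj => ?_⟩
    · by_cases hj : j = i₀
      · subst hj; rw [if_pos rfl]; ring
      · rw [if_neg hj, add_zero]
        exact hUconst j (mem_filter.mpr ⟨mem_univ _, fun e => hj (card_le_one.mp (show T.card ≤ 1 by omega) j (by simp [T, e]) i₀ (by simp [T]))⟩)
    · exact hUconst j (mem_filter.mpr ⟨mem_univ _, fun e => hj (card_le_one.mp (show T.card ≤ 1 by omega) j (by simp [T, e]) i₀ (by simp [T]))⟩)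
  · refine ⟨i₁, a i₀, a i₁ - a i₀, sq_eq_one_iff.mp (by rw [← hd]; ring), fun j => ?_, fun j hj => ?_⟩
    · by_cases hj : j = i₁
      · subst hj; rw [if_pos rfl]; ring
      · rw [if_neg hj, add_zero]
        by_contra hc
        exact hj (card_le_one.mp (show U.card ≤ 1 by omega) j (by simp [U, hc]) i₁ (by simp [U, Ne.symm hne]))
    · by_contra hc
      exact hj (card_le_one.mp (show U.card ≤ 1 by omega) j (by simp [U, hc]) i₁ (by simp [U, Ne.symm hne]))

/-- When every nontrivial power of `s` has fixed points `C`. -/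
theorem CopSetup.fpf_value [NeZero q] (h : CopSetup K s q C) (hq : 2 ≤ q)
    (hfpf : ∀ i : ZMod q, i ≠ 0 → ∀ a ∈ K, Commute a (s ^ i.val) → a ∈ C) {η : G → ℂ} (hη : IsCan K s η)
    {β : IrrCharacter ↥C} {ε₀ : ℤ} (hε₀ : ε₀ = 1 ∨ ε₀ = -1)
    (hβ : ∀ c : ↥C, η ((c : G) * s) = (ε₀ : ℂ) * (β : ↥C → ℂ) c) :
    ∃ (ε : ℤ) (δ : ℂ) (ϑ : ↥C → ℂ), (ε = 1 ∨ ε = -1) ∧ (δ = 1 ∨ δ = -1) ∧ δ ^ q = 1 ∧ IsCharacter ↥C ϑ ∧
      (∀ i : ZMod q, i ≠ 0 → ∀ c : ↥C, η ((c : G) * s ^ i.val) = (ε : ℂ) * δ ^ i.val * (β : ↥C → ℂ) c) ∧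
      (fun c : ↥C => η c) = fun c => (q : ℂ) * ϑ c + (ε : ℂ) * (β : ↥C → ℂ) c := by
  classical
  have : Fact (1 < q) := ⟨hq⟩
  have hω := Complex.isPrimitiveRoot_exp q (NeZero.ne q)
  set ω := Complex.exp (2 * Real.pi * Complex.I / q)
  have hcf := fun i : ℕ => h.atCoset_classFun (CfsgLib.Char.IsIrrCharacter.isClassFunction hη.irr) i
  choose n hn using fun b : IrrCharacter ↥C => h.exists_coeff_poly hω (CfsgLib.Char.IsIrrCharacter.isCharacter hη.irr) b
  let N : IrrCharacter ↥C → ZMod q → ℤ := fun b j => (n b j : ℤ)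
  have hgam : ∀ (b : IrrCharacter ↥C) i, classInner (atCoset C s η i.val) (b : ↥C → ℂ) = gam ω (N b) i := fun b i => by
    rw [hn]; simp [gam, N]
  choose v hv hv' using fun b : IrrCharacter ↥C => h.exists_coeff_int hη b
  let hFI := Fintype.ofFinite (IrrCharacter ↥C)
  have hexp : ∀ i : ℕ, atCoset C s η i = ∑ b : IrrCharacter ↥C, classInner (atCoset C s η i) (b : ↥C → ℂ) • (b : ↥C → ℂ) :=
    fun i => (CfsgLib.Char.eq_sum_irr (hcf i)).trans (Finset.sum_subtype (F := hFI) (CfsgLib.Char.irrFinset ↥C)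
      (fun _ => CfsgLib.Char.mem_irrFinset) _)
  have hone : ∀ i : ZMod q, i ≠ 0 → ∑ b, v b i ^ 2 = 1 := by
    intro i hi
    have h1 := h.orth hη hη i (hfpf i hi)
    rw [if_pos rfl] at h1
    rw [show classInner (atCoset C s η i.val) (atCoset C s η i.val) =
      classInner (∑ b : IrrCharacter ↥C, classInner (atCoset C s η i.val) (b : ↥C → ℂ) • (b : ↥C → ℂ))
        (atCoset C s η i.val) from congrArg (fun φ => classInner φ (atCoset C s η i.val)) (hexp _),
      CfsgLib.Char.classInner_sum_left] at h1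
    have hterm : ∀ b : IrrCharacter ↥C, classInner (classInner (atCoset C s η i.val) (b : ↥C → ℂ) • (b : ↥C → ℂ))
        (atCoset C s η i.val) = ((v b i ^ 2 : ℤ) : ℂ) := fun b => by
      rw [CfsgLib.Char.classInner_smul_left, ← CfsgLib.Char.classInner_conj (atCoset C s η i.val), hv, map_intCast]
      push_cast; ring
    rw [sum_congr rfl fun b _ => hterm b] at h1
    exact_mod_cast h1
  have hsp : ∀ b, spread (N b) = ∑ i ∈ univ.erase (0 : ZMod q), v b i ^ 2 := by
    intro b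
    have h1 := sum_norm_sq_gam hω (N b)
    rw [← add_sum_erase _ _ (mem_univ (0 : ZMod q))] at h1
    have h0 : gam ω (N b) 0 = ((∑ j, N b j : ℤ) : ℂ) := by simp [gam]
    rw [h0, map_intCast, sum_congr rfl (g := fun i => ((v b i ^ 2 : ℤ) : ℂ)) fun i _ => by
      rw [← hgam, hv, map_intCast]; push_cast; ring] at h1
    have h2 : ((∑ j, N b j) ^ 2 + ∑ i ∈ univ.erase (0 : ZMod q), v b i ^ 2 : ℤ) = (q : ℤ) * ∑ j, N b j ^ 2 := by
      apply Int.cast_injective (α := ℂ)
      push_cast at h1 ⊢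
      linear_combination h1
    rw [spread, ZMod.card]
    linarith
  have htot : ∑ b, spread (N b) = (q : ℤ) - 1 := by
    simp only [hsp]
    rw [sum_comm, sum_congr rfl (g := fun _ => (1 : ℤ)) fun i hi => hone i (mem_erase.mp hi).1, sum_const,
      card_erase_of_mem (mem_univ _), card_univ, ZMod.card, nsmul_eq_mul, mul_one]
    push_cast [Nat.cast_sub (show 1 ≤ q by omega)]
    ring
  have hs : s ^ ((1 : ZMod q)).val = s := by rw [ZMod.val_one, pow_one]
  have hv1 : ∀ b, (v b 1 : ℂ) = if b = β then (ε₀ : ℂ) else 0 := fun b => by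
    rw [← hv b 1, show atCoset C s η ((1 : ZMod q)).val = (ε₀ : ℂ) • (β : ↥C → ℂ) from
      funext fun c => by simp only [atCoset, hs, hβ]; rfl, CfsgLib.Char.classInner_smul_left,
      CfsgLib.Char.IsIrrCharacter.classInner_eq β.2 b.2]
    by_cases hb : b = β
    · subst hb; simp
    · rw [if_neg hb, if_neg (fun e => hb (Subtype.ext e.symm)), mul_zero]
  have hspβ : spread (N β) = (q : ℤ) - 1 := by
    have hnn : ∀ b, 0 ≤ spread (N b) := fun b => spread_nonneg _
    have hle : spread (N β) ≤ (q : ℤ) - 1 := htot ▸ single_le_sum (fun b _ => hnn b) (mem_univ β)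
    rcases spread_eq_zero_or_ge (N β) with hc | hc
    · exfalso
      have h0 : spread (N β) = 0 := by
        have := two_mul_spread (N β)
        rw [sum_eq_zero (fun i _ => sum_eq_zero fun j _ => by rw [hc i j, sub_self, zero_pow two_ne_zero])] at this
        linarith
      rw [hsp] at h0
      have h1 := (sum_eq_zero_iff_of_nonneg fun i _ => sq_nonneg (v β i)).mp h0 1 (mem_erase.mpr ⟨one_ne_zero, mem_univ _⟩)
      have h2 := hv1 β
      rw [if_pos rfl, Int.cast_inj] at h2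
      rw [h2] at h1
      rcases hε₀ with rfl | rfl <;> norm_num at h1
    · rw [ZMod.card] at hc; omega
  have hothers : ∀ b, b ≠ β → (∀ i j, N b i = N b j) ∧ ∀ i : ZMod q, i ≠ 0 → v b i = 0 := by
    intro b hb
    have h0 : spread (N b) = 0 := by
      have := sum_erase_add univ (fun b => spread (N b)) (mem_univ β)
      rw [htot, hspβ, add_eq_right] at this
      exact (sum_eq_zero_iff_of_nonneg fun b _ => spread_nonneg _).mp this b (by simp [hb])
    refine ⟨?_, fun i hi => ?_⟩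
    · rcases spread_eq_zero_or_ge (N b) with hc | hc
      · exact hc
      · rw [ZMod.card, h0] at hc; omega
    · rw [hsp] at h0
      exact pow_eq_zero_iff two_ne_zero |>.mp
        ((sum_eq_zero_iff_of_nonneg fun i _ => sq_nonneg (v b i)).mp h0 i (mem_erase.mpr ⟨hi, mem_univ _⟩))
  obtain ⟨j₀, c₀, e, he, hN, hNc⟩ := exists_exception (N β) (by rw [ZMod.card]; exact hq) (by rw [hspβ, ZMod.card])
  have hgamβ : ∀ i : ZMod q, i ≠ 0 → gam ω (N β) i = (e : ℂ) * ω ^ (i * j₀).val := fun i hi => by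
    simp only [gam, hN, Int.cast_add, add_mul, sum_add_distrib, ← mul_sum]
    have hz : ∑ j : ZMod q, ω ^ (i * j).val = 0 := by
      rw [sum_congr rfl fun j _ => by rw [mul_comm i j]]
      rw [sum_pow_val hω i, if_neg hi]
    rw [hz, mul_zero, zero_add, sum_eq_single j₀]
    · rw [if_pos rfl]
    · intro j _ hj; rw [if_neg hj, Int.cast_zero, zero_mul]
    · simp
  set δ : ℂ := ω ^ j₀.val
  have hδq : δ ^ q = 1 := by rw [← pow_mul, mul_comm, pow_mul, hω.pow_eq_one, one_pow]
  have hδ : δ = 1 ∨ δ = -1 := by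
    have h1 := hgamβ 1 one_ne_zero
    rw [← hgam, hv, hv1, if_pos rfl, one_mul] at h1
    rcases hε₀ with rfl | rfl <;> rcases he with rfl | rfl <;> push_cast at h1
    · exact Or.inl (by linear_combination -h1)
    · exact Or.inr (by linear_combination h1)
    · exact Or.inr (by linear_combination -h1)
    · exact Or.inl (by linear_combination h1)
  obtain ⟨c₁, hc₁⟩ : ∃ c₁ : ℕ, c₀ = (c₁ : ℤ) := by
    obtain ⟨j, hj⟩ := exists_ne j₀
    exact ⟨n β j, (hNc j hj).symm⟩
  let cof : IrrCharacter ↥C → ℕ := fun b => if b = β then c₁ else n b 0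
  refine ⟨e, δ, ∑ b : IrrCharacter ↥C, (cof b : ℂ) • (b : ↥C → ℂ), he, hδ, hδq,
    CfsgLib.Char.isCharacter_sum _ fun b _ => CfsgLib.Char.IsCharacter.natCast_smul
      (CfsgLib.Char.IsIrrCharacter.isCharacter b.2) _, fun i hi c => ?_, ?_⟩
  · have h1 := congrFun (hexp i.val) c
    rw [Finset.sum_apply, sum_eq_single β] at h1
    · rw [Pi.smul_apply, smul_eq_mul, hgam, hgamβ i hi] at h1
      refine h1.trans ?_
      rw [ZMod.val_mul, ← pow_eq_pow_mod _ hω.pow_eq_one, mul_comm i.val, pow_mul]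
    · intro b _ hb
      rw [Pi.smul_apply, hv b i, (hothers b hb).2 i hi, Int.cast_zero, zero_smul]
    · simp
  · funext c
    have h0 : (fun c : ↥C => η c) = atCoset C s η ((0 : ZMod q)).val := funext fun c => by simp [atCoset]
    rw [show η c = atCoset C s η ((0 : ZMod q)).val c from congrFun h0 c, hexp]
    simp only [Finset.sum_apply, Pi.smul_apply, smul_eq_mul, mul_sum, hgam]
    have hsingle : (e : ℂ) * (β : ↥C → ℂ) c = ∑ b : IrrCharacter ↥C, if b = β then (e : ℂ) * (b : ↥C → ℂ) c else 0 := by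
      rw [sum_ite_eq' univ β (fun b => (e : ℂ) * (b : ↥C → ℂ) c), if_pos (mem_univ β)]
    rw [hsingle, ← sum_add_distrib]
    refine sum_congr rfl fun b _ => ?_
    simp only [gam, zero_mul, ZMod.val_zero, pow_zero, mul_one]
    by_cases hb : b = β
    · subst hb
      simp only [hN, hc₁, cof, if_pos rfl, Int.cast_add, sum_add_distrib, sum_const, card_univ, ZMod.card,
        Int.cast_natCast, nsmul_eq_mul, ← Int.cast_sum, sum_ite_eq', mem_univ, if_true]
      ring
    · rw [if_neg hb, add_zero, sum_congr rfl fun j _ => by rw [(hothers b hb).1 j 0]]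
      simp [cof, hb, N, mul_assoc]

end CfsgLib.GlaubermanCorr
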