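import Cfsg.Agent.GlaubermanCorr.CosetOrtho
import Cfsg.Agent.Char.Equivalence

/-!
# Extending an invariant irreducible character along a cyclic quotient
-/

namespace CfsgLib.GlaubermanCorr

open Finset Cfsg Module
open scoped ComplexConjugate

variable {G : Type*} [Group G] [Fintype G]
variable {K : Subgroup G} {x : G} {q : ℕ} [NeZero q] {lam : G →* ℂˣ} {ω : ℂ}

/-- An irreducible character of `K` fixed by `x` extends to `G = K⟨x⟩`. -/
theorem CycData.exists_extension (h : CycData K x q lam ω) (χ : IrrCharacter ↥K)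
    (hinv : ∀ k k' : ↥K, (k' : G) = x * k * x⁻¹ → (χ : ↥K → ℂ) k' = (χ : ↥K → ℂ) k) :
    ∃ η, IsIrrCharacter G η ∧ ∀ k : ↥K, η k = (χ : ↥K → ℂ) k := by
  classical
  have hn : K.Normal := h.normal
  obtain ⟨n, ρ, hρ, hχ⟩ := χ.2
  let c : ↥K →* ↥K := (MulAut.conjNormal x : MulAut ↥K).toMonoidHom
  have hc : ∀ k : ↥K, (c k : G) = x * k * x⁻¹ := fun k => by simp [c]
  let σ : Representation ℂ ↥K (Fin n → ℂ) := ρ.comp c
  have hσ : σ.IsIrreducible := by
    rw [CfsgLib.Char.isIrreducible_iff_isIrrCharacter]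
    exact CfsgLib.Char.IsIrrCharacter.comp_surjective ⟨n, ρ, hρ, rfl⟩ c (MulAut.conjNormal x).surjective
  have hch : ρ.character = σ.character := by
    funext k
    have := hinv k (c k) (hc k)
    rw [← hχ] at this
    exact this.symm
  obtain ⟨e⟩ := CfsgLib.Char.equiv_of_character_eq ρ σ hch
  set E : Module.End ℂ (Fin n → ℂ) := e.toIntertwiningMap.toLinearMap with hE
  have hEk : ∀ k : ↥K, E * ρ k = ρ (c k) * E := fun k => e.toIntertwiningMap.isIntertwining' k
  have hEinj : Function.Injective E := fun a b hab => by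
    have := congrArg (fun v => e.symm v) hab
    simp only [hE] at this
    simpa using this
  have hq : x ^ q ∈ K := (h.ker _).mp (Units.ext (by
    rw [map_pow, Units.val_pow_eq_pow_val, h.apply_x, h.prim.pow_eq_one, Units.val_one]))
  set xq : ↥K := ⟨x ^ q, hq⟩
  have hcpow : ∀ (i : ℕ) (k : ↥K), E ^ i * ρ k = ρ (c^[i] k) * E ^ i := by
    intro i
    induction i with
    | zero => simp
    | succ i ih =>
      intro k
      rw [pow_succ, mul_assoc, hEk, ← mul_assoc, ih, mul_assoc, ← pow_succ, Function.iterate_succ_apply]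
  have hciter : ∀ (i : ℕ) (k : ↥K), ((c^[i] k : ↥K) : G) = x ^ i * k * (x ^ i)⁻¹ := by
    intro i
    induction i with
    | zero => simp
    | succ i ih => intro k; rw [Function.iterate_succ_apply, ih, hc, pow_succ]; group
  -- the commuting map is a scalar
  let f : Representation.IntertwiningMap ρ ρ := ⟨ρ xq⁻¹ * E ^ q, fun k => by
    change (ρ xq⁻¹ * E ^ q) * ρ k = ρ k * (ρ xq⁻¹ * E ^ q)
    rw [mul_assoc, hcpow, ← mul_assoc, ← map_mul, ← mul_assoc, ← map_mul]
    congr 2
    apply Subtype.ext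
    simp only [Subgroup.coe_mul, hciter, Subgroup.coe_inv, xq]
    group⟩
  obtain ⟨s, hs⟩ := (Representation.IsIrreducible.algebraMap_intertwiningMap_bijective_of_isAlgClosed (ρ := ρ)).2 f
  have hs' : ρ xq⁻¹ * E ^ q = s • (1 : Module.End ℂ (Fin n → ℂ)) := by
    have := congrArg Representation.IntertwiningMap.toLinearMap hs
    refine this.symm.trans ?_
    ext v
    simp [Algebra.algebraMap_eq_smul_one]
  have hEq : E ^ q = s • ρ xq := by
    have := congrArg (ρ xq * ·) hs'
    simp only [← mul_assoc, ← map_mul, mul_inv_cancel, map_one, one_mul, mul_smul_comm, mul_one] at this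
    exact this
  have hn0 : 0 < n := by
    obtain ⟨m, hm, hm'⟩ := CfsgLib.Char.IsIrrCharacter.exists_degree (χ := ρ.character) ⟨n, ρ, hρ, rfl⟩
    rw [ρ.char_one, Module.finrank_fin_fun] at hm'
    exact_mod_cast (Nat.cast_injective hm' : n = m) ▸ hm
  have hs0 : s ≠ 0 := by
    intro h0
    rw [h0, zero_smul] at hEq
    have h1 : Function.Injective ((E ^ q : Module.End ℂ (Fin n → ℂ))) := by
      have : ∀ i : ℕ, Function.Injective ((E ^ i : Module.End ℂ (Fin n → ℂ))) := by
        intro i
        induction i with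
        | zero => exact fun a b h => h
        | succ i ih => rw [pow_succ]; exact fun a b hab => hEinj (ih hab)
      exact this q
    rw [hEq] at h1
    have : Nonempty (Fin n) := ⟨⟨0, hn0⟩⟩
    obtain ⟨a, b, hab⟩ := exists_pair_ne (Fin n → ℂ)
    exact hab (h1 rfl)
  obtain ⟨r, hr⟩ := IsAlgClosed.exists_pow_nat_eq s⁻¹ (NeZero.pos q)
  set T : Module.End ℂ (Fin n → ℂ) := r • E
  have hTk : ∀ (i : ℕ) (k : ↥K), T ^ i * ρ k = ρ (c^[i] k) * T ^ i := fun i k => by
    simp only [T, smul_pow, smul_mul_assoc, hcpow, mul_smul_comm]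
  have hTq : T ^ q = ρ xq := by
    simp only [T, smul_pow, hr, hEq, smul_smul, inv_mul_cancel₀ hs0, one_smul]
  have hwd : ∀ (k k' : ↥K) (i i' : ℕ), (k : G) * x ^ i = k' * x ^ i' → ρ k * T ^ i = ρ k' * T ^ i' := by
    suffices ∀ (k k' : ↥K) (i i' : ℕ), i ≤ i' → (k : G) * x ^ i = k' * x ^ i' → ρ k * T ^ i = ρ k' * T ^ i' by
      intro k k' i i' e
      rcases le_total i i' with hii | hii
      · exact this k k' i i' hii e
      · exact (this k' k i' i hii e.symm).symm
    intro k k' i i' hii e
    have hd : x ^ (i' - i) = (k' : G)⁻¹ * k := by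
      have : (k' : G) * x ^ (i' - i) * x ^ i = k * x ^ i := by
        rw [mul_assoc, ← pow_add, Nat.sub_add_cancel hii, e]
      rw [← mul_right_cancel this]; group
    have hdvd : q ∣ i' - i := by
      have : (lam (x ^ (i' - i)) : ℂ) = 1 := by
        rw [hd, map_mul, (h.ker _).mpr k.2, mul_one, map_inv, (h.ker _).mpr k'.2, inv_one, Units.val_one]
      rw [map_pow, Units.val_pow_eq_pow_val, h.apply_x] at this
      exact (h.prim.pow_eq_one_iff_dvd _).mp this
    obtain ⟨d, hd'⟩ := hdvd
    have hk : k = k' * xq ^ d := Subtype.ext (by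
      simp only [Subgroup.coe_mul, Subgroup.coe_pow, xq, ← pow_mul, ← hd', hd]; group)
    rw [hk, map_mul, mul_assoc, map_pow, ← hTq, ← pow_mul, ← pow_add, ← hd', Nat.sub_add_cancel hii]
  choose kf hkf i hi using h.gen
  let R : Representation ℂ G (Fin n → ℂ) :=
    { toFun := fun g => ρ ⟨kf g, hkf g⟩ * T ^ i g
      map_one' := by
        have h1 : ρ ⟨kf 1, hkf 1⟩ * T ^ i 1 = ρ (1 : ↥K) * T ^ 0 := hwd _ _ _ _ (by simpa using (hi 1).symm)
        rw [h1, map_one, pow_zero, one_mul]
      map_mul' := fun g g' => by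
        rw [mul_assoc (ρ _), ← mul_assoc (T ^ i g), hTk, mul_assoc, ← pow_add, ← mul_assoc (ρ _), ← map_mul]
        refine hwd _ _ _ _ ?_
        rw [← hi (g * g')]
        conv_lhs => rw [hi g, hi g']
        simp only [Subgroup.coe_mul, hciter, pow_add]
        group }
  have hres : ∀ k : ↥K, R (k : G) = ρ k := fun k => by
    change ρ ⟨kf k, hkf k⟩ * T ^ i k = ρ k
    rw [hwd _ k _ 0 (by simpa using (hi (k : G)).symm), pow_zero, mul_one]
  have : R.IsIrreducible := by
    have hnt : Nontrivial (Fin n → ℂ) := by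
      have : Nonempty (Fin n) := ⟨⟨0, hn0⟩⟩
      infer_instance
    refine CfsgLib.Char.isIrreducible_of_no_sub R fun W => ?_
    let W' : Subrepresentation ρ := ⟨W.toSubmodule, fun k v hv => by
      have := W.apply_mem_toSubmodule (k : G) hv
      rwa [hres] at this⟩
    rcases hρ.eq_bot_or_eq_top W' with h0 | h0
    · exact Or.inl (Subrepresentation.toSubmodule_injective (congrArg Subrepresentation.toSubmodule h0 :))
    · exact Or.inr (Subrepresentation.toSubmodule_injective (congrArg Subrepresentation.toSubmodule h0 :))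
  refine ⟨R.character, CfsgLib.Char.isIrrCharacter_character R, fun k => ?_⟩
  rw [← hχ, Representation.character, Representation.character, hres]

end CfsgLib.GlaubermanCorr
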