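import Cfsg.Agent.GlaubermanCorr.Cover
import Cfsg.Agent.GlaubermanCorr.Extend
import Mathlib.GroupTheory.SpecificGroups.Cyclic

/-!
# The correspondence for one `p`-element

`Q ≤ K` are normal with `[K : Q]` prime to `p`, `G = K⟨x⟩`, `C = {k ∈ K : [x, k] ∈ Q}`. There is a
bijection between the `x`-invariant irreducible characters of `K` and of `C`, the multiplicity of
corresponding characters being `±1` and the others `0` modulo `p`.
-/

namespace CfsgLib.GlaubermanCorr

open Finset Cfsg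
open scoped ComplexConjugate

universe u

variable {G : Type u} [Group G]

/-- `χ` is fixed under conjugation by `x`. -/
def InvBy (H : Subgroup G) (x : G) (χ : ↥H → ℂ) : Prop :=
  ∀ k k' : ↥H, (k' : G) = x * k * x⁻¹ → χ k' = χ k

theorem classInner_comp_equiv {A B : Type*} [Group A] [Fintype A] [Group B] [Fintype B] (e : A ≃* B)
    (φ ψ : B → ℂ) : classInner (fun a => φ (e a)) (fun a => ψ (e a)) = classInner φ ψ := by
  rw [classInner, classInner, Nat.card_congr e.toEquiv]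
  congr 1
  exact Fintype.sum_equiv e.toEquiv _ _ (fun _ => rfl)

variable [Fintype G]

theorem invBy_of_isClassFunction {K : Subgroup G} {x : G} {φ : G → ℂ} (hφ : IsClassFunction G φ) :
    InvBy K x (fun k : ↥K => φ k) := fun k k' e => by
  change φ k' = φ k
  rw [e]; exact hφ k x

variable {p : ℕ} [Fact p.Prime] {K Q : Subgroup G} [K.Normal] [Q.Normal] {x : G} {C : Subgroup G}

theorem Setup.mem_C_of_mem_Q (h : Setup p K Q x C) {z : G} (hz : z ∈ Subgroup.zpowers x) (hK : z ∈ K) :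
    z ∈ C := by
  obtain ⟨e, he⟩ := h.pelem
  obtain ⟨i, rfl⟩ := Subgroup.mem_zpowers_iff.mp hz
  refine h.Q_le_C (h.mem_Q hK (e := e) ?_)
  rw [← zpow_natCast, ← zpow_mul, mul_comm, zpow_mul, zpow_natCast, he, one_zpow]

theorem Setup.pow (h : Setup p K Q x C) {s : ℕ} (hs : ¬ p ∣ s) : Setup p K Q (x ^ s) C := by
  obtain ⟨e, he⟩ := h.pelem
  have hco : (p ^ e).Coprime s := Nat.Coprime.pow_left e ((Fact.out : p.Prime).coprime_iff_not_dvd.mpr hs)
  have hgen : x ∈ Subgroup.zpowers (x ^ s) := by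
    obtain ⟨t, ht1, ht2⟩ := Nat.chineseRemainder hco 1 0
    obtain ⟨u, rfl⟩ := Nat.modEq_zero_iff_dvd.mp ht2
    refine Subgroup.mem_zpowers_iff.mpr ⟨u, ?_⟩
    rw [zpow_natCast, ← pow_mul, pow_eq_pow_of_modEq ht1 he, pow_one]
  refine ⟨h.le, h.not_dvd, ⟨e, by rw [← pow_mul, mul_comm, pow_mul, he, one_pow]⟩, ?_, ?_⟩
  · exact top_le_iff.mp (h.top ▸ sup_le_sup_left (Subgroup.zpowers_le.mpr hgen) K)
  · intro k
    rw [h.memC_iff]
    refine and_congr_right fun _ => ?_
    rw [← QuotientGroup.eq_one_iff]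
    simp only [QuotientGroup.mk_mul, QuotientGroup.mk_inv, QuotientGroup.mk_pow, mul_inv_eq_iff_eq_mul, one_mul]
    refine ⟨fun hc => (hc.pow_left s).eq, fun (hc : Commute ((QuotientGroup.mk x : G ⧸ Q) ^ s) _) => ?_⟩
    obtain ⟨j, hj⟩ := Subgroup.mem_zpowers_iff.mp hgen
    have := hc.zpow_left j
    rwa [← QuotientGroup.mk_pow, ← QuotientGroup.mk_zpow, hj] at this

/-- The subgroup `C⟨x⟩`. -/
def normSub (C : Subgroup G) (x : G) : Subgroup G := C ⊔ Subgroup.zpowers x

theorem Setup.conj_mem_C (h : Setup p K Q x C) {c : G} (hc : c ∈ C) : x * c * x⁻¹ ∈ C := by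
  have : x * c * x⁻¹ = (x * c * x⁻¹ * c⁻¹) * c := by group
  rw [this]; exact mul_mem (h.Q_le_C ((h.memC c).mp hc).2) hc

theorem Setup.mem_normSub (h : Setup p K Q x C) {g : G} (hg : g ∈ normSub C x) :
    ∃ c ∈ C, ∃ i : ℕ, g = c * x ^ i := by
  have hx : ∀ (i : ℕ) {c : G}, c ∈ C → x ^ i * c * (x ^ i)⁻¹ ∈ C := by
    intro i
    induction i with
    | zero => intro c hc; simpa using hc
    | succ i ih =>
      intro c hc
      have := h.conj_mem_C (ih hc)
      rw [pow_succ']; convert this using 1; group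
  rw [normSub, ← Subgroup.closure_eq C, ← Subgroup.zpowers_eq_closure x |>.symm, ← Subgroup.closure_union] at hg
  induction hg using Subgroup.closure_induction with
  | mem y hy =>
    rcases hy with hy | hy
    · exact ⟨y, hy, 0, by simp⟩
    · obtain rfl := hy; exact ⟨1, one_mem C, 1, by simp⟩
  | one => exact ⟨1, one_mem C, 0, by simp⟩
  | mul y z _ _ hy hz =>
    obtain ⟨c, hc, i, rfl⟩ := hy
    obtain ⟨d, hd, j, rfl⟩ := hz
    exact ⟨c * (x ^ i * d * (x ^ i)⁻¹), mul_mem hc (hx i hd), i + j, by rw [pow_add]; group⟩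
  | inv y _ hy =>
    obtain ⟨c, hc, i, rfl⟩ := hy
    set m := orderOf x
    have hm : x ^ (m * i) = 1 := by rw [pow_mul, pow_orderOf_eq_one, one_pow]
    have hinv : x ^ (m * i - i) = (x ^ i)⁻¹ := by
      apply eq_inv_of_mul_eq_one_left
      rw [← pow_add, Nat.sub_add_cancel (Nat.le_mul_of_pos_left i (orderOf_pos x)), hm]
    exact ⟨x ^ (m * i - i) * c⁻¹ * (x ^ (m * i - i))⁻¹, hx _ (inv_mem hc), m * i - i, by rw [hinv]; group⟩

open scoped Classical in
/-- The correspondence when `[G : K] = p ^ (k + 1)`. -/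
theorem Setup.exists_bijection (h : Setup p K Q x C) [Fintype ↥K] [Fintype ↥C] {k : ℕ}
    {lam : G →* ℂˣ} {ω : ℂ} (hcyc : CycData K x (p ^ (k + 1)) lam ω) :
    ∃ f : {χ : IrrCharacter ↥K // InvBy K x (χ : ↥K → ℂ)} → {ψ : IrrCharacter ↥C // InvBy C x (ψ : ↥C → ℂ)},
      Function.Bijective f ∧ ∀ χ ψ, ∃ m : ℕ,
        classInner (fun c : ↥C => (χ.1 : ↥K → ℂ) ⟨c, h.C_le c.2⟩) (ψ.1 : ↥C → ℂ) = (m : ℂ) ∧
        (ψ = f χ → (m : ZMod p) ^ 2 = 1) ∧ (ψ ≠ f χ → (m : ZMod p) = 0) := by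
  have hp : p.Prime := Fact.out
  set q := p ^ (k + 1) with hq
  set N := normSub C x with hN
  have hCN : C ≤ N := le_sup_left
  have hxN : x ∈ N := Subgroup.mem_sup_right (Subgroup.mem_zpowers x)
  set x' : ↥N := ⟨x, hxN⟩
  set C' : Subgroup ↥N := C.subgroupOf N
  set lam' : ↥N →* ℂˣ := lam.comp N.subtype
  have hcapN : ∀ g ∈ N, g ∈ K → g ∈ C := by
    intro g hg hgK
    obtain ⟨c, hc, i, rfl⟩ := h.mem_normSub hg
    refine mul_mem hc (h.mem_C_of_mem_Q (Subgroup.npow_mem_zpowers x i) ?_)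
    simpa using mul_mem (inv_mem (h.C_le hc)) hgK
  have hcyc' : CycData C' x' q lam' ω := by
    refine ⟨hcyc.prim, hcyc.apply_x, fun g => ?_, fun g => ?_⟩
    · refine ⟨fun hg => Subgroup.mem_subgroupOf.mpr (hcapN _ g.2 ((hcyc.ker _).mp hg)), fun hg => ?_⟩
      exact (hcyc.ker _).mpr (h.C_le (Subgroup.mem_subgroupOf.mp hg))
    · obtain ⟨c, hc, i, hg⟩ := h.mem_normSub g.2
      exact ⟨⟨c, hCN hc⟩, Subgroup.mem_subgroupOf.mpr hc, i, Subtype.ext (by simpa using hg)⟩
  let e : ↥C' ≃* ↥C := Subgroup.subgroupOfEquivOfLe hCN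
  have he : ∀ c : ↥C', (e c : G) = ((c : ↥N) : G) := fun _ => rfl
  -- extensions
  have hextK : ∀ χ : {χ : IrrCharacter ↥K // InvBy K x (χ : ↥K → ℂ)},
      ∃ η, IsIrrCharacter G η ∧ ∀ k : ↥K, η k = (χ.1 : ↥K → ℂ) k :=
    fun χ => hcyc.exists_extension χ.1 χ.2
  choose X hX hXres using hextK
  have hextC : ∀ ψ : {ψ : IrrCharacter ↥C // InvBy C x (ψ : ↥C → ℂ)},
      ∃ η, IsIrrCharacter ↥N η ∧ ∀ c : ↥C', η c = (ψ.1 : ↥C → ℂ) (e c) := fun ψ =>
    hcyc'.exists_extension ⟨_, CfsgLib.Char.IsIrrCharacter.comp_surjective ψ.1.2 e.toMonoidHom e.surjective⟩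
      (fun a b hab => ψ.2 (e a) (e b) (by rw [he, he, hab]; rfl))
  choose E hE hEres using hextC
  let F : {χ : IrrCharacter ↥K // InvBy K x (χ : ↥K → ℂ)} → ↥N → ℂ := fun χ y => X χ y
  have hF : ∀ χ, IsClassFunction ↥N (F χ) := fun χ g y =>
    CfsgLib.Char.IsIrrCharacter.isClassFunction (hX χ) g y
  have hFchar : ∀ χ, IsCharacter ↥N (F χ) := fun χ =>
    CfsgLib.Char.IsCharacter.restrict (CfsgLib.Char.IsIrrCharacter.isCharacter (hX χ)) N
  have hEirr : ∀ ψ, IsIrrCharacter ↥C' (fun c : ↥C' => E ψ c) := fun ψ => by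
    simp only [hEres]
    exact CfsgLib.Char.IsIrrCharacter.comp_surjective ψ.1.2 e.toMonoidHom e.surjective
  have hinjE : ∀ ψ ψ', (∀ c : ↥C', E ψ c = E ψ' c) → ψ = ψ' := fun ψ ψ' hc => by
    refine Subtype.ext (Subtype.ext (funext fun c => ?_))
    obtain ⟨c', rfl⟩ := e.surjective c
    rw [← hEres, ← hEres]; exact hc c'
  have hsurjE : ∀ η, IsIrrCharacter ↥N η → IsIrrCharacter ↥C' (fun c : ↥C' => η c) →
      ∃ ψ, ∀ c : ↥C', η c = E ψ c := by
    intro η hη hirr
    refine ⟨⟨⟨_, CfsgLib.Char.IsIrrCharacter.comp_surjective hirr e.symm.toMonoidHom e.symm.surjective⟩,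
      ?_⟩, fun c => ?_⟩
    · intro a b hab
      have := invBy_of_isClassFunction (K := C') (x := x') (CfsgLib.Char.IsIrrCharacter.isClassFunction hη)
      exact this (e.symm a) (e.symm b) (Subtype.ext hab)
    · rw [hEres]
      simp
  have hXirr : ∀ χ, IsIrrCharacter ↥K (fun k : ↥K => X χ k) := fun χ => by
    simp only [hXres]; exact χ.1.2
  have hinjX : ∀ χ χ', (∀ k : ↥K, X χ k = X χ' k) → χ = χ' := fun χ χ' hc => by
    refine Subtype.ext (Subtype.ext (funext fun k => ?_))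
    rw [← hXres, ← hXres]; exact hc k
  have hsurjX : ∀ η, IsIrrCharacter G η → IsIrrCharacter ↥K (fun k : ↥K => η k) →
      ∃ χ, ∀ k : ↥K, η k = X χ k := fun η hη hirr =>
    ⟨⟨⟨_, hirr⟩, invBy_of_isClassFunction (CfsgLib.Char.IsIrrCharacter.isClassFunction hη)⟩,
      fun k => by rw [hXres]⟩
  have : Fintype {χ : IrrCharacter ↥K // InvBy K x (χ : ↥K → ℂ)} := Fintype.ofFinite _
  have : Fintype {ψ : IrrCharacter ↥C // InvBy C x (ψ : ↥C → ℂ)} := Fintype.ofFinite _
  have hunit : ∀ i : ZMod q, IsUnit i ↔ ¬ p ∣ i.val := fun i => by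
    conv_lhs => rw [← ZMod.natCast_zmod_val i]
    rw [ZMod.isUnit_iff_coprime]
    change i.val.Coprime (p ^ (k + 1)) ↔ _
    rw [Nat.coprime_pow_right_iff (Nat.succ_pos k), Nat.coprime_comm,
      hp.coprime_iff_not_dvd]
  -- the coset inner products on `G` and on `N`
  have htrans : ∀ φ φ' : G → ℂ, IsClassFunction G φ → IsClassFunction G φ' → ∀ i : ZMod q, IsUnit i →
      cosetInner K x φ φ' i = cosetInner C' x' (fun y : ↥N => φ y) (fun y : ↥N => φ' y) i := by
    intro φ φ' hφ hφ' i hi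
    rw [cosetInner, (h.pow ((hunit i).mp hi)).sum_coset (fun y => φ y * conj (φ' y))
      (fun a _ y => by rw [hφ y a, hφ' y a]), cosetInner, Fintype.card_congr e.toEquiv]
    congr 1
    exact (Fintype.sum_equiv e.toEquiv _ _ (fun c => rfl)).symm
  have hn : ∀ χ ψ, ∀ j : ZMod q, ∃ n : ℕ, classInner (F χ) (lamPow lam' j * E ψ) = n := fun χ ψ j =>
    CfsgLib.Char.IsCharacter.exists_classInner_eq_natCast (hFchar χ) (hcyc'.isIrr_twist j (hE ψ))
  choose n hn using hn
  have hgam : ∀ χ ψ i, gam ω (fun j => (n χ ψ j : ℤ)) i = cosetInner C' x' (F χ) (E ψ) i := by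
    intro χ ψ i
    rw [hcyc'.cosetInner_eq]
    simp [gam, hn]
  have hzero : ∀ χ ψ, ((∑ j, (n χ ψ j : ℤ) : ℤ) : ℂ) =
      classInner (fun c : ↥C => (χ.1 : ↥K → ℂ) ⟨c, h.C_le c.2⟩) (ψ.1 : ↥C → ℂ) := by
    intro χ ψ
    have h1 := hcyc'.cosetInner_eq (F χ) (E ψ) 0
    simp only [cosetInner_zero, zero_mul, ZMod.val_zero, pow_zero, mul_one, hn] at h1
    rw [← classInner_comp_equiv e]
    push_cast
    rw [← h1]
    congr 1
    · funext c; exact hXres χ ⟨(c : ↥N), h.C_le c.2⟩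
    · funext c; exact hEres ψ c
  have horth : ∀ χ χ' (i : ZMod q), IsUnit i →
      cosetInner C' x' (F χ) (F χ') i = if χ = χ' then 1 else 0 := by
    intro χ χ' i hi
    rw [← htrans _ _ (CfsgLib.Char.IsIrrCharacter.isClassFunction (hX χ))
      (CfsgLib.Char.IsIrrCharacter.isClassFunction (hX χ')) i hi, hcyc.cosetInner_irr (hX χ) (hX χ')]
    split_ifs with hcc
    · subst hcc
      rw [sum_eq_single (0 : ZMod q)]
      · rw [if_pos (funext fun g => by simp [lamPow_zero]), mul_zero, ZMod.val_zero, pow_zero]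
      · intro j _ hj
        rw [if_neg fun e => hj ((hcyc.restrict_irr_iff (hX χ)).mp (hXirr χ) j e)]
      · simp
    · refine sum_eq_zero fun j _ => if_neg fun e => hcc (hinjX χ χ' fun a => ?_)
      rw [e, Pi.mul_apply, hcyc.lamPow_of_mem _ a.2, one_mul]
  have hnorm : ∀ χ (i : ZMod q), ¬ p ∣ i.val →
      ∑ ψ, gam ω (fun j => (n χ ψ j : ℤ)) i * conj (gam ω (fun j => (n χ ψ j : ℤ)) i) = 1 := by
    intro χ i hi
    simp only [hgam]
    rw [← hcyc'.parseval E hE hEirr hinjE hsurjE (hF χ) ((hunit i).mpr hi), horth χ χ i ((hunit i).mpr hi), if_pos rfl]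
  have hmain := fun χ => one_nonzero_term hcyc.prim (fun ψ j => (n χ ψ j : ℤ)) (hnorm χ)
  choose f hf1 hf2 using hmain
  have h1unit : IsUnit (1 : ZMod q) := isUnit_one
  have hval1 : (1 : ZMod q).val = 1 := ZMod.val_one'' (by rw [hq]; exact (Nat.one_lt_pow (Nat.succ_ne_zero k) hp.one_lt).ne')
  have hsingle : ∀ χ χ', cosetInner C' x' (F χ) (F χ') (1 : ZMod q) =
      cosetInner C' x' (F χ) (E (f χ)) (1 : ZMod q) * conj (cosetInner C' x' (F χ') (E (f χ)) (1 : ZMod q)) := by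
    intro χ χ'
    rw [hcyc'.parseval E hE hEirr hinjE hsurjE (hF χ) h1unit, sum_eq_single (f χ)]
    · intro ψ _ hψ
      rw [← hgam, (hf2 χ ψ hψ).1, zero_mul]
    · simp
  have hne : ∀ χ, cosetInner C' x' (F χ) (E (f χ)) (1 : ZMod q) ≠ 0 := fun χ h0 => by
    have := hsingle χ χ
    rw [horth χ χ 1 h1unit, if_pos rfl, h0, zero_mul] at this
    exact one_ne_zero this
  refine ⟨f, ⟨?_, ?_⟩, fun χ ψ => ⟨∑ j, n χ ψ j, by rw [← hzero]; push_cast; rfl, ?_, ?_⟩⟩
  · intro χ χ' hff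
    by_contra hcc
    have := hsingle χ χ'
    rw [horth χ χ' 1 h1unit, if_neg hcc] at this
    rcases mul_eq_zero.mp this.symm with h0 | h0
    · exact hne χ h0
    · rw [hff] at h0; exact hne χ' ((map_eq_zero (starRingEnd ℂ)).mp h0)
  · intro ψ
    let θ : G → ℂ := fun y => if hy : y ∈ N then E ψ ⟨y, hy⟩ else 0
    let Φ : G → ℂ := fun y => ∑ g : G, θ (g⁻¹ * y * g)
    have hΦ : IsClassFunction G Φ := fun y g => by
      refine Fintype.sum_equiv (Equiv.mulLeft g⁻¹) _ _ (fun a => ?_)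
      simp only [Equiv.coe_mulLeft]
      congr 1; group
    have hval : ∀ c : ↥C', Φ (((c : ↥N) : G) * x) = (Nat.card ↥N : ℂ) * E ψ (c * x') := by
      intro c
      set y := ((c : ↥N) : G) * x
      have hyN : y ∈ N := mul_mem (c : ↥N).2 hxN
      have hterm : ∀ g : G, θ (g⁻¹ * y * g) = if g ∈ N then E ψ (c * x') else 0 := by
        intro g
        by_cases hg : g ∈ N
        · rw [if_pos hg]
          simp only [θ, dif_pos (mul_mem (mul_mem (inv_mem hg) hyN) hg)]
          have := CfsgLib.Char.IsIrrCharacter.isClassFunction (hE ψ) (c * x') (⟨g, hg⟩⁻¹ : ↥N)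
          rw [← this]
          congr 1
          apply Subtype.ext
          simp [y, x', mul_assoc]
        · rw [if_neg hg]
          simp only [θ]
          rw [dif_neg]
          intro hgy
          apply hg
          obtain ⟨a, ha, b, hb, rfl⟩ := Subgroup.mem_sup_of_normal_left.mp (h.top ▸ Subgroup.mem_top g)
          have hbN : b ∈ N := Subgroup.mem_sup_right hb
          refine mul_mem ?_ hbN
          -- now `a⁻¹ y a ∈ N`
          have hy' : a⁻¹ * y * a ∈ N := by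
            have := mul_mem (mul_mem hbN hgy) (inv_mem hbN)
            convert this using 1; group
          have hCx : a⁻¹ * y * a * x⁻¹ ∈ C := by
            refine hcapN _ (mul_mem hy' (inv_mem hxN)) ((hcyc.ker _).mp ?_)
            have hl : lam a = 1 := (hcyc.ker _).mpr ha
            have hlc : lam (((c : ↥N) : G)) = 1 := (hcyc.ker _).mpr (h.C_le (Subgroup.mem_subgroupOf.mp c.2))
            simp [y, hl, hlc]
          exact hCN (inv_mem_iff.mp (h.disjoint (inv_mem ha) (Subgroup.mem_subgroupOf.mp c.2) hCx (by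
            rw [inv_inv, inv_mul_cancel_right])))
      simp only [Φ, hterm, ← sum_filter, sum_const, nsmul_eq_mul]
      rw [Nat.card_eq_fintype_card, Fintype.card_subtype]
    by_contra hψ
    push Not at hψ
    have hΦC : ∀ (φ : G → ℂ), IsClassFunction G φ → cosetInner K x Φ φ (1 : ZMod q) =
        (Nat.card ↥N : ℂ) * cosetInner C' x' (E ψ) (fun y : ↥N => φ y) (1 : ZMod q) := by
      intro φ hφ
      rw [htrans Φ φ hΦ hφ 1 h1unit, cosetInner, cosetInner, hval1]
      simp only [pow_one, Subgroup.coe_mul, mul_sum]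
      exact sum_congr rfl fun c _ => by rw [show ((x' : ↥N) : G) = x from rfl, hval c]; ring
    have hsum := hcyc.parseval X hX hXirr hinjX hsurjX hΦ (F' := Φ) h1unit
    have hrhs : ∑ χ, cosetInner K x Φ (X χ) (1 : ZMod q) * conj (cosetInner K x Φ (X χ) (1 : ZMod q)) = 0 := by
      refine sum_eq_zero fun χ _ => ?_
      rw [hΦC _ (CfsgLib.Char.IsIrrCharacter.isClassFunction (hX χ)),
        ← cosetInner_conj (F χ) (E ψ), ← hgam, (hf2 χ ψ (fun e => hψ χ e.symm)).1]
      simp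
    rw [hrhs, hΦC Φ hΦ] at hsum
    have hself : cosetInner C' x' (E ψ) (fun y : ↥N => Φ y) (1 : ZMod q) = (Nat.card ↥N : ℂ) := by
      have h1 : cosetInner C' x' (E ψ) (E ψ) (1 : ZMod q) = 1 := by
        rw [hcyc'.cosetInner_irr (hE ψ) (hE ψ), sum_eq_single (0 : ZMod q)]
        · rw [if_pos (funext fun g => by simp [lamPow_zero]), mul_zero, ZMod.val_zero, pow_zero]
        · intro j _ hj
          rw [if_neg fun e => hj ((hcyc'.restrict_irr_iff (hE ψ)).mp (hEirr ψ) j e)]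
        · simp
      rw [← mul_one (Nat.card ↥N : ℂ), ← h1, cosetInner, cosetInner, hval1]
      simp only [pow_one, Subgroup.coe_mul, mul_sum]
      exact sum_congr rfl fun c _ => by
        rw [show ((x' : ↥N) : G) = x from rfl, hval c, map_mul, Complex.conj_natCast]; ring
    rw [hself] at hsum
    exact mul_ne_zero (Nat.cast_ne_zero.mpr Nat.card_pos.ne') (Nat.cast_ne_zero.mpr Nat.card_pos.ne') hsum
  · rintro rfl
    have := (ZMod.intCast_eq_intCast_iff _ _ p).mpr (hf1 χ)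
    push_cast at this
    simpa using this
  · intro hψ
    have := (ZMod.intCast_zmod_eq_zero_iff_dvd _ p).mpr (hf2 χ ψ hψ).2
    push_cast at this
    simpa using this

end CfsgLib.GlaubermanCorr
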