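import Cfsg.Agent.GlaubermanCorr.Cyclotomic
import Cfsg.Agent.Char.Orthogonality
import Mathlib.GroupTheory.Index

/-!
# Orthogonality of characters on the cosets of a normal subgroup with cyclic quotient

For a linear character `lam` of `G` with kernel `K` and `lam x = ω`, the inner product of two
functions over the coset `K x ^ i` is the value at `ω ^ i` of the polynomial whose coefficients are
`⟨φ, lam ^ j * ψ⟩`. Hence a class function is expanded on a coset by the extensions of the invariant
irreducible characters of `K`.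
-/

namespace CfsgLib.GlaubermanCorr

open Finset Cfsg
open scoped ComplexConjugate

variable {G : Type*} [Group G] [Fintype G]

/-- `lam` is a linear character with kernel `K`, sending the generator `x` of `G` modulo `K` to the
primitive `q`-th root of unity `ω`. -/
structure CycData (K : Subgroup G) (x : G) (q : ℕ) (lam : G →* ℂˣ) (ω : ℂ) : Prop where
  prim : IsPrimitiveRoot ω q
  apply_x : (lam x : ℂ) = ω
  ker : ∀ g, lam g = 1 ↔ g ∈ K
  gen : ∀ g, ∃ k ∈ K, ∃ i : ℕ, g = k * x ^ i

variable {K : Subgroup G} {x : G} {q : ℕ} [NeZero q] {lam : G →* ℂˣ} {ω : ℂ}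

theorem CycData.normal (h : CycData K x q lam ω) : K.Normal := by
  refine ⟨fun k hk g => (h.ker _).mp ?_⟩
  rw [map_mul, map_mul, (h.ker k).mpr hk, mul_one, map_inv, mul_inv_cancel]

/-- The powers of `lam`, indexed by `ZMod q`. -/
noncomputable def lamPow (lam : G →* ℂˣ) (j : ZMod q) (g : G) : ℂ := (lam g : ℂ) ^ j.val

theorem CycData.lam_pow_q (h : CycData K x q lam ω) (g : G) : (lam g : ℂ) ^ q = 1 := by
  obtain ⟨k, hk, i, rfl⟩ := h.gen g
  rw [map_mul, (h.ker k).mpr hk, one_mul, map_pow, Units.val_pow_eq_pow_val, h.apply_x, ← pow_mul,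
    mul_comm, pow_mul, h.prim.pow_eq_one, one_pow]

theorem CycData.exists_zmod (h : CycData K x q lam ω) (g : G) : ∃ a : ZMod q, (lam g : ℂ) = ω ^ a.val := by
  obtain ⟨k, hk, i, rfl⟩ := h.gen g
  refine ⟨(i : ZMod q), ?_⟩
  rw [map_mul, (h.ker k).mpr hk, one_mul, map_pow, Units.val_pow_eq_pow_val, h.apply_x,
    ZMod.val_natCast, ← pow_eq_pow_mod _ h.prim.pow_eq_one]

theorem CycData.lamPow_add (h : CycData K x q lam ω) (a b : ZMod q) (g : G) :
    lamPow lam (a + b) g = lamPow lam a g * lamPow lam b g :=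
  pow_val_add (h.lam_pow_q g) a b

theorem lamPow_zero (g : G) : lamPow lam (0 : ZMod q) g = 1 := by simp [lamPow]

theorem CycData.lamPow_of_mem (h : CycData K x q lam ω) (a : ZMod q) {k : G} (hk : k ∈ K) :
    lamPow lam a k = 1 := by simp [lamPow, (h.ker k).mpr hk]

theorem CycData.lamPow_norm (h : CycData K x q lam ω) (a : ZMod q) (g : G) :
    lamPow lam a g * conj (lamPow lam a g) = 1 := by
  rw [lamPow, conj_pow_val (h.lam_pow_q g), ← pow_val_add (h.lam_pow_q g), add_neg_cancel,
    ZMod.val_zero, pow_zero]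

/-- Multiplying an irreducible character by a power of `lam`. -/
theorem CycData.isIrr_twist (h : CycData K x q lam ω) (a : ZMod q) {η : G → ℂ}
    (hη : IsIrrCharacter G η) : IsIrrCharacter G (lamPow lam a * η) := by
  refine CfsgLib.Char.IsCharacter.isIrrCharacter_of_classInner_self
    (CfsgLib.Char.IsCharacter.mul ?_ (CfsgLib.Char.IsIrrCharacter.isCharacter hη)) ?_
  · have := CfsgLib.Char.isCharacter_ofHom (lam ^ a.val)
    convert this using 1
    ext g; simp [lamPow]
  · rw [← CfsgLib.Char.IsIrrCharacter.classInner_self hη, classInner, classInner]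
    congr 1
    refine sum_congr rfl fun g _ => ?_
    simp only [Pi.mul_apply, map_mul]
    rw [mul_mul_mul_comm, h.lamPow_norm, one_mul]

/-- The inner product over the coset `K x ^ i`. -/
noncomputable def cosetInner (K : Subgroup G) [Fintype ↥K] (x : G) (φ ψ : G → ℂ) (i : ZMod q) : ℂ :=
  (Fintype.card ↥K : ℂ)⁻¹ * ∑ k : ↥K, φ ((k : G) * x ^ i.val) * conj (ψ ((k : G) * x ^ i.val))

variable [Fintype ↥K]

theorem CycData.card_eq (h : CycData K x q lam ω) : Fintype.card G = q * Fintype.card ↥K := by
  classical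
  let e : ↥K × ZMod q → G := fun p => (p.1 : G) * x ^ p.2.val
  have : Function.Bijective e := by
    constructor
    · rintro ⟨k, i⟩ ⟨k', i'⟩ hp
      have hl := congrArg (fun g => (lam g : ℂ)) hp
      simp only [e, map_mul, (h.ker _).mpr k.2, (h.ker _).mpr k'.2, one_mul, map_pow,
        Units.val_pow_eq_pow_val, h.apply_x] at hl
      obtain rfl := ZMod.val_injective q (h.prim.pow_inj i.val_lt i'.val_lt hl)
      exact Prod.ext (Subtype.ext (mul_right_cancel hp)) rfl
    · intro g
      obtain ⟨k, hk, i, rfl⟩ := h.gen g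
      have hq : x ^ (i / q * q) ∈ K := (h.ker _).mp (Units.ext (by
        rw [map_pow, Units.val_pow_eq_pow_val, h.apply_x, mul_comm, pow_mul, h.prim.pow_eq_one, one_pow,
          Units.val_one]))
      refine ⟨(⟨k * x ^ (i / q * q), mul_mem hk hq⟩, (i : ZMod q)), ?_⟩
      simp only [e, ZMod.val_natCast, mul_assoc, ← pow_add, Nat.div_add_mod' i q]
  rw [← Fintype.card_congr (Equiv.ofBijective e this), Fintype.card_prod, ZMod.card, mul_comm]

/-- Fourier expansion of the inner product on a coset. -/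
theorem CycData.cosetInner_eq (h : CycData K x q lam ω) (φ ψ : G → ℂ) (i : ZMod q) :
    cosetInner K x φ ψ i = ∑ j : ZMod q, classInner φ (lamPow lam j * ψ) * ω ^ (i * j).val := by
  classical
  have hsum : ∀ g : G, ∑ j : ZMod q, conj (lamPow lam j g) * ω ^ (i * j).val =
      if (lam g : ℂ) = ω ^ i.val then (q : ℂ) else 0 := by
    intro g
    obtain ⟨a, ha⟩ := h.exists_zmod g
    have : ∀ j : ZMod q, conj (lamPow lam j g) * ω ^ (i * j).val = ω ^ (j * (i - a)).val := by
      intro j
      have e : ω ^ (a.val * j.val) = ω ^ (a * j).val := by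
        rw [ZMod.val_mul, ← pow_eq_pow_mod _ h.prim.pow_eq_one]
      rw [lamPow, ha, ← pow_mul, e, conj_pow_val h.prim.pow_eq_one, ← pow_val_add h.prim.pow_eq_one]
      congr 2; ring
    rw [sum_congr rfl (fun j _ => this j), sum_pow_val h.prim]
    refine if_congr ?_ rfl rfl
    rw [ha, sub_eq_zero]
    exact ⟨fun e => by rw [e], fun e => (ZMod.val_injective q (h.prim.pow_inj a.val_lt i.val_lt e)).symm⟩
  have hrhs : ∑ j : ZMod q, classInner φ (lamPow lam j * ψ) * ω ^ (i * j).val =
      (Nat.card G : ℂ)⁻¹ * ∑ g : G, if (lam g : ℂ) = ω ^ i.val then φ g * conj (ψ g) * q else 0 := by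
    simp only [classInner, Pi.mul_apply, map_mul, mul_assoc, sum_mul, mul_sum]
    rw [sum_comm]
    refine sum_congr rfl fun g _ => ?_
    rw [← mul_assoc]
    calc ∑ j : ZMod q, (Nat.card G : ℂ)⁻¹ * (φ g * (conj (lamPow lam j g) * (conj (ψ g) * ω ^ (i * j).val)))
        = ((Nat.card G : ℂ)⁻¹ * (φ g * conj (ψ g))) * ∑ j : ZMod q, conj (lamPow lam j g) * ω ^ (i * j).val := by
          rw [mul_sum]; exact sum_congr rfl fun j _ => by ring
      _ = _ := by rw [hsum]; split_ifs <;> ring
  rw [hrhs, ← sum_filter, ← sum_mul, cosetInner, Nat.card_eq_fintype_card, h.card_eq]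
  have hbij : ∑ g ∈ univ.filter (fun g : G => (lam g : ℂ) = ω ^ i.val), φ g * conj (ψ g) =
      ∑ k : ↥K, φ ((k : G) * x ^ i.val) * conj (ψ ((k : G) * x ^ i.val)) := by
    symm
    refine Finset.sum_bij (fun k _ => (k : G) * x ^ i.val) (fun k _ => ?_)
      (fun k _ k' _ e => Subtype.ext (mul_right_cancel e)) (fun g hg => ?_) (fun _ _ => rfl)
    · simp [(h.ker _).mpr k.2, h.apply_x]
    · refine ⟨⟨g * (x ^ i.val)⁻¹, (h.ker _).mp (Units.ext ?_)⟩, mem_univ _, inv_mul_cancel_right g _⟩
      rw [map_mul, Units.val_mul, (mem_filter.mp hg).2, map_inv, map_pow, Units.val_inv_eq_inv_val,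
        Units.val_pow_eq_pow_val, h.apply_x, Units.val_one]
      exact mul_inv_cancel₀ (pow_ne_zero _ (h.prim.ne_zero (NeZero.ne q)))
  rw [hbij]
  have hq : (q : ℂ) ≠ 0 := Nat.cast_ne_zero.mpr (NeZero.ne q)
  push_cast
  field_simp

/-- At `i = 0` the coset inner product is the inner product of the restrictions. -/
theorem cosetInner_zero (φ ψ : G → ℂ) :
    cosetInner K x φ ψ (0 : ZMod q) = classInner (fun k : ↥K => φ k) (fun k : ↥K => ψ k) := by
  simp [cosetInner, classInner, Nat.card_eq_fintype_card]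

theorem cosetInner_conj (φ ψ : G → ℂ) (i : ZMod q) :
    conj (cosetInner K x φ ψ i) = cosetInner K x ψ φ i := by
  simp [cosetInner, map_sum, mul_comm]

theorem cosetInner_sum_left {ι : Type*} (s : Finset ι) (c : ι → ℂ) (f : ι → G → ℂ) (ψ : G → ℂ)
    (i : ZMod q) : cosetInner K x (∑ a ∈ s, c a • f a) ψ i = ∑ a ∈ s, c a * cosetInner K x (f a) ψ i := by
  simp only [cosetInner, Finset.sum_apply, Pi.smul_apply, smul_eq_mul, sum_mul, mul_sum]
  rw [sum_comm]
  exact sum_congr rfl fun a _ => sum_congr rfl fun k _ => by ring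

theorem CycData.cosetInner_twist (h : CycData K x q lam ω) (a : ZMod q) (φ ψ : G → ℂ) (i : ZMod q) :
    cosetInner K x (lamPow lam a * φ) ψ i = ω ^ (a * i).val * cosetInner K x φ ψ i := by
  simp only [cosetInner, mul_sum]
  refine sum_congr rfl fun k _ => ?_
  have : lamPow lam a ((k : G) * x ^ i.val) = ω ^ (a * i).val := by
    rw [lamPow, map_mul, (h.ker _).mpr k.2, one_mul, map_pow, Units.val_pow_eq_pow_val, h.apply_x, ← pow_mul,
      ZMod.val_mul, ← pow_eq_pow_mod _ h.prim.pow_eq_one, mul_comm i.val]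
  rw [Pi.mul_apply, this]; ring

open scoped Classical in
/-- The coefficients of two irreducible characters on the cosets. -/
theorem CycData.cosetInner_irr (h : CycData K x q lam ω) {η η' : G → ℂ} (hη : IsIrrCharacter G η)
    (hη' : IsIrrCharacter G η') (i : ZMod q) :
    cosetInner K x η η' i = ∑ j : ZMod q, if η = lamPow lam j * η' then ω ^ (i * j).val else 0 := by
  rw [h.cosetInner_eq]
  refine sum_congr rfl fun j _ => ?_
  rw [CfsgLib.Char.IsIrrCharacter.classInner_eq hη (h.isIrr_twist j hη')]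
  split_ifs <;> simp

/-- An irreducible character with reducible restriction vanishes on the cosets of generators. -/
theorem CycData.vanish_of_reducible (h : CycData K x q lam ω) {η : G → ℂ} (hη : IsIrrCharacter G η)
    {a : ZMod q} (ha : a ≠ 0) (hfix : η = lamPow lam a * η) {i : ZMod q} (hi : IsUnit i) (k : ↥K) :
    η ((k : G) * x ^ i.val) = 0 := by
  classical
  set S := cosetInner K x η η i with hS
  have h1 : S = ω ^ (a * i).val * S := by
    conv_lhs => rw [hS]; arg 3; rw [hfix]
    exact h.cosetInner_twist a η η i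
  have hne : ω ^ (a * i).val ≠ 1 := by
    refine h.prim.pow_ne_one_of_pos_of_lt (fun e => ha ?_) (ZMod.val_lt _)
    exact hi.mul_left_eq_zero.mp ((ZMod.val_eq_zero _).mp e)
  have h0 : S = 0 := by
    have : (1 - ω ^ (a * i).val) * S = 0 := by rw [sub_mul, one_mul, ← h1, sub_self]
    exact (mul_eq_zero.mp this).resolve_left (sub_ne_zero.mpr hne.symm)
  have h2 : ∑ k : ↥K, ‖η ((k : G) * x ^ i.val)‖ ^ 2 = 0 := by
    have : ((∑ k : ↥K, ‖η ((k : G) * x ^ i.val)‖ ^ 2 : ℝ) : ℂ) = 0 := by
      have h3 : (Fintype.card ↥K : ℂ)⁻¹ * ∑ k : ↥K, η ((k : G) * x ^ i.val) * conj (η ((k : G) * x ^ i.val)) = 0 :=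
        h0
      rw [mul_eq_zero] at h3
      push_cast
      simp only [← Complex.mul_conj']
      exact h3.resolve_left (inv_ne_zero (Nat.cast_ne_zero.mpr Fintype.card_ne_zero))
    exact_mod_cast this
  simpa using (sum_eq_zero_iff_of_nonneg fun k _ => by positivity).mp h2 k (mem_univ _)

/-- An irreducible character has irreducible restriction iff no power of `lam` fixes it. -/
theorem CycData.restrict_irr_iff (h : CycData K x q lam ω) {η : G → ℂ} (hη : IsIrrCharacter G η) :
    IsIrrCharacter ↥K (fun k : ↥K => η k) ↔ ∀ a : ZMod q, η = lamPow lam a * η → a = 0 := by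
  classical
  have hnorm : classInner (fun k : ↥K => η k) (fun k : ↥K => η k) =
      ((univ.filter fun j : ZMod q => η = lamPow lam j * η).card : ℂ) := by
    rw [← cosetInner_zero (q := q) (x := x), h.cosetInner_irr hη hη]
    simp [sum_boole]
  have h0 : η = lamPow lam (0 : ZMod q) * η := by ext g; simp [lamPow_zero]
  constructor
  · intro hirr a ha
    rw [CfsgLib.Char.IsIrrCharacter.classInner_self hirr, ← Nat.cast_one, Nat.cast_inj] at hnorm
    exact card_le_one.mp hnorm.symm.le a (by simp [← ha]) 0 (by simp [← h0])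
  · intro hall
    refine CfsgLib.Char.IsCharacter.isIrrCharacter_of_classInner_self
      (CfsgLib.Char.IsCharacter.restrict (CfsgLib.Char.IsIrrCharacter.isCharacter hη) K) ?_
    rw [hnorm, show (univ.filter fun j : ZMod q => η = lamPow lam j * η) = {0} from ?_]
    · simp
    · ext a
      simp only [mem_filter, mem_univ, true_and, mem_singleton]
      exact ⟨hall a, fun e => e ▸ h0⟩

/-- Two extensions of one irreducible character of `K` differ by a power of `lam`. -/
theorem CycData.exists_twist (h : CycData K x q lam ω) {η η' : G → ℂ} (hη : IsIrrCharacter G η)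
    (hη' : IsIrrCharacter G η') (hirr : IsIrrCharacter ↥K (fun k : ↥K => η k))
    (he : ∀ k : ↥K, η k = η' k) : ∃ j : ZMod q, η = lamPow lam j * η' := by
  classical
  by_contra hno
  push Not at hno
  have h1 : cosetInner K x η η' (0 : ZMod q) = 1 := by
    rw [cosetInner_zero, show (fun k : ↥K => η' k) = (fun k : ↥K => η k) from funext fun k => (he k).symm]
    exact CfsgLib.Char.IsIrrCharacter.classInner_self hirr
  rw [h.cosetInner_irr hη hη'] at h1
  simp [hno] at h1

/-- Parseval on a coset of generators, in terms of a system of extensions `E`. -/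
theorem CycData.parseval (h : CycData K x q lam ω) {R : Type*} [Fintype R] (E : R → G → ℂ)
    (hE : ∀ r, IsIrrCharacter G (E r)) (hEirr : ∀ r, IsIrrCharacter ↥K (fun k : ↥K => E r k))
    (hinj : ∀ r r', (∀ k : ↥K, E r k = E r' k) → r = r')
    (hsurj : ∀ η, IsIrrCharacter G η → IsIrrCharacter ↥K (fun k : ↥K => η k) → ∃ r, ∀ k : ↥K, η k = E r k)
    {F F' : G → ℂ} (hF : IsClassFunction G F) {i : ZMod q} (hi : IsUnit i) :
    cosetInner K x F F' i = ∑ r, cosetInner K x F (E r) i * conj (cosetInner K x F' (E r) i) := by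
  classical
  conv_lhs => rw [CfsgLib.Char.eq_sum_irr hF]
  rw [cosetInner_sum_left]
  set T := (CfsgLib.Char.irrFinset G).filter (fun η => IsIrrCharacter ↥K (fun k : ↥K => η k))
  rw [← sum_filter_add_sum_filter_not _ (fun η => IsIrrCharacter ↥K (fun k : ↥K => η k))]
  have hzero : ∑ η ∈ (CfsgLib.Char.irrFinset G).filter (fun η => ¬ IsIrrCharacter ↥K (fun k : ↥K => η k)),
      classInner F η * cosetInner K x η F' i = 0 := by
    refine sum_eq_zero fun η hη => ?_
    rw [mem_filter, CfsgLib.Char.mem_irrFinset] at hη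
    obtain ⟨a, ha, ha0⟩ : ∃ a : ZMod q, η = lamPow lam a * η ∧ a ≠ 0 := by
      by_contra hc; push Not at hc
      exact hη.2 ((h.restrict_irr_iff hη.1).mpr hc)
    have : cosetInner K x η F' i = 0 := by
      simp [cosetInner, h.vanish_of_reducible hη.1 ha0 ha hi]
    rw [this, mul_zero]
  rw [hzero, add_zero]
  have hbij : ∑ η ∈ T, classInner F η * cosetInner K x η F' i =
      ∑ p : R × ZMod q, classInner F (lamPow lam p.2 * E p.1) * cosetInner K x (lamPow lam p.2 * E p.1) F' i := by
    symm
    refine Finset.sum_bij (fun p _ => lamPow lam p.2 * E p.1) (fun p _ => ?_) ?_ ?_ (fun _ _ => rfl)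
    · simp only [T, mem_filter, CfsgLib.Char.mem_irrFinset]
      refine ⟨h.isIrr_twist _ (hE _), ?_⟩
      convert hEirr p.1 using 1
      ext k; simp [h.lamPow_of_mem _ k.2]
    · rintro ⟨r, j⟩ _ ⟨r', j'⟩ _ e
      have hrr : r = r' := hinj r r' fun k => by
        simpa [h.lamPow_of_mem _ k.2] using congrFun e (k : G)
      subst hrr
      have hz : E r = lamPow lam (j' - j) * E r := by
        ext g
        have h1 := congrFun e g
        simp only [Pi.mul_apply] at h1 ⊢
        rw [sub_eq_add_neg, add_comm, h.lamPow_add, mul_assoc, ← h1, ← mul_assoc, ← h.lamPow_add, neg_add_cancel,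
          lamPow_zero, one_mul]
      have := ((h.restrict_irr_iff (hE r)).mp (hEirr r)) _ hz
      rw [sub_eq_zero.mp this]
    · intro η hη
      simp only [T, mem_filter, CfsgLib.Char.mem_irrFinset] at hη
      obtain ⟨r, hr⟩ := hsurj η hη.1 hη.2
      obtain ⟨j, hj⟩ := h.exists_twist hη.1 (hE r) hη.2 hr
      exact ⟨(r, j), mem_univ _, hj.symm⟩
  rw [hbij, Fintype.sum_prod_type]
  refine sum_congr rfl fun r _ => ?_
  rw [h.cosetInner_eq F (E r) i, cosetInner_conj, sum_mul]
  refine sum_congr rfl fun j _ => ?_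
  rw [h.cosetInner_twist, mul_comm i j]
  ring

end CfsgLib.GlaubermanCorr
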