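import Mathlib.GroupTheory.Sylow
import Mathlib.GroupTheory.QuotientGroup.Basic
import Mathlib.GroupTheory.Index
import Mathlib.Algebra.BigOperators.Group.Finset.Basic
import Mathlib.Data.Nat.ModEq
import Mathlib.Data.Nat.GCD.Basic
import Mathlib.Analysis.Complex.Basic
import Cfsg.Agent.Solvable.Basics

/-!
# A coset of a normal subgroup covered by conjugates of the coset of a centralizer

`Q ≤ K` are normal with `[K : Q]` prime to `p`, `x` is a `p`-element and `G = K⟨x⟩`. With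
`C = {k ∈ K : [x, k] ∈ Q}` every element of `Kx` is `K`-conjugate into `Cx`, and two elements of `Cx`
are conjugate only by elements of `C`.
-/

namespace CfsgLib.GlaubermanCorr

variable {G : Type*} [Group G] [Finite G]

/-- Commuting elements of coprime orders are powers of their product. -/
theorem exists_pow_mul_eq {H : Type*} [Group H] {a b : H} (hab : Commute a b) {A B : ℕ}
    (ha : a ^ A = 1) (hb : b ^ B = 1) (hco : Nat.Coprime A B) :
    ∃ s : ℕ, a = (a * b) ^ s := by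
  obtain ⟨s, hs1, hs2⟩ := Nat.chineseRemainder hco 1 0
  refine ⟨s, ?_⟩
  rw [hab.mul_pow, pow_eq_pow_of_modEq hs1 ha, pow_eq_pow_of_modEq hs2 hb, pow_one, pow_zero, mul_one]

variable (p : ℕ) [Fact p.Prime] (K Q : Subgroup G) [K.Normal] [Q.Normal]

/-- The hypotheses shared by the results of this file. -/
structure Setup (x : G) (C : Subgroup G) : Prop where
  le : Q ≤ K
  not_dvd : ¬ p ∣ Q.relIndex K
  pelem : ∃ e : ℕ, x ^ p ^ e = 1
  top : K ⊔ Subgroup.zpowers x = ⊤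
  memC : ∀ k : G, k ∈ C ↔ k ∈ K ∧ x * k * x⁻¹ * k⁻¹ ∈ Q

variable {p K Q}
variable {x : G} {C : Subgroup G}

theorem Setup.C_le (h : Setup p K Q x C) : C ≤ K := fun _ hk => ((h.memC _).mp hk).1

theorem Setup.Q_le_C (h : Setup p K Q x C) : Q ≤ C := fun q hq =>
  (h.memC q).mpr ⟨h.le hq, mul_mem (‹Q.Normal›.conj_mem q hq x) (inv_mem hq)⟩

theorem Setup.memC_iff (h : Setup p K Q x C) (k : G) :
    k ∈ C ↔ k ∈ K ∧ Commute (QuotientGroup.mk x : G ⧸ Q) (QuotientGroup.mk k) := by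
  rw [h.memC, ← QuotientGroup.eq_one_iff (N := Q)]
  refine and_congr_right fun _ => ?_
  simp only [QuotientGroup.mk_mul, QuotientGroup.mk_inv, Commute, SemiconjBy]
  rw [mul_inv_eq_one, mul_inv_eq_iff_eq_mul]

theorem Setup.pow_relIndex_mem (h : Setup p K Q x C) {k : G} (hk : k ∈ K) : k ^ Q.relIndex K ∈ Q := by
  exact Subgroup.pow_index_mem (Q.subgroupOf K) (⟨k, hk⟩ : ↥K)

theorem Setup.coprime (h : Setup p K Q x C) (e : ℕ) : Nat.Coprime (p ^ e) (Q.relIndex K) :=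
  Nat.Coprime.pow_left e ((Fact.out : p.Prime).coprime_iff_not_dvd.mpr h.not_dvd)

/-- A `p`-element of `K` lies in `Q`. -/
theorem Setup.mem_Q (h : Setup p K Q x C) {k : G} (hk : k ∈ K) {e : ℕ} (he : k ^ p ^ e = 1) :
    k ∈ Q := by
  rw [← QuotientGroup.eq_one_iff]
  have h1 : (QuotientGroup.mk k : G ⧸ Q) ^ p ^ e = 1 := by rw [← QuotientGroup.mk_pow, he, QuotientGroup.mk_one]
  have h2 : (QuotientGroup.mk k : G ⧸ Q) ^ Q.relIndex K = 1 := by
    rw [← QuotientGroup.mk_pow, QuotientGroup.eq_one_iff]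
    exact h.pow_relIndex_mem hk
  exact orderOf_eq_one_iff.mp (Nat.eq_one_of_dvd_coprimes (h.coprime e)
    (orderOf_dvd_of_pow_eq_one h1) (orderOf_dvd_of_pow_eq_one h2))

/-- Every element of `Kx` is conjugate by an element of `K` into `Cx`. -/
theorem Setup.cover (h : Setup p K Q x C) {k : G} (hk : k ∈ K) :
    ∃ a ∈ K, ∃ c ∈ C, a * (k * x) * a⁻¹ = c * x := by
  have hp : p.Prime := Fact.out
  set y := k * x
  obtain ⟨f, m, hm, hN⟩ := Nat.exists_eq_pow_mul_and_not_dvd (orderOf_pos y).ne' p hp.ne_one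
  obtain ⟨s, hs1, hs2⟩ := Nat.chineseRemainder (Nat.Coprime.pow_left f (hp.coprime_iff_not_dvd.mpr hm)) 1 0
  set u := y ^ s
  set v := u⁻¹ * y
  have hu : u ^ p ^ f = 1 := by
    rw [← pow_mul, ← orderOf_dvd_iff_pow_eq_one, hN, mul_comm s]
    exact Nat.mul_dvd_mul_left _ (Nat.modEq_zero_iff_dvd.mp hs2)
  have hv : v ^ m = 1 := by
    have hc : Commute u⁻¹ y := ((Commute.refl y).pow_left s).inv_left
    rw [hc.mul_pow, inv_pow, inv_mul_eq_one, ← pow_mul]
    apply pow_eq_pow_iff_modEq.mpr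
    rw [hN]
    exact Nat.ModEq.mul_right' m hs1 |>.trans (by rw [one_mul])
  -- `v` lies in `K`
  have hvK : v ∈ K := by
    obtain ⟨e, he⟩ := h.pelem
    have hsurj : ∀ z : G ⧸ K, z ^ p ^ e = 1 := by
      intro z
      induction z using QuotientGroup.induction_on with
      | H z =>
        obtain ⟨a, ha, b, hb, rfl⟩ := Subgroup.mem_sup_of_normal_left.mp (h.top ▸ Subgroup.mem_top z)
        obtain ⟨i, rfl⟩ := Subgroup.mem_zpowers_iff.mp hb
        rw [QuotientGroup.mk_mul, (QuotientGroup.eq_one_iff a).mpr ha, one_mul, ← QuotientGroup.mk_pow,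
          ← zpow_natCast, ← zpow_mul, mul_comm, zpow_mul, zpow_natCast, he, one_zpow, QuotientGroup.mk_one]
    rw [← QuotientGroup.eq_one_iff]
    exact orderOf_eq_one_iff.mp (Nat.eq_one_of_dvd_coprimes (Nat.Coprime.pow_left e (hp.coprime_iff_not_dvd.mpr hm))
      (orderOf_dvd_of_pow_eq_one (hsurj _)) (orderOf_dvd_of_pow_eq_one (by rw [← QuotientGroup.mk_pow, hv, QuotientGroup.mk_one])))
  -- a Sylow subgroup containing `Q` and `x`
  set X := Subgroup.zpowers x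
  have hX : IsPGroup p X := by
    obtain ⟨e, he⟩ := h.pelem
    intro z
    obtain ⟨i, hi⟩ := Subgroup.mem_zpowers_iff.mp z.2
    refine ⟨e, Subtype.ext ?_⟩
    rw [Subgroup.coe_pow, Subgroup.coe_one, ← hi, ← zpow_natCast, ← zpow_mul, mul_comm, zpow_mul,
      zpow_natCast, he, one_zpow]
  obtain ⟨P₁, hP₁⟩ := hX.exists_le_sylow
  have hP₁le : (P₁ : Subgroup G) ≤ Q ⊔ X := fun z hz => by
    obtain ⟨a, ha, b, hb, rfl⟩ := Subgroup.mem_sup_of_normal_left.mp (h.top ▸ Subgroup.mem_top z)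
    have haP : a ∈ (P₁ : Subgroup G) := by simpa using mul_mem hz (inv_mem (hP₁ hb))
    obtain ⟨i, hi⟩ := P₁.isPGroup' ⟨a, haP⟩
    exact mul_mem (Subgroup.mem_sup_left (h.mem_Q ha (e := i) (congrArg Subtype.val hi))) (Subgroup.mem_sup_right hb)
  have hUp : IsPGroup p (Subgroup.zpowers u) := by
    intro z
    obtain ⟨i, hi⟩ := Subgroup.mem_zpowers_iff.mp z.2
    refine ⟨f, Subtype.ext ?_⟩
    rw [Subgroup.coe_pow, Subgroup.coe_one, ← hi, ← zpow_natCast, ← zpow_mul, mul_comm, zpow_mul,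
      zpow_natCast, hu, one_zpow]
  obtain ⟨P₂, hP₂⟩ := hUp.exists_le_sylow
  obtain ⟨g, hg⟩ := MulAction.exists_smul_eq G P₂ P₁
  have hgu : g * u * g⁻¹ ∈ Q ⊔ X := by
    have : MulAut.conj g u ∈ (P₁ : Subgroup G) := by
      rw [← hg]
      exact ⟨u, hP₂ (Subgroup.mem_zpowers u), rfl⟩
    exact hP₁le this
  obtain ⟨a₁, ha₁, b, hb, rfl⟩ := Subgroup.mem_sup_of_normal_left.mp (h.top ▸ Subgroup.mem_top g)
  -- `a = b⁻¹ (a₁) b` lies in `K`
  set a := b⁻¹ * a₁ * b
  have haK : a ∈ K := by simpa [a] using ‹K.Normal›.conj_mem a₁ ha₁ b⁻¹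
  have hau : a * u * a⁻¹ ∈ Q ⊔ X := by
    have hbX : b ∈ Q ⊔ X := Subgroup.mem_sup_right hb
    have := mul_mem (mul_mem (inv_mem hbX) hgu) hbX
    convert this using 1
    simp only [a]; group
  obtain ⟨q, hq, z, hz, hqz⟩ := Subgroup.mem_sup_of_normal_left.mp hau
  have huv : u * v = y := by simp [v]
  have hcomm : Commute u v := by
    have h1 : Commute u y := (Commute.refl y).pow_left s
    exact (Commute.refl u).inv_right.mul_right h1
  set v' := a * v * a⁻¹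
  have hv'K : v' ∈ K := ‹K.Normal›.conj_mem v hvK a
  -- `z ≡ x` modulo `Q`
  have hzx : z * x⁻¹ ∈ Q := by
    have hK : z * x⁻¹ ∈ K := by
      rw [← QuotientGroup.eq_one_iff, QuotientGroup.mk_mul, QuotientGroup.mk_inv, mul_inv_eq_one]
      have e1 := congrArg (QuotientGroup.mk : G → G ⧸ K) hqz
      simp only [QuotientGroup.mk_mul, (QuotientGroup.eq_one_iff q).mpr (h.le hq), one_mul,
        QuotientGroup.mk_inv, (QuotientGroup.eq_one_iff a).mpr haK, inv_one, mul_one] at e1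
      have e2 := congrArg (QuotientGroup.mk : G → G ⧸ K) huv
      simp only [y, QuotientGroup.mk_mul, (QuotientGroup.eq_one_iff k).mpr hk, one_mul,
        (QuotientGroup.eq_one_iff v).mpr hvK, mul_one] at e2
      rw [e1, e2]
    have hzX : z * x⁻¹ ∈ X := mul_mem hz (inv_mem (Subgroup.mem_zpowers x))
    obtain ⟨i, hi⟩ := hX ⟨_, hzX⟩
    exact h.mem_Q hK (e := i) (congrArg Subtype.val hi)
  set q' := q * (z * x⁻¹)
  have hq' : q' ∈ Q := mul_mem hq hzx
  have hu' : a * u * a⁻¹ = q' * x := by rw [← hqz]; simp [q', mul_assoc]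
  have hcu : Commute (QuotientGroup.mk x : G ⧸ Q) (QuotientGroup.mk v') := by
    have := (hcomm.map (MulAut.conj a)).map (QuotientGroup.mk' Q)
    simp only [MulAut.conj_apply, QuotientGroup.mk'_apply, hu', QuotientGroup.mk_mul,
      (QuotientGroup.eq_one_iff q').mpr hq', one_mul] at this
    exact this
  refine ⟨a, haK, q' * (x * v' * x⁻¹), ?_, ?_⟩
  · rw [h.memC_iff]
    refine ⟨mul_mem (h.le hq') (‹K.Normal›.conj_mem v' hv'K x), ?_⟩
    simp only [QuotientGroup.mk_mul, QuotientGroup.mk_inv, (QuotientGroup.eq_one_iff q').mpr hq', one_mul,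
      hcu.eq, mul_inv_cancel_right]
    exact hcu
  · calc a * y * a⁻¹ = (a * u * a⁻¹) * v' := by rw [← huv]; simp only [v']; group
      _ = _ := by rw [hu']; group

/-- Conjugation between elements of `Cx` is realized only inside `C`. -/
theorem Setup.disjoint (h : Setup p K Q x C) {a c c' : G} (ha : a ∈ K) (hc : c ∈ C) (hc' : c' ∈ C)
    (e : a * (c * x) * a⁻¹ = c' * x) : a ∈ C := by
  rw [h.memC_iff]
  refine ⟨ha, ?_⟩
  obtain ⟨f, hf⟩ := h.pelem
  have hx : (QuotientGroup.mk x : G ⧸ Q) ^ p ^ f = 1 := by rw [← QuotientGroup.mk_pow, hf, QuotientGroup.mk_one]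
  have hord : ∀ {c : G}, c ∈ C → (QuotientGroup.mk c : G ⧸ Q) ^ Q.relIndex K = 1 := fun hc => by
    rw [← QuotientGroup.mk_pow, QuotientGroup.eq_one_iff]
    exact h.pow_relIndex_mem (h.C_le hc)
  obtain ⟨-, hxc⟩ := (h.memC_iff c).mp hc
  obtain ⟨-, hxc'⟩ := (h.memC_iff c').mp hc'
  obtain ⟨s, hs1, hs2⟩ := Nat.chineseRemainder (h.coprime f) 1 0
  have hpart : ∀ {d : G ⧸ Q}, Commute (QuotientGroup.mk x : G ⧸ Q) d → d ^ Q.relIndex K = 1 →
      (QuotientGroup.mk x : G ⧸ Q) = (d * QuotientGroup.mk x) ^ s := fun hd hd1 => by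
    rw [hd.symm.mul_pow, pow_eq_pow_of_modEq hs2 hd1, pow_eq_pow_of_modEq hs1 hx, pow_zero, pow_one, one_mul]
  have e' : (QuotientGroup.mk a : G ⧸ Q) * (QuotientGroup.mk c * QuotientGroup.mk x) * (QuotientGroup.mk a)⁻¹ =
      QuotientGroup.mk c' * QuotientGroup.mk x := congrArg (QuotientGroup.mk : G → G ⧸ Q) e
  have := congrArg (· ^ s) e'
  simp only [conj_pow, ← hpart hxc (hord hc), ← hpart hxc' (hord hc')] at this
  exact (mul_inv_eq_iff_eq_mul.mp this).symm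

/-- Sums of `K`-invariant functions over `Kx` reduce to sums over `Cx`. -/
theorem Setup.sum_coset (h : Setup p K Q x C) [Fintype ↥K] [Fintype ↥C] (f : G → ℂ)
    (hf : ∀ a ∈ K, ∀ y, f (a * y * a⁻¹) = f y) :
    (Fintype.card ↥K : ℂ)⁻¹ * ∑ k : ↥K, f (k * x) = (Fintype.card ↥C : ℂ)⁻¹ * ∑ c : ↥C, f (c * x) := by
  classical
  have hmap : ∀ p : ↥K × ↥C, (p.1 : G) * (p.2 * x) * (p.1 : G)⁻¹ * x⁻¹ ∈ K := fun p => by
    have h2 := mul_mem p.1.2 (h.C_le p.2.2)
    have h3 := ‹K.Normal›.conj_mem _ (inv_mem p.1.2) x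
    convert mul_mem h2 h3 using 1
    group
  let φ : ↥K × ↥C → ↥K := fun p => ⟨_, hmap p⟩
  have hfib : ∀ k : ↥K, (Finset.univ.filter (fun p => φ p = k)).card = Fintype.card ↥C := by
    intro k
    obtain ⟨a, ha, c, hc, hac⟩ := h.cover k.2
    rw [← Finset.card_univ]
    have hφ : ∀ d : ↥C, ∃ c₁ : ↥C, φ (⟨a⁻¹ * d, mul_mem (inv_mem ha) (h.C_le d.2)⟩, c₁) = k := fun d => by
      refine ⟨⟨(d : G)⁻¹ * c * (x * d * x⁻¹), mul_mem (mul_mem (inv_mem d.2) hc) ?_⟩, Subtype.ext ?_⟩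
      · have : x * d * x⁻¹ = (x * d * x⁻¹ * (d : G)⁻¹) * d := by group
        rw [this]
        exact mul_mem (h.Q_le_C ((h.memC d).mp d.2).2) d.2
      · have hk : (k : G) = a⁻¹ * (c * x) * a * x⁻¹ := by rw [← hac]; group
        simp only [φ, hk]; group
    choose c₁ hc₁ using hφ
    refine (Finset.card_bij (fun d _ => (⟨a⁻¹ * d, mul_mem (inv_mem ha) (h.C_le d.2)⟩, c₁ d))
      (fun d _ => by simp [hc₁]) (fun d _ d' _ e => Subtype.ext (by simpa using congrArg (fun p => (p.1 : G)) e))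
      (fun q hq => ?_)).symm
    have hq' := congrArg Subtype.val (Finset.mem_filter.mp hq).2
    simp only [φ, mul_inv_eq_iff_eq_mul] at hq'
    have hd : a * (q.1 : G) ∈ C := h.disjoint (c := (q.2 : G)) (c' := c) (mul_mem ha q.1.2) q.2.2 hc (by
      rw [← hac, show a * (q.1 : G) * ((q.2 : G) * x) * (a * (q.1 : G))⁻¹ =
        a * ((q.1 : G) * ((q.2 : G) * x) * (q.1 : G)⁻¹) * a⁻¹ by group, hq', mul_inv_cancel_right])
    refine ⟨⟨_, hd⟩, Finset.mem_univ _, Prod.ext (Subtype.ext (by simp)) (Subtype.ext ?_)⟩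
    have h2 := congrArg Subtype.val (hc₁ ⟨_, hd⟩)
    simp only [φ, mul_inv_eq_iff_eq_mul, inv_mul_cancel_left] at h2
    rw [← hq'] at h2
    simpa using h2
  have hsum : ∑ p : ↥K × ↥C, f ((φ p : G) * x) = (Fintype.card ↥C : ℂ) * ∑ k : ↥K, f (k * x) := by
    rw [← Finset.sum_fiberwise (g := φ), Finset.mul_sum]
    refine Finset.sum_congr rfl fun k _ => ?_
    rw [Finset.sum_congr rfl (g := fun _ => f ((k : G) * x)) (fun p hp => by rw [(Finset.mem_filter.mp hp).2]),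
      Finset.sum_const, hfib, nsmul_eq_mul]
  have hsum' : ∑ p : ↥K × ↥C, f ((φ p : G) * x) = (Fintype.card ↥K : ℂ) * ∑ c : ↥C, f (c * x) := by
    rw [Fintype.sum_prod_type, Finset.sum_congr rfl (g := fun _ => ∑ c : ↥C, f (c * x)) (fun a _ => ?_),
      Finset.sum_const, Finset.card_univ, nsmul_eq_mul]
    refine Finset.sum_congr rfl fun c _ => ?_
    simp only [φ, inv_mul_cancel_right]
    exact hf a a.2 _
  have hK : (Fintype.card ↥K : ℂ) ≠ 0 := Nat.cast_ne_zero.mpr Fintype.card_ne_zero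
  have hC : (Fintype.card ↥C : ℂ) ≠ 0 := Nat.cast_ne_zero.mpr Fintype.card_ne_zero
  rw [hsum'] at hsum
  field_simp
  linear_combination -hsum

end CfsgLib.GlaubermanCorr
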