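import Mathlib.Analysis.Complex.Basic
import Mathlib.RingTheory.RootsOfUnity.Complex
import Mathlib.Data.ZMod.Basic
import Mathlib.Algebra.Field.GeomSum
import Mathlib.Tactic.Ring
import Mathlib.Tactic.Linarith
import Mathlib.Tactic.FieldSimp

/-!
# A norm one combination of `p`-power roots of unity has one nonzero term

If finitely many integer combinations `γ r` of `q`-th roots of unity (`q` a power of `p`) have
`∑ ‖γ r‖ ^ 2 = 1`, at every primitive root, then exactly one of them is nonzero; its coefficient sum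
is `±1` modulo `p`, and the coefficient sums of the others are divisible by `p`.
-/

namespace CfsgLib.GlaubermanCorr

open Finset
open scoped ComplexConjugate

/-- The sum of squared differences of an integer family. -/
def spread {ι : Type*} [Fintype ι] (a : ι → ℤ) : ℤ :=
  (Fintype.card ι : ℤ) * ∑ i, a i ^ 2 - (∑ i, a i) ^ 2

theorem two_mul_spread {ι : Type*} [Fintype ι] (a : ι → ℤ) :
    2 * spread a = ∑ i, ∑ j, (a i - a j) ^ 2 := by
  have : ∀ i j, (a i - a j) ^ 2 = a i ^ 2 + a j ^ 2 - 2 * (a i * a j) := fun i j => by ring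
  simp only [this, sum_sub_distrib, sum_add_distrib, sum_const, card_univ, nsmul_eq_mul, ← mul_sum,
    ← sum_mul, spread]
  ring

theorem spread_nonneg {ι : Type*} [Fintype ι] (a : ι → ℤ) : 0 ≤ spread a := by
  have := two_mul_spread a
  have h : (0 : ℤ) ≤ ∑ i, ∑ j, (a i - a j) ^ 2 :=
    sum_nonneg fun i _ => sum_nonneg fun j _ => sq_nonneg _
  omega

theorem spread_eq_zero_or_ge {ι : Type*} [Fintype ι] (a : ι → ℤ) :
    (∀ i j, a i = a j) ∨ (Fintype.card ι : ℤ) - 1 ≤ spread a := by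
  classical
  by_cases h : ∀ i j, a i = a j
  · exact Or.inl h
  right
  push Not at h
  obtain ⟨i₀, j₀, hij⟩ := h
  -- every `j` differs from `a i₀` or from `a j₀`
  have h2 : ∀ j, (1 : ℤ) ≤ (a i₀ - a j) ^ 2 + (a j₀ - a j) ^ 2 := by
    intro j
    by_contra hc
    push Not at hc
    have h3 := sq_nonneg (a i₀ - a j)
    have h4 := sq_nonneg (a j₀ - a j)
    have e1 : a i₀ - a j = 0 := pow_eq_zero_iff two_ne_zero |>.mp (by omega)
    have e2 : a j₀ - a j = 0 := pow_eq_zero_iff two_ne_zero |>.mp (by omega)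
    omega
  have hrow : (Fintype.card ι : ℤ) ≤ (∑ j, (a i₀ - a j) ^ 2) + ∑ j, (a j₀ - a j) ^ 2 := by
    rw [← sum_add_distrib]
    calc (Fintype.card ι : ℤ) = ∑ _j : ι, (1 : ℤ) := by simp
      _ ≤ _ := sum_le_sum fun j _ => h2 j
  have hne : i₀ ≠ j₀ := fun e => hij (e ▸ rfl)
  have hrest : ∀ i, i ≠ i₀ → i ≠ j₀ → (1 : ℤ) ≤ (a i - a i₀) ^ 2 + (a i - a j₀) ^ 2 := fun i _ _ => by
    have := h2 i
    nlinarith
  have hsplit : ∑ i, ∑ j, (a i - a j) ^ 2 = (∑ j, (a i₀ - a j) ^ 2) + (∑ j, (a j₀ - a j) ^ 2) +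
      ∑ i ∈ (univ.erase i₀).erase j₀, ∑ j, (a i - a j) ^ 2 := by
    rw [← add_sum_erase _ _ (mem_univ i₀),
      ← add_sum_erase _ _ (mem_erase.mpr ⟨hne.symm, mem_univ j₀⟩), add_assoc]
  have hrestsum : (((univ.erase i₀).erase j₀).card : ℤ) ≤
      ∑ i ∈ (univ.erase i₀).erase j₀, ∑ j, (a i - a j) ^ 2 := by
    calc (((univ.erase i₀).erase j₀).card : ℤ) = ∑ _i ∈ (univ.erase i₀).erase j₀, (1 : ℤ) := by simp
      _ ≤ _ := sum_le_sum fun i hi => by
        simp only [mem_erase] at hi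
        calc (1 : ℤ) ≤ (a i - a i₀) ^ 2 + (a i - a j₀) ^ 2 := hrest i hi.2.1 hi.1
          _ = ∑ j ∈ ({i₀, j₀} : Finset ι), (a i - a j) ^ 2 := by rw [sum_pair hne]
          _ ≤ ∑ j, (a i - a j) ^ 2 :=
            sum_le_univ_sum_of_nonneg fun j => sq_nonneg _
  have hcard : ((univ.erase i₀).erase j₀).card = Fintype.card ι - 2 := by
    rw [card_erase_of_mem (mem_erase.mpr ⟨hne.symm, mem_univ j₀⟩), card_erase_of_mem (mem_univ i₀),
      card_univ]
    omega
  have h5 : 2 ≤ Fintype.card ι := Fintype.one_lt_card_iff.mpr ⟨i₀, j₀, hne⟩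
  have := two_mul_spread a
  omega

variable {q : ℕ} [NeZero q]

/-- The value at `ω ^ i` of the polynomial with coefficients `n`. -/
noncomputable def gam (ω : ℂ) (n : ZMod q → ℤ) (i : ZMod q) : ℂ :=
  ∑ j : ZMod q, (n j : ℂ) * ω ^ (i * j).val

theorem pow_val_add {ω : ℂ} (hω : ω ^ q = 1) (a b : ZMod q) :
    ω ^ (a + b).val = ω ^ a.val * ω ^ b.val := by
  rw [← pow_add, ZMod.val_add, ← pow_eq_pow_mod _ hω]

theorem conj_pow_val {ω : ℂ} (hω : ω ^ q = 1) (a : ZMod q) :
    conj (ω ^ a.val) = ω ^ (-a).val := by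
  have hn : ‖ω ^ a.val‖ = 1 := by
    rw [norm_pow, Complex.norm_eq_one_of_pow_eq_one hω (NeZero.ne q), one_pow]
  have h1 : ω ^ a.val * ω ^ (-a).val = 1 := by
    rw [← pow_val_add hω, add_neg_cancel, ZMod.val_zero, pow_zero]
  rw [← Complex.inv_eq_conj hn]
  exact inv_eq_of_mul_eq_one_right h1

theorem sum_pow_val {ω : ℂ} (hω : IsPrimitiveRoot ω q) (d : ZMod q) :
    ∑ i : ZMod q, ω ^ (i * d).val = if d = 0 then (q : ℂ) else 0 := by
  have hpow : ∀ i : ZMod q, ω ^ (i * d).val = (ω ^ d.val) ^ i.val := by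
    intro i
    rw [← pow_mul, mul_comm d.val, ZMod.val_mul, ← pow_eq_pow_mod _ hω.pow_eq_one]
  simp only [hpow]
  have e : ∑ i : ZMod q, (ω ^ d.val) ^ i.val = ∑ k ∈ range q, (ω ^ d.val) ^ k := by
    refine Finset.sum_bij (fun i _ => i.val) (fun i _ => mem_range.mpr i.val_lt)
      (fun i _ j _ h => ZMod.val_injective q h) (fun k hk => ⟨(k : ZMod q), mem_univ _, ?_⟩) (fun i _ => rfl)
    exact ZMod.val_natCast_of_lt (mem_range.mp hk)
  rw [e]
  split_ifs with hd
  · simp [hd]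
  · have hne : ω ^ d.val ≠ 1 := hω.pow_ne_one_of_pos_of_lt (fun h => hd ((ZMod.val_eq_zero d).mp h)) d.val_lt
    rw [geom_sum_eq hne, ← pow_mul, mul_comm, pow_mul, hω.pow_eq_one, one_pow, sub_self, zero_div]

/-- Parseval on the multiples of a divisor. -/
theorem sum_norm_sq_gam {ω : ℂ} (hω : IsPrimitiveRoot ω q) (n : ZMod q → ℤ) :
    ∑ i : ZMod q, gam ω n i * conj (gam ω n i) = (q : ℂ) * ∑ j : ZMod q, (n j : ℂ) ^ 2 := by
  classical
  have : ∀ i : ZMod q, gam ω n i * conj (gam ω n i) =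
      ∑ j : ZMod q, ∑ k : ZMod q, (n j : ℂ) * (n k : ℂ) * ω ^ (i * (j - k)).val := by
    intro i
    simp only [gam, map_sum, map_mul, sum_mul_sum, map_intCast, conj_pow_val hω.pow_eq_one]
    refine sum_congr rfl fun j _ => sum_congr rfl fun k _ => ?_
    rw [mul_sub, sub_eq_add_neg, pow_val_add hω.pow_eq_one]
    ring
  simp only [this]
  rw [sum_comm, mul_sum]
  refine sum_congr rfl fun j _ => ?_
  rw [sum_comm]
  simp only [← mul_sum, sum_pow_val hω, sub_eq_zero]
  simp [sq]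
  ring_nf

/-- If the squared absolute values add up to `1` at every primitive root, exactly one term is
nonzero; its coefficient sum is `±1` and the others are `0` modulo `p`. -/
theorem one_nonzero_term {p k : ℕ} [Fact p.Prime] {ω : ℂ} (hω : IsPrimitiveRoot ω (p ^ (k + 1)))
    {R : Type*} [Fintype R] (n : R → ZMod (p ^ (k + 1)) → ℤ)
    (H : ∀ i : ZMod (p ^ (k + 1)), ¬ p ∣ i.val → ∑ r, gam ω (n r) i * conj (gam ω (n r) i) = 1) :
    ∃ r₀, (∑ j, n r₀ j) ^ 2 ≡ 1 [ZMOD p] ∧
      ∀ r, r ≠ r₀ → gam ω (n r) 1 = 0 ∧ (p : ℤ) ∣ ∑ j, n r j := by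
  classical
  have hp : p.Prime := Fact.out
  have hq' : 0 < p ^ k := pow_pos hp.pos k
  set e : ZMod (p ^ k) × ZMod p → ZMod (p ^ (k + 1)) :=
    fun ua => ((ua.1.val + p ^ k * ua.2.val : ℕ) : ZMod (p ^ (k + 1))) with he
  have hlt : ∀ ua : ZMod (p ^ k) × ZMod p, ua.1.val + p ^ k * ua.2.val < p ^ (k + 1) := by
    intro ua
    have h1 := ua.1.val_lt
    have h2 : p ^ k * (ua.2.val + 1) ≤ p ^ k * p := Nat.mul_le_mul_left _ ua.2.val_lt
    rw [pow_succ, Nat.mul_succ] at *
    omega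
  have heval : ∀ ua, (e ua).val = ua.1.val + p ^ k * ua.2.val := fun ua =>
    ZMod.val_natCast_of_lt (hlt ua)
  have hebij : Function.Bijective e := by
    refine (Fintype.bijective_iff_injective_and_card e).mpr ⟨fun a b hab => ?_, by simp [pow_succ]⟩
    have h := congrArg ZMod.val hab
    rw [heval, heval] at h
    have h1 := congrArg (fun x => x % p ^ k) h
    have h2 := congrArg (fun x => x / p ^ k) h
    simp only [Nat.add_mul_mod_self_left, Nat.mod_eq_of_lt a.1.val_lt, Nat.mod_eq_of_lt b.1.val_lt] at h1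
    simp only [Nat.add_mul_div_left _ _ hq', Nat.div_eq_of_lt a.1.val_lt,
      Nat.div_eq_of_lt b.1.val_lt, zero_add] at h2
    exact Prod.ext (ZMod.val_injective _ h1) (ZMod.val_injective _ h2)
  set s : R → ZMod (p ^ k) → ℤ := fun r u => ∑ a : ZMod p, n r (e (u, a)) with hs
  have hsum : ∀ {M : Type} [AddCommMonoid M] (f : ZMod (p ^ (k + 1)) → M),
      ∑ j, f j = ∑ u : ZMod (p ^ k), ∑ a : ZMod p, f (e (u, a)) := by
    intro M _ f
    rw [← hebij.sum_comp f, Fintype.sum_prod_type]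
  have hωp : IsPrimitiveRoot (ω ^ p) (p ^ k) :=
    hω.pow (pow_pos hp.pos _) (by rw [pow_succ, mul_comm])
  -- the values at the multiples of `p`
  have hmul : ∀ r (t : ZMod (p ^ k)), gam ω (n r) ((p * t.val : ℕ) : ZMod (p ^ (k + 1))) = gam (ω ^ p) (s r) t := by
    intro r t
    rw [gam, hsum, gam]
    refine sum_congr rfl fun u _ => ?_
    rw [hs, Int.cast_sum, sum_mul]
    refine sum_congr rfl fun a _ => ?_
    congr 1
    rw [he, ← Nat.cast_mul, ZMod.val_natCast, ← pow_eq_pow_mod _ hω.pow_eq_one, ZMod.val_mul,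
      ← pow_eq_pow_mod _ hωp.pow_eq_one, ← pow_mul]
    rw [mul_add, pow_add, show p * t.val * (p ^ k * a.val) = p ^ (k + 1) * (t.val * a.val) by ring,
      pow_mul ω (p ^ (k + 1)), hω.pow_eq_one, one_pow, mul_one, mul_assoc]
  set F : ZMod (p ^ (k + 1)) → ℂ := fun i => ∑ r, gam ω (n r) i * conj (gam ω (n r) i) with hF
  have hnonunit : ∑ i ∈ univ.filter (fun i : ZMod (p ^ (k + 1)) => p ∣ i.val), F i =
      ∑ r, (p ^ k : ℂ) * ∑ u, (s r u : ℂ) ^ 2 := by
    have : ∑ i ∈ univ.filter (fun i : ZMod (p ^ (k + 1)) => p ∣ i.val), F i =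
        ∑ t : ZMod (p ^ k), F ((p * t.val : ℕ) : ZMod (p ^ (k + 1))) := by
      have hlt' : ∀ t : ZMod (p ^ k), p * t.val < p ^ (k + 1) := fun t => by
        rw [pow_succ, mul_comm (p ^ k)]; exact Nat.mul_lt_mul_of_pos_left t.val_lt hp.pos
      symm
      refine Finset.sum_bij (fun t _ => ((p * t.val : ℕ) : ZMod (p ^ (k + 1)))) (fun t _ => ?_) ?_ ?_ (fun _ _ => rfl)
      · simp only [mem_filter, mem_univ, true_and, ZMod.val_natCast_of_lt (hlt' t)]
        exact dvd_mul_right p _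
      · intro t _ t' _ h
        have := congrArg ZMod.val h
        rw [ZMod.val_natCast_of_lt (hlt' t), ZMod.val_natCast_of_lt (hlt' t')] at this
        exact ZMod.val_injective _ (Nat.eq_of_mul_eq_mul_left hp.pos this)
      · intro i hi
        obtain ⟨c, hc⟩ := (mem_filter.mp hi).2
        refine ⟨(c : ZMod (p ^ k)), mem_univ _, ?_⟩
        have hcl : c < p ^ k := by
          have h := i.val_lt
          rw [hc, pow_succ, mul_comm (p ^ k)] at h
          exact Nat.lt_of_mul_lt_mul_left h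
        rw [ZMod.val_natCast_of_lt hcl, ← hc, ZMod.natCast_zmod_val]
    rw [this]
    simp only [hF, hmul]
    rw [sum_comm]
    refine sum_congr rfl fun r _ => ?_
    rw [sum_norm_sq_gam hωp]
    push_cast; ring
  have hall : ∑ i, F i = ∑ r, (p ^ (k + 1) : ℂ) * ∑ j, (n r j : ℂ) ^ 2 := by
    simp only [hF]
    rw [sum_comm]
    refine sum_congr rfl fun r _ => ?_
    rw [sum_norm_sq_gam hω]
    push_cast; ring
  have hunit : ∑ i ∈ univ.filter (fun i : ZMod (p ^ (k + 1)) => ¬ p ∣ i.val), F i =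
      ((p ^ (k + 1) : ℕ) : ℂ) - ((p ^ k : ℕ) : ℂ) := by
    rw [sum_congr rfl (g := fun _ => (1 : ℂ)) (fun i hi => H i (mem_filter.mp hi).2), sum_const, nsmul_one]
    have hc : (univ.filter (fun i : ZMod (p ^ (k + 1)) => p ∣ i.val)).card = p ^ k := by
      have hlt' : ∀ t : ZMod (p ^ k), p * t.val < p ^ (k + 1) := fun t => by
        rw [pow_succ, mul_comm (p ^ k)]; exact Nat.mul_lt_mul_of_pos_left t.val_lt hp.pos
      rw [← ZMod.card (p ^ k), ← card_univ]
      symm
      refine Finset.card_bij (fun t _ => ((p * t.val : ℕ) : ZMod (p ^ (k + 1)))) (fun t _ => ?_) ?_ ?_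
      · simp only [mem_filter, mem_univ, true_and, ZMod.val_natCast_of_lt (hlt' t)]
        exact dvd_mul_right p _
      · intro t _ t' _ h
        have := congrArg ZMod.val h
        rw [ZMod.val_natCast_of_lt (hlt' t), ZMod.val_natCast_of_lt (hlt' t')] at this
        exact ZMod.val_injective _ (Nat.eq_of_mul_eq_mul_left hp.pos this)
      · intro i hi
        obtain ⟨c, hc⟩ := (mem_filter.mp hi).2
        refine ⟨(c : ZMod (p ^ k)), mem_univ _, ?_⟩
        have hcl : c < p ^ k := by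
          have h := i.val_lt
          rw [hc, pow_succ, mul_comm (p ^ k)] at h
          exact Nat.lt_of_mul_lt_mul_left h
        rw [ZMod.val_natCast_of_lt hcl, ← hc, ZMod.natCast_zmod_val]
    have htot := card_filter_add_card_filter_not (s := (univ : Finset (ZMod (p ^ (k + 1))))) (fun i : ZMod (p ^ (k + 1)) => p ∣ i.val)
    rw [card_univ, ZMod.card, hc] at htot
    rw [eq_sub_iff_add_eq, ← Nat.cast_add, add_comm, htot]
  have htotal := sum_filter_add_sum_filter_not univ (fun i : ZMod (p ^ (k + 1)) => p ∣ i.val) F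
  rw [hnonunit, hunit, hall] at htotal
  have hspread : ∑ r, ∑ u, spread (fun a : ZMod p => n r (e (u, a))) = (p : ℤ) - 1 := by
    have : ((∑ r, ∑ u, spread (fun a : ZMod p => n r (e (u, a))) : ℤ) : ℂ) * (p ^ k : ℂ) =
        ((p : ℂ) - 1) * (p ^ k : ℂ) := by
      simp only [spread, ZMod.card, sum_sub_distrib, ← mul_sum, Int.cast_sub, Int.cast_mul, Int.cast_sum,
        Int.cast_pow, Int.cast_natCast, sub_mul]
      simp only [hs, Int.cast_sum, hsum (fun j => (n _ j : ℂ) ^ 2), Nat.cast_pow, ← mul_sum] at htotal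
      linear_combination -htotal
    have h0 : (p ^ k : ℂ) ≠ 0 := pow_ne_zero _ (Nat.cast_ne_zero.mpr hp.ne_zero)
    exact_mod_cast mul_right_cancel₀ h0 this
  set S : R × ZMod (p ^ k) → ℤ := fun ru => spread (fun a : ZMod p => n ru.1 (e (ru.2, a))) with hS
  have hS0 : ∀ x, 0 ≤ S x := fun x => spread_nonneg _
  rw [← Fintype.sum_prod_type (f := S)] at hspread
  have hp1 : (1 : ℤ) ≤ (p : ℤ) - 1 := by have := hp.two_le; omega
  obtain ⟨⟨r₀, u₀⟩, -, hne⟩ := exists_ne_zero_of_sum_ne_zero (by omega : ∑ x, S x ≠ 0)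
  have hconst : ∀ x, x ≠ (r₀, u₀) → ∀ a b : ZMod p, n x.1 (e (x.2, a)) = n x.1 (e (x.2, b)) := by
    intro x hx
    refine (spread_eq_zero_or_ge _).resolve_right fun hge => ?_
    have h0 : (p : ℤ) - 1 ≤ S (r₀, u₀) := by
      rcases spread_eq_zero_or_ge (fun a : ZMod p => n r₀ (e (u₀, a))) with hc | hc
      · refine absurd ?_ hne
        have := two_mul_spread (fun a : ZMod p => n r₀ (e (u₀, a)))
        simp only [fun i j => sub_eq_zero.mpr (hc i j), ne_eq, OfNat.ofNat_ne_zero, not_false_eq_true,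
          zero_pow, sum_const_zero, mul_eq_zero, false_or] at this
        exact this
      · rwa [ZMod.card] at hc
    rw [ZMod.card] at hge
    have : S x + S (r₀, u₀) ≤ ∑ y, S y := by
      rw [← sum_pair hx]
      exact sum_le_univ_sum_of_nonneg hS0
    change (p : ℤ) - 1 ≤ S x at hge
    omega
  have hval : S (r₀, u₀) = (p : ℤ) - 1 := by
    rw [← hspread]
    symm
    refine sum_eq_single _ (fun x _ hx => ?_) (fun h => absurd (mem_univ _) h)
    have := two_mul_spread (fun a : ZMod p => n x.1 (e (x.2, a)))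
    simp only [fun i j => sub_eq_zero.mpr (hconst x hx i j), ne_eq, OfNat.ofNat_ne_zero, not_false_eq_true,
      zero_pow, sum_const_zero, mul_eq_zero, false_or] at this
    exact this
  have hfib : ∀ x, x ≠ (r₀, u₀) → ∑ a : ZMod p, n x.1 (e (x.2, a)) = (p : ℤ) * n x.1 (e (x.2, 0)) := by
    intro x hx
    rw [sum_congr rfl (fun a _ => hconst x hx a 0), sum_const, card_univ, ZMod.card, nsmul_eq_mul]
  refine ⟨r₀, ?_, fun r hr => ?_⟩
  · have hmod : (∑ j, n r₀ j) ≡ ∑ a : ZMod p, n r₀ (e (u₀, a)) [ZMOD p] := by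
      rw [hsum, ← add_sum_erase _ _ (mem_univ u₀), Int.modEq_iff_dvd, sub_add_cancel_left, dvd_neg]
      refine dvd_sum fun u hu => ?_
      rw [hfib (r₀, u) (by simpa using ne_of_mem_erase hu)]
      exact dvd_mul_right _ _
    refine (hmod.pow 2).trans ?_
    rw [Int.modEq_iff_dvd]
    simp only [hS, spread, ZMod.card] at hval
    exact ⟨1 - ∑ a : ZMod p, n r₀ (e (u₀, a)) ^ 2, by linear_combination hval⟩
  · have hx : ∀ u, (r, u) ≠ (r₀, u₀) := fun u h => hr (congrArg Prod.fst h)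
    constructor
    · have hζ : IsPrimitiveRoot (ω ^ p ^ k) p := hω.pow (pow_pos hp.pos _) (by rw [pow_succ])
      rw [gam, hsum]
      refine sum_eq_zero fun u _ => ?_
      have : ∀ a : ZMod p, ((n r (e (u, a)) : ℤ) : ℂ) * ω ^ (1 * e (u, a)).val =
          ((n r (e (u, 0)) : ℤ) : ℂ) * ω ^ u.val * (ω ^ p ^ k) ^ a.val := by
        intro a
        rw [one_mul, heval, pow_add, pow_mul, hconst (r, u) (hx u) a 0, mul_assoc]
      rw [sum_congr rfl (fun a _ => this a), ← mul_sum]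
      have := sum_pow_val hζ (1 : ZMod p)
      simp only [mul_one, one_ne_zero, if_false] at this
      rw [this, mul_zero]
    · rw [hsum]
      refine dvd_sum fun u _ => ?_
      rw [hfib (r, u) (hx u)]
      exact dvd_mul_right _ _

end CfsgLib.GlaubermanCorr
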